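import Groth.Agent.Lib.Helper22.EGA7.Bridge3

set_option autoImplicit false
set_option linter.unusedSectionVars false
set_option linter.style.haveILetI false
set_option linter.unusedVariables false
universe u
open CategoryTheory CategoryTheory.Limits Opposite TopologicalSpace AlgebraicGeometry Abelian
open MonoidalCategory

namespace Groth.Agent.Lib.Helper22.EGA7

open _root_.Groth.Agent.Lib.Helper22.CohTop _root_.Groth.Agent.Lib.Helper22.ExtCompare
open _root_.Groth.Agent.Lib.Helper22.FBC

section main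

variable (A : Type u) [CommRing A] [IsNoetherianRing A] (X : Scheme.{u})
  [X.Over (Spec (CommRingCat.of A))] [IsProper (fX A X)]
  (F : X.Modules) {ι : Type u} [Finite ι] (U : ι → X.Opens) (hcov : ⨆ i, U i = ⊤)
  (hU : ∀ (n : ℕ) (a : Fin (n + 1) → ι), IsAffineOpen (⨅ k, U (a k)))

include hcov hU in
theorem bridge_aux2 [CompactSpace X] [QuasiSeparatedSpace X] [F.IsQuasicoherent]
    (hF : Coh.IsCoh F) (hfl : FlatMod.IsFlatOver (fX A X) F) :
    ∃ (Q : ChainComplex (ModuleCat.{u} A) ℤ) (d : ℤ),
      (∀ i, Module.Finite A (Q.X i) ∧ Module.Free A (Q.X i)) ∧ (∀ i < d, IsZero (Q.X i)) ∧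
      (∀ (i : ℤ), 0 < i → ∀ M : ModuleCat.{u} A, IsZero ((CohIII.TFun Q i).obj M)) ∧
      ∀ p : ℕ, Nonempty (CohIII.TFun Q (-(p : ℤ)) ⋙ fA A ≅
        CohIII.tensorAFunctor A F ⋙ CohIII.HAb X p) := by
  obtain ⟨d₀, hd₀⟩ := exists_uniform_vanishing X
  have hKflat := flat_KF A X F U hU hfl
  have hPflat := flat_extend (KF A X F U) hKflat
  have hPfin := finite_extend_homology (KF A X F U)
    (fun p => finite_KF_homology A X F U hcov hU hF p)
  have hKvan : ∀ n, d₀ ≤ n → IsZero ((KF A X F U).homology n) := by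
    intro n hn
    haveI := isIso_κF A X F U hcov hU n
    haveI : Subsingleton ((KF A X F U).homology n) :=
      @Function.Injective.subsingleton _ _ _
        (ConcreteCategory.bijective_of_isIso (κF A X F U hcov n)).1 (hd₀ F inferInstance n hn)
    exact ModuleCat.isZero_of_subsingleton _
  have hTvan : ∀ (M : ModuleCat.{u} A) (n : ℕ), d₀ ≤ n →
      IsZero ((CohIII.TFun (KF A X F U) n).obj M) := by
    intro M n hn
    haveI := isIso_c2 A X F U hcov hU M n
    haveI : Subsingleton ((CohIII.TFun (KF A X F U) n).obj M) :=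
      @Function.Injective.subsingleton _ _ _
        (ConcreteCategory.bijective_of_isIso (c2 A X F U hcov M n)).1
        (hd₀ (GM (fX A X) F M) inferInstance n hn)
    exact ModuleCat.isZero_of_subsingleton _
  obtain ⟨Q, u, hQ, hQz, hqi⟩ :=
    Groth.Agent.Lib.Helper11.FFRes.exists_finite_free_resolution ((KF A X F U).extend eND) hPfin
      (-(d₀ : ℤ)) (isZero_extend_homology (KF A X F U) d₀ hKvan)
  haveI := hqi
  have hQflat : ∀ i, Module.Flat A (Q.X i) := fun i => by
    haveI := (hQ i).2
    infer_instance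
  have hQd : ∀ (M : ModuleCat.{u} A) (i : ℤ), i < -(d₀ : ℤ) →
      IsZero ((CohIII.tensorObj Q M).homology i) := fun M i hi =>
    ShortComplex.isZero_homology_of_isZero_X₂ _ (Functor.map_isZero (tensorRight M) (hQz i hi))
  have hPd : ∀ (M : ModuleCat.{u} A) (i : ℤ), i < -(d₀ : ℤ) →
      IsZero ((CohIII.tensorObj ((KF A X F U).extend eND) M).homology i) := fun M i hi =>
    isZero_tensor_extend_homology (KF A X F U) M d₀ (hTvan M) i hi
  have hiso := isIso_homologyMap_tmap Q ((KF A X F U).extend eND) hQflat hPflat u (-(d₀ : ℤ))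
    hQd hPd
  refine ⟨Q, -(d₀ : ℤ), hQ, hQz, ?_, fun p => ⟨?_⟩⟩
  · intro i hi M
    have hz : IsZero ((CohIII.tensorObj ((KF A X F U).extend eND) M).homology i) :=
      ShortComplex.isZero_homology_of_isZero_X₂ _ (Functor.map_isZero (tensorRight M)
        ((KF A X F U).isZero_extend_X eND i (fun n hn => by rw [eND_f] at hn; omega)))
    exact hz.of_iso (@asIso _ _ _ _ _ (hiso i M))
  let N1 : CohIII.TFun Q (eND.f p) ≅ CohIII.TFun ((KF A X F U).extend eND) (eND.f p) :=
    NatIso.ofComponents
      (fun M => @asIso _ _ _ _ (HomologicalComplex.homologyMap (tmap u M) (eND.f p))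
        (hiso (eND.f p) M))
      (fun {M N} g => by
        change HomologicalComplex.homologyMap (CohIII.tensorMap Q g) _ ≫
          HomologicalComplex.homologyMap (tmap u N) _ =
          HomologicalComplex.homologyMap (tmap u M) _ ≫
            HomologicalComplex.homologyMap (CohIII.tensorMap ((KF A X F U).extend eND) g) _
        rw [← HomologicalComplex.homologyMap_comp, ← HomologicalComplex.homologyMap_comp,
          tmap_naturality])
  let N3 : CohIII.TFun (KF A X F U) p ⋙ fA A ≅ CohIII.tensorAFunctor A F ⋙ CohIII.HAb X p :=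
    NatIso.ofComponents
      (fun M => @asIso _ _ _ _ (c2 A X F U hcov M p) (isIso_c2 A X F U hcov hU M p))
      (fun {M N} g => c2_naturality A X F U hcov g p)
  exact Functor.isoWhiskerRight (N1 ≪≫ c1Iso (KF A X F U) p) (fA A) ≪≫ N3

end main

/-- **The bridge**: cohomology of `f^*M~ ⊗ F` is computed, functorially in `M`, by a complex of
finite free modules. -/
theorem bridge2 (A : Type u) [CommRing A] [IsNoetherianRing A] (X : Scheme.{u})
    [X.Over (Spec (CommRingCat.of A))] [IsProper (X ↘ Spec (CommRingCat.of A))]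
    (F : X.Modules) (hF : Coh.IsCoh F)
    (hfl : FlatMod.IsFlatOver (X ↘ Spec (CommRingCat.of A)) F) :
    ∃ (Q : ChainComplex (ModuleCat.{u} A) ℤ) (d : ℤ),
      (∀ i, Module.Finite A (Q.X i) ∧ Module.Free A (Q.X i)) ∧ (∀ i < d, IsZero (Q.X i)) ∧
      (∀ (i : ℤ), 0 < i → ∀ M : ModuleCat.{u} A, IsZero ((CohIII.TFun Q i).obj M)) ∧
      ∀ p : ℕ, Nonempty (CohIII.TFun Q (-(p : ℤ)) ⋙
        forget₂ (ModuleCat.{u} A) AddCommGrpCat.{u} ≅
        CohIII.tensorAFunctor A F ⋙ CohIII.HAb X p) := by
  haveI : X.IsSeparated := isSeparated_of_over (X ↘ Spec (CommRingCat.of A))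
  haveI : CompactSpace X :=
    QuasiCompact.compactSpace_of_compactSpace (X ↘ Spec (CommRingCat.of A))
  haveI : F.IsQuasicoherent := hF.1
  obtain ⟨s, hs, e⟩ := isCompact_iff_finite_and_eq_biUnion_affineOpens.mp
    (show IsCompact ((⊤ : X.Opens) : Set X) by simpa using isCompact_univ)
  haveI : Finite s := hs.to_subtype
  refine bridge_aux2 A X F (fun i : s => (i.1 : X.Opens)) ?_ ?_ hF hfl
  · rw [e, iSup_subtype']
  · intro n a
    exact IsAffineOpen.iInf (fun k => (a k).1.2)

end Groth.Agent.Lib.Helper22.EGA7
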