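import Groth.Agent.Lib.Helper22.EGA7.FR2
import Groth.Agent.Lib.Helper28.FlatCxBc

set_option autoImplicit false
set_option linter.unusedSectionVars false
set_option linter.style.haveILetI false
set_option linter.unusedVariables false
universe u
open CategoryTheory CategoryTheory.Limits Opposite TopologicalSpace AlgebraicGeometry Abelian
open MonoidalCategory TensorProduct

namespace Groth.Agent.Lib.Helper22.EGA7

section FR4

variable (A : Type u) [CommRing A] (X : Scheme.{u}) [X.Over (Spec (CommRingCat.of A))]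
  [CompactSpace X] [X.IsSeparated] (F : X.Modules) [F.IsQuasicoherent]
  (Q : ChainComplex (ModuleCat.{u} A) ℤ) (j : ℤ) (p : ℕ)
  (e : CohIII.TFun Q j ⋙ forget₂ (ModuleCat.{u} A) AddCommGrpCat.{u} ≅
    CohIII.tensorAFunctor A F ⋙ CohIII.HAb X p)

include e in
/-- The fibre rank of `F` equals the rank function of the complex `Q`. -/
theorem fiberRank_eq_dRank (y : ↥(Spec (CommRingCat.of A))) :
    CohIII.fiberRank (X ↘ Spec (CommRingCat.of A)) F p y = CohIII.dRank Q j y := by
  let Y : Scheme.{u} := Spec (CommRingCat.of A)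
  let k : CommRingCat.{u} := Y.residueField y
  let φ : CommRingCat.of A ⟶ k := Spec.preimage (Y.fromSpecResidueField y)
  have hφ : Spec.map φ = Y.fromSpecResidueField y := Spec.map_preimage _
  letI alg : Algebra A k := φ.hom.toAlgebra
  letI ov : ((X ↘ Spec (CommRingCat.of A)).fiber y).Over (Spec (CommRingCat.of ↑k)) :=
    CohIII.fiberOver (X ↘ Spec (CommRingCat.of A)) y
  have H : IsPullback ((X ↘ Spec (CommRingCat.of A)).fiberι y)
      (((X ↘ Spec (CommRingCat.of A)).fiber y) ↘ Spec (CommRingCat.of k))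
      (X ↘ Spec (CommRingCat.of A)) (Spec.map (CommRingCat.ofHom (algebraMap A k))) := by
    have h0 : IsPullback ((X ↘ Spec (CommRingCat.of A)).fiberι y)
        ((X ↘ Spec (CommRingCat.of A)).fiberToSpecResidueField y)
        (X ↘ Spec (CommRingCat.of A)) (Y.fromSpecResidueField y) :=
      IsPullback.of_hasPullback (X ↘ Spec (CommRingCat.of A)) (Y.fromSpecResidueField y)
    have h1 : Spec.map (CommRingCat.ofHom (algebraMap A k)) = Y.fromSpecResidueField y := hφ
    rw [h1]
    exact h0
  obtain ⟨L⟩ := fibre_linearEquiv A k X ((X ↘ Spec (CommRingCat.of A)).fiber y)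
    ((X ↘ Spec (CommRingCat.of A)).fiberι y) H F Q j p e
  have h1 : CohIII.fiberRank (X ↘ Spec (CommRingCat.of A)) F p y =
      Module.finrank k ((CohIII.bcCx (algebraMap A k) Q).homology j) :=
    L.finrank_eq.symm
  rw [h1]
  let x' : PrimeSpectrum k := ⟨⊥, Ideal.isPrime_bot⟩
  have h2 := Groth.Agent.Lib.Helper28.FlatCx.dRank_bcCx (A' := k) Q j x'
  have h3 : CohIII.dRank (CohIII.bcCx (algebraMap A k) Q) j x' =
      Module.finrank k ((CohIII.bcCx (algebraMap A k) Q).homology j) :=
    Groth.Agent.Lib.Helper28.FlatCx.finrank_homology_bcCx_field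
      (algebraMap k x'.asIdeal.ResidueField) (CohIII.bcCx (algebraMap A k) Q) j
  rw [← h3, h2]
  congr 1
  have h4 : (Spec.map φ).base x' = y := by
    rw [hφ]
    exact Scheme.fromSpecResidueField_apply y x'
  exact h4

end FR4

end Groth.Agent.Lib.Helper22.EGA7
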