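import Groth.Agent.Lib.Helper22.EGA7.Linear

set_option autoImplicit false
set_option linter.unusedSectionVars false
set_option linter.style.haveILetI false
set_option linter.unusedVariables false
universe u
open CategoryTheory CategoryTheory.Limits MonoidalCategory TensorProduct ChangeOfRings

namespace Groth.Agent.Lib.Helper22.EGA7

section FR1

variable {A B : Type u} [CommRing A] [CommRing B] [Algebra A B]

variable (A B) in
/-- `B` as an `A`-module (restriction of scalars). -/
noncomputable abbrev BA : ModuleCat.{u} A :=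
  (ModuleCat.restrictScalars (algebraMap A B)).obj (ModuleCat.of B B)

variable (B) in
/-- `M ⊗_A B → B ⊗_A M`, additive. -/
noncomputable def ξfun (M : ModuleCat.{u} A) :
    (M ⊗[A] (BA A B)) ≃+ ((ModuleCat.extendScalars (algebraMap A B)).obj M) :=
  (TensorProduct.comm A M (BA A B)).toAddEquiv

lemma ξfun_tmul (M : ModuleCat.{u} A) (m : M) (x : B) :
    ξfun B M (m ⊗ₜ[A] (x : BA A B)) = x ⊗ₜ[A, algebraMap A B] m := rfl

lemma ξfun_smul (M : ModuleCat.{u} A) (a : A) (t : M ⊗[A] (BA A B)) :
    ξfun B M (a • t) = (algebraMap A B a) • ξfun B M t := by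
  induction t using TensorProduct.induction_on with
  | zero => rw [smul_zero, map_zero, smul_zero]
  | add x y hx hy => rw [smul_add, map_add, hx, hy, map_add, smul_add]
  | tmul m x =>
    have h1 : ((a • m) ⊗ₜ[A] (x : BA A B) : M ⊗[A] BA A B) = m ⊗ₜ[A] (a • x : BA A B) :=
      TensorProduct.smul_tmul a m x
    rw [TensorProduct.smul_tmul', h1]
    rfl

variable (B) in
/-- `M ⊗_A B ≃ B ⊗_A M` as `A`-modules, the target with the restricted structure. -/
noncomputable def ξlin (M : ModuleCat.{u} A) :
    (M ⊗[A] (BA A B)) ≃ₗ[A]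
      ((ModuleCat.restrictScalars (algebraMap A B)).obj
        ((ModuleCat.extendScalars (algebraMap A B)).obj M)) :=
  { ξfun B M with
    map_smul' := fun a t => ξfun_smul M a t }


lemma ξfun_nat {M N : ModuleCat.{u} A} (g : M ⟶ N) (t : M ⊗[A] (BA A B)) :
    ξfun B N ((g ▷ (BA A B)).hom t) =
      ((ModuleCat.extendScalars (algebraMap A B)).map g).hom (ξfun B M t) := by
  induction t using TensorProduct.induction_on with
  | zero => rw [map_zero, map_zero, map_zero, map_zero]
  | add x y hx hy => rw [map_add, map_add, hx, hy, map_add, map_add]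
  | tmul m x => rfl

lemma ξfun_b (M : ModuleCat.{u} A) (b : B) (t : M ⊗[A] (BA A B)) :
    ξfun B M ((M ◁ (ModuleCat.restrictScalars (algebraMap A B)).map
      (b • 𝟙 (ModuleCat.of B B))).hom t) = b • ξfun B M t := by
  induction t using TensorProduct.induction_on with
  | zero => rw [map_zero, map_zero, smul_zero]
  | add x y hx hy => rw [map_add, map_add, hx, hy, map_add, smul_add]
  | tmul m x => rfl

variable {ι : Type} {c : ComplexShape ι} (Q : HomologicalComplex (ModuleCat.{u} A) c)

variable (B) in
/-- `Q ⊗_A B_A ≅ (B ⊗_A Q)_A` as complexes of `A`-modules. -/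
noncomputable def Ξ :
    CohIII.tensorObj Q (BA A B) ≅
      ((ModuleCat.restrictScalars (algebraMap A B)).mapHomologicalComplex c).obj
        (CohIII.bcCx (algebraMap A B) Q) :=
  HomologicalComplex.Hom.isoOfComponents (fun i => (ξlin B (Q.X i)).toModuleIso)
    (fun i i' _ => by
      ext t
      exact (ξfun_nat (Q.d i i') t).symm)

lemma Ξ_b (b : B) :
    CohIII.tensorMap Q ((ModuleCat.restrictScalars (algebraMap A B)).map
        (b • 𝟙 (ModuleCat.of B B))) ≫ (Ξ B Q).hom =
      (Ξ B Q).hom ≫ ((ModuleCat.restrictScalars (algebraMap A B)).mapHomologicalComplex c).map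
        (b • 𝟙 (CohIII.bcCx (algebraMap A B) Q)) := by
  ext i t
  exact ξfun_b (Q.X i) b t


section theta

variable (j : ι)

noncomputable instance : (ModuleCat.restrictScalars.{u} (algebraMap A B)).PreservesHomology := by
  haveI : PreservesFiniteLimits (ModuleCat.restrictScalars.{u} (algebraMap A B)) := inferInstance
  haveI : PreservesFiniteColimits (ModuleCat.restrictScalars.{u} (algebraMap A B)) :=
    inferInstance
  infer_instance

variable (B) in
/-- `H_j(Q ⊗_A B_A) ≅ H_j(B ⊗_A Q)_A`. -/
noncomputable def θiso :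
    (CohIII.TFun Q j).obj (BA A B) ≅
      (ModuleCat.restrictScalars (algebraMap A B)).obj
        ((CohIII.bcCx (algebraMap A B) Q).homology j) :=
  (HomologicalComplex.homologyFunctor _ c j).mapIso (Ξ B Q) ≪≫
    ((CohIII.bcCx (algebraMap A B) Q).sc j).mapHomologyIso
      (ModuleCat.restrictScalars (algebraMap A B))

lemma θiso_b (b : B) :
    (CohIII.TFun Q j).map ((ModuleCat.restrictScalars (algebraMap A B)).map
        (b • 𝟙 (ModuleCat.of B B))) ≫ (θiso B Q j).hom =
      (θiso B Q j).hom ≫ (ModuleCat.restrictScalars (algebraMap A B)).map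
        (b • 𝟙 ((CohIII.bcCx (algebraMap A B) Q).homology j)) := by
  unfold θiso
  have h1 : HomologicalComplex.homologyMap (CohIII.tensorMap Q
      ((ModuleCat.restrictScalars (algebraMap A B)).map (b • 𝟙 (ModuleCat.of B B)))) j ≫
      HomologicalComplex.homologyMap (Ξ B Q).hom j =
      HomologicalComplex.homologyMap (Ξ B Q).hom j ≫
        HomologicalComplex.homologyMap
          (((ModuleCat.restrictScalars (algebraMap A B)).mapHomologicalComplex c).map
            (b • 𝟙 (CohIII.bcCx (algebraMap A B) Q))) j := by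
    rw [← HomologicalComplex.homologyMap_comp, ← HomologicalComplex.homologyMap_comp, Ξ_b]
  have h2 := ShortComplex.mapHomologyIso_hom_naturality
    (φ := (HomologicalComplex.shortComplexFunctor (ModuleCat.{u} B) c j).map
      (b • 𝟙 (CohIII.bcCx (algebraMap A B) Q)))
    (F := ModuleCat.restrictScalars (algebraMap A B))
  have h3 : HomologicalComplex.homologyMap (b • 𝟙 (CohIII.bcCx (algebraMap A B) Q)) j =
      b • 𝟙 _ := homologyMap_smul_id' _ b j
  change HomologicalComplex.homologyMap _ j ≫ (HomologicalComplex.homologyMap (Ξ B Q).hom j ≫ _) =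
    (HomologicalComplex.homologyMap (Ξ B Q).hom j ≫ _) ≫ _
  rw [← Category.assoc, h1, Category.assoc, Category.assoc, ← h3]
  congr 1

end theta

end FR1

end Groth.Agent.Lib.Helper22.EGA7
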