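import Groth.Agent.Lib.Helper28.FlatCxReduced2
import Groth.Agent.Lib.Helper9.FlatCxBC
import Groth.Agent.Lib.Helper22.EGA7.FR1

set_option autoImplicit false
set_option linter.unusedSectionVars false
set_option linter.style.haveILetI false
set_option linter.unusedVariables false
universe u
open CategoryTheory CategoryTheory.Limits Opposite TopologicalSpace
open MonoidalCategory TensorProduct
open CohIII Groth.Agent.Lib.Helper28.FlatCx

namespace Groth.Agent.Lib.Helper22.EGA7

section GlobAlg

variable {A : Type u} [CommRing A] {ι : Type} {c : ComplexShape ι}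

/-- finite-dimensionality of the homology of a base change to a field. -/
lemma finite_homology_bcCx_field {K : Type u} [Field K] [Algebra A K]
    (P : HomologicalComplex (ModuleCat.{u} A) c) (p : ι) [Module.Finite A (P.X p)] :
    Module.Finite K ((bcCx (algebraMap A K) P).homology p) := by
  haveI : Module.Finite K ((bcCx (algebraMap A K) P).X p) := finite_bcCx_X P p
  haveI : Module.Finite K ((bcCx (algebraMap A K) P).opcycles p) :=
    finite_opcycles (bcCx (algebraMap A K) P) p
  exact Module.Finite.of_injective ((bcCx (algebraMap A K) P).homologyι p).hom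
    (homologyι_injective (bcCx (algebraMap A K) P) p)

/-- If `dRank P p y = 0`, then the functor `T_p` of the localization at `y` vanishes. -/
theorem isZero_T_localization_of_dRank_eq_zero [IsNoetherianRing A]
    (P : HomologicalComplex (ModuleCat.{u} A) c)
    (hP : ∀ i, Module.Finite A (P.X i) ∧ Module.Flat A (P.X i)) (p : ι)
    (y : PrimeSpectrum A) (h : dRank P p y = 0)
    (M : ModuleCat.{u} (Localization.AtPrime y.asIdeal)) :
    IsZero ((TFun (bcCx (algebraMap A (Localization.AtPrime y.asIdeal)) P) p).obj M) := by
  have hPB : ∀ i, Module.Finite (Localization.AtPrime y.asIdeal)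
      ((bcCx (algebraMap A (Localization.AtPrime y.asIdeal)) P).X i) ∧
      Module.Flat (Localization.AtPrime y.asIdeal)
      ((bcCx (algebraMap A (Localization.AtPrime y.asIdeal)) P).X i) := fun i =>
    have := (hP i).1
    have := (hP i).2
    ⟨finite_bcCx_X' P i, flat_bcCx_X P i⟩
  refine isZero_T_of_residueField _ hPB p ?_ M
  have h1 : Module.finrank y.asIdeal.ResidueField
      ((bcCx (algebraMap (Localization.AtPrime y.asIdeal) y.asIdeal.ResidueField)
        (bcCx (algebraMap A (Localization.AtPrime y.asIdeal)) P)).homology p) = 0 := by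
    have e1 := ((HomologicalComplex.homologyFunctor _ c p).mapIso
      (bcCxCompIso (algebraMap A (Localization.AtPrime y.asIdeal))
        (algebraMap (Localization.AtPrime y.asIdeal) y.asIdeal.ResidueField)
        P)).toLinearEquiv.finrank_eq
    refine e1.symm.trans ?_
    have e2 := finrank_homology_bcCx_comp (algebraMap A y.asIdeal.ResidueField)
      (RingHom.id y.asIdeal.ResidueField)
      ((algebraMap (Localization.AtPrime y.asIdeal) y.asIdeal.ResidueField).comp
        (algebraMap A (Localization.AtPrime y.asIdeal)))
      (by
        rw [RingHom.id_comp]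
        exact (IsScalarTower.algebraMap_eq A (Localization.AtPrime y.asIdeal)
          y.asIdeal.ResidueField).symm) P p
    exact e2.trans h
  haveI := (hPB p).1
  haveI : Module.Finite y.asIdeal.ResidueField
      ((bcCx (algebraMap (Localization.AtPrime y.asIdeal) y.asIdeal.ResidueField)
        (bcCx (algebraMap A (Localization.AtPrime y.asIdeal)) P)).homology p) :=
    finite_homology_bcCx_field _ p
  have h2 : Subsingleton
      ((bcCx (algebraMap (Localization.AtPrime y.asIdeal) y.asIdeal.ResidueField)
        (bcCx (algebraMap A (Localization.AtPrime y.asIdeal)) P)).homology p) :=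
    Module.finrank_zero_iff.mp h1
  have h3 : IsZero ((TFun (bcCx (algebraMap A (Localization.AtPrime y.asIdeal)) P) p).obj
      (BA (Localization.AtPrime y.asIdeal) y.asIdeal.ResidueField)) := by
    refine IsZero.of_iso ?_ (θiso y.asIdeal.ResidueField
      (bcCx (algebraMap A (Localization.AtPrime y.asIdeal)) P) p)
    haveI : Subsingleton ((ModuleCat.restrictScalars
        (algebraMap (Localization.AtPrime y.asIdeal) y.asIdeal.ResidueField)).obj
        ((bcCx (algebraMap (Localization.AtPrime y.asIdeal) y.asIdeal.ResidueField)
          (bcCx (algebraMap A (Localization.AtPrime y.asIdeal)) P)).homology p)) := h2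
    exact ModuleCat.isZero_of_subsingleton _
  let e : BA (Localization.AtPrime y.asIdeal) y.asIdeal.ResidueField ≅
      ModuleCat.of (Localization.AtPrime y.asIdeal)
        (IsLocalRing.ResidueField (Localization.AtPrime y.asIdeal)) :=
    LinearEquiv.toModuleIso
      { toFun := fun x => x
        invFun := fun x => x
        left_inv := fun _ => rfl
        right_inv := fun _ => rfl
        map_add' := fun _ _ => rfl
        map_smul' := fun b x => (Algebra.smul_def b (x : y.asIdeal.ResidueField)).symm }
  exact IsZero.of_iso h3 ((TFun (bcCx (algebraMap A (Localization.AtPrime y.asIdeal)) P) p).mapIso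
    e.symm)

/-- If `dRank P p` vanishes identically, then `T_p` is exact. -/
theorem exact_of_dRank_eq_zero [IsNoetherianRing A]
    (P : HomologicalComplex (ModuleCat.{u} A) c)
    (hP : ∀ i, Module.Finite A (P.X i) ∧ Module.Flat A (P.X i)) (p q : ι) (hpq : c.Rel p q)
    (h : ∀ x, dRank P p x = 0) :
    (TFun P p).PreservesMonomorphisms ∧ (TFun P p).PreservesEpimorphisms := by
  have hPf : ∀ i, Module.Flat A (P.X i) := fun i => (hP i).2
  have := (hP p).1
  have := (hP q).1
  have hWp : Module.Finite A (P.opcycles p) := finite_opcycles P p
  have hWq : Module.Finite A (P.opcycles q) := finite_opcycles P q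
  have hWp' : Module.FinitePresentation A (P.opcycles p) := Module.finitePresentation_of_finite A _
  have hWq' : Module.FinitePresentation A (P.opcycles q) := Module.finitePresentation_of_finite A _
  have hloc : ∀ y : PrimeSpectrum A,
      (TFun (bcCx (algebraMap A (Localization.AtPrime y.asIdeal)) P) p).PreservesMonomorphisms ∧
      (TFun (bcCx (algebraMap A (Localization.AtPrime y.asIdeal)) P) p).PreservesEpimorphisms := by
    intro y
    have hz := isZero_T_localization_of_dRank_eq_zero P hP p y (h y)
    exact ⟨⟨fun f _ => ⟨fun a b _ => (hz _).eq_of_tgt a b⟩⟩,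
      ⟨fun f _ => ⟨fun a b _ => (hz _).eq_of_src a b⟩⟩⟩
  have f1 : Module.Flat A (P.opcycles p) := by
    have : Module.freeLocus A (P.opcycles p) = Set.univ :=
      Set.eq_univ_of_forall fun y =>
        (preservesMono_bcCx_localization_iff P hP p y).mp (hloc y).1
    have := Module.freeLocus_eq_univ_iff.mp this
    infer_instance
  have f2 : Module.Flat A (P.opcycles q) := by
    have : Module.freeLocus A (P.opcycles q) = Set.univ :=
      Set.eq_univ_of_forall fun y =>
        (preservesEpi_bcCx_localization_iff P hP p q hpq y).mp (hloc y).2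
    have := Module.freeLocus_eq_univ_iff.mp this
    infer_instance
  exact ⟨(preservesMono_iff_flat_opcycles P hPf p).mpr f1,
    (preservesEpi_iff_preservesMono_of_rel P hPf p q hpq).mpr
      ((preservesMono_iff_flat_opcycles P hPf q).mpr f2)⟩

/-- If `T_p` is exact, then `H_p(P)` is finite projective with rank function `dRank P p`. -/
theorem homology_props_of_exact [IsNoetherianRing A]
    (P : HomologicalComplex (ModuleCat.{u} A) c)
    (hP : ∀ i, Module.Finite A (P.X i) ∧ Module.Flat A (P.X i)) (p q : ι) (hpq : c.Rel p q)
    (h : (TFun P p).PreservesMonomorphisms ∧ (TFun P p).PreservesEpimorphisms) :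
    Module.Finite A (P.homology p) ∧ Module.Projective A (P.homology p) ∧
      dRank P p = Module.rankAtStalk (R := A) (P.homology p) := by
  have hPf : ∀ i, Module.Flat A (P.X i) := fun i => (hP i).2
  have := (hP p).1
  have hWp : Module.Finite A (P.opcycles p) := finite_opcycles P p
  have hfinH : Module.Finite A (P.homology p) :=
    Module.Finite.of_injective (P.homologyι p).hom (homologyι_injective P p)
  have hfinT : Module.Finite A ((TFun P p).obj (ModuleCat.of A A)) :=
    Module.Finite.equiv (TAIso P p).toLinearEquiv.symm
  have hfp : Module.FinitePresentation A ((TFun P p).obj (ModuleCat.of A A)) :=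
    Module.finitePresentation_of_finite A _
  obtain ⟨h1, h2, h3⟩ := Groth.Agent.Lib.Helper9.FlatCxBC.dRank_eq_rankAtStalk_of_exact P hPf p q hpq
    h.2 h.1 hfp
  exact ⟨hfinH, Module.Flat.projective_of_finitePresentation, h3⟩

/-- If `dRank P p` vanishes identically, then `H_p(P) = 0`. -/
theorem subsingleton_homology_of_dRank_eq_zero [IsNoetherianRing A]
    (P : HomologicalComplex (ModuleCat.{u} A) c)
    (hP : ∀ i, Module.Finite A (P.X i) ∧ Module.Flat A (P.X i)) (p q : ι) (hpq : c.Rel p q)
    (h : ∀ x, dRank P p x = 0) : Subsingleton (P.homology p) := by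
  obtain ⟨h1, h2, h3⟩ := homology_props_of_exact P hP p q hpq
    (exact_of_dRank_eq_zero P hP p q hpq h)
  haveI := h1
  haveI := h2
  rw [← Module.rankAtStalk_eq_zero_iff_subsingleton (R := A), ← h3]
  funext x
  exact h x

end GlobAlg

end Groth.Agent.Lib.Helper22.EGA7
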