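import Groth.Agent.Lib.Helper22.EGA7.Bridge3

set_option autoImplicit false
set_option linter.unusedSectionVars false
set_option linter.style.haveILetI false
set_option linter.unusedVariables false
universe u
open CategoryTheory CategoryTheory.Limits Opposite TopologicalSpace AlgebraicGeometry Abelian
open MonoidalCategory TensorProduct

namespace Groth.Agent.Lib.Helper22.EGA7

open _root_.Groth.Agent.Lib.Helper22.CohTop _root_.Groth.Agent.Lib.Helper22.ExtCompare
open _root_.Groth.Agent.Lib.Helper22.FBC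
open _root_.Groth.Agent.Lib.Helper29.QCoh

section L1

variable {X : Scheme.{u}}

/-- Morphisms of abelian sheaves on a scheme agreeing on affine opens are equal. -/
lemma sheafHom_ext_affine {𝒢 𝒢' : CohTop.Ab X.carrier} (a b : 𝒢 ⟶ 𝒢')
    (h : ∀ V : X.Opens, IsAffineOpen V → a.hom.app (op V) = b.hom.app (op V)) : a = b := by
  apply Sheaf.hom_ext
  ext W s
  obtain ⟨W⟩ := W
  refine TopCat.Sheaf.eq_of_locally_eq' 𝒢'
    (fun V : {V : X.affineOpens // V.1 ≤ W} => V.1.1) W (fun V => homOfLE V.2) ?_ _ _ ?_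
  · intro x hx
    obtain ⟨V, hV, hxV, hVW⟩ := (Opens.isBasis_iff_nbhd.mp X.isBasis_affineOpens) hx
    exact Opens.mem_iSup.mpr ⟨⟨⟨V, hV⟩, hVW⟩, hxV⟩
  · intro V
    have ha := ConcreteCategory.congr_hom (a.hom.naturality (homOfLE V.2).op) s
    have hb := ConcreteCategory.congr_hom (b.hom.naturality (homOfLE V.2).op) s
    have hab := ConcreteCategory.congr_hom (h V.1.1 V.1.2) (𝒢.obj.map (homOfLE V.2).op s)
    exact ha.symm.trans (hab.trans hb)

end L1

section L2

variable (A : Type u) [CommRing A] (X : Scheme.{u}) [X.Over (Spec (CommRingCat.of A))]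
  (F : X.Modules) [F.IsQuasicoherent]

lemma lTensor_smul_id (N M : Type u) [AddCommGroup N] [Module A N] [AddCommGroup M] [Module A M]
    (a : A) (w : N ⊗[A] M) :
    LinearMap.lTensor N (a • (LinearMap.id : M →ₗ[A] M)) w = a • w := by
  induction w using TensorProduct.induction_on with
  | zero => rw [map_zero, smul_zero]
  | add x y hx hy => rw [map_add, hx, hy, smul_add]
  | tmul n m =>
    rw [LinearMap.lTensor_tmul, LinearMap.smul_apply, LinearMap.id_apply, TensorProduct.tmul_smul]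

/-- `M ↦ f^*M~ ⊗ F` is `A`-linear on endomorphisms `a • 𝟙`. -/
lemma toSheaf_map_tAF_smul (M : ModuleCat.{u} A) (a : A) :
    (SheafOfModules.toSheaf X.ringCatSheaf).map ((CohIII.tensorAFunctor A F).map (a • 𝟙 M)) =
      Coh.smulAb ((CohIII.tensorAFunctor A F).obj M) (Coh.toGlobal (fX A X) a) := by
  refine sheafHom_ext_affine _ _ (fun V hV => ?_)
  ext t
  obtain ⟨w, rfl⟩ := (φlin_bijective (fX A X) F M V hV).2 t
  have h1 := φlin_natM F (a • 𝟙 M) V w
  have h2 : LinearMap.lTensor _ (a • 𝟙 M : M ⟶ M).hom w = a • w :=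
    lTensor_smul_id A _ _ a w
  rw [h2, map_smul] at h1
  exact h1

end L2


section L3

variable {A : Type u} [CommRing A] {κ : Type} {c : ComplexShape κ}

lemma homologyMap_smul_id' (K : HomologicalComplex (ModuleCat.{u} A) c) (a : A) (j : κ) :
    HomologicalComplex.homologyMap (a • 𝟙 K) j = a • 𝟙 _ := by
  have h1 : (HomologicalComplex.shortComplexFunctor (ModuleCat.{u} A) c j).map
      (a • 𝟙 K) = a • 𝟙 _ := rfl
  change ShortComplex.homologyMap _ = _
  rw [h1, ShortComplex.homologyMap_smul, ShortComplex.homologyMap_id]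
  rfl

lemma tensorMap_smul (Q : HomologicalComplex (ModuleCat.{u} A) c) (M : ModuleCat.{u} A) (a : A) :
    CohIII.tensorMap Q (a • 𝟙 M) = a • 𝟙 (CohIII.tensorObj Q M) := by
  ext i : 1
  change Q.X i ◁ (a • 𝟙 M) = (a • 𝟙 (CohIII.tensorObj Q M)).f i
  rw [HomologicalComplex.smul_f_apply, MonoidalLinear.whiskerLeft_smul,
    MonoidalCategory.whiskerLeft_id]
  rfl

lemma TFun_map_smul (Q : HomologicalComplex (ModuleCat.{u} A) c) (j : κ) (M : ModuleCat.{u} A)
    (a : A) : (CohIII.TFun Q j).map (a • 𝟙 M) = a • 𝟙 _ := by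
  change HomologicalComplex.homologyMap (CohIII.tensorMap Q (a • 𝟙 M)) j = _
  rw [tensorMap_smul, homologyMap_smul_id']
  rfl

end L3

section L4

variable (A : Type u) [CommRing A] (X : Scheme.{u}) [X.Over (Spec (CommRingCat.of A))]
  (F : X.Modules) [F.IsQuasicoherent] {κ : Type} {c : ComplexShape κ}

/-- Any natural isomorphism `H_j(Q ⊗ -) ≅ H^p(X, f^*(-)~ ⊗ F)` is automatically `A`-linear. -/
lemma natIso_linear (Q : HomologicalComplex (ModuleCat.{u} A) c) (j : κ) (p : ℕ)
    (e : CohIII.TFun Q j ⋙ fA A ≅ CohIII.tensorAFunctor A F ⋙ CohIII.HAb X p)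
    (M : ModuleCat.{u} A) (a : A) (x : (CohIII.TFun Q j).obj M) :
    (e.hom.app M).hom (a • x) =
      Sheaf.H.map (Coh.smulAb ((CohIII.tensorAFunctor A F).obj M) (Coh.toGlobal (fX A X) a)) p
        ((e.hom.app M).hom x) := by
  have h := ConcreteCategory.congr_hom (e.hom.naturality (a • 𝟙 M)) x
  have h1 : ((CohIII.TFun Q j ⋙ fA A).map (a • 𝟙 M)).hom x = a • x := by
    change ((CohIII.TFun Q j).map (a • 𝟙 M)).hom x = a • x
    rw [TFun_map_smul]
    rfl
  have h2 : (CohIII.tensorAFunctor A F ⋙ CohIII.HAb X p).map (a • 𝟙 M) =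
      AddCommGrpCat.ofHom (Sheaf.H.map
        (Coh.smulAb ((CohIII.tensorAFunctor A F).obj M) (Coh.toGlobal (fX A X) a)) p) := by
    rw [← toSheaf_map_tAF_smul A X F M a]
    rfl
  rw [h2] at h
  change (e.hom.app M).hom (((CohIII.TFun Q j ⋙ fA A).map (a • 𝟙 M)).hom x) = _ at h
  rw [h1] at h
  exact h

end L4

end Groth.Agent.Lib.Helper22.EGA7
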