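import Mathlib

/-!
# The Čech complex functor commutes with additive functors preserving the relevant products (helper22)
-/

set_option autoImplicit false
set_option linter.unusedSectionVars false

universe v₁ v₂ u₁ u₂ u u'

open CategoryTheory CategoryTheory.Limits Opposite Simplicial

namespace Groth.Agent.Lib.Helper22.EGA7

section general

variable {C : Type u'} [Category.{u} C] [HasFiniteProducts C] {ι : Type u} (U : ι → C)
variable {𝒜 : Type u₁} [Category.{v₁} 𝒜] [Preadditive 𝒜] [HasProducts.{u} 𝒜]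

/-- The Čech complex with values in a general preadditive category. -/
noncomputable abbrev CKg (P : Cᵒᵖ ⥤ 𝒜) : CochainComplex 𝒜 ℕ := (cechComplexFunctor U).obj P

/-- The object `U_{σ 0} × ⋯ × U_{σ n}`. -/
noncomputable abbrev Uσg {n : ℕ} (σ : Fin (n + 1) → ι) : C := ∏ᶜ (U ∘ σ)

/-- the underlying cosimplicial object -/
noncomputable abbrev cosimpg (P : Cᵒᵖ ⥤ 𝒜) : CosimplicialObject 𝒜 :=
  (FormalCoproduct.cosimplicialObjectFunctor (FormalCoproduct.mk _ U).cech).obj P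

lemma CKg_d (P : Cᵒᵖ ⥤ 𝒜) (n : ℕ) : (CKg U P).d n (n + 1) =
    ∑ k : Fin (n + 2), (-1 : ℤ) ^ (k : ℕ) • (cosimpg U P).δ k :=
  CochainComplex.of_d (fun n => (cosimpg U P).obj ⦋n⦌)
    (AlgebraicTopology.AlternatingCofaceMapComplex.objD (cosimpg U P)) n

/-- The face map `U_σ ⟶ U_{σ ∘ δ_k}`. -/
noncomputable def faceg {n : ℕ} (σ : Fin (n + 2) → ι) (k : Fin (n + 2)) :
    Uσg U σ ⟶ Uσg U (σ ∘ k.succAbove) :=
  Pi.lift fun j => Pi.π (U ∘ σ) (k.succAbove j)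

/-- Projection to the `σ`-component. -/
noncomputable def projg (P : Cᵒᵖ ⥤ 𝒜) (n : ℕ) (σ : Fin (n + 1) → ι) :
    (CKg U P).X n ⟶ P.obj (op (Uσg U σ)) :=
  Pi.π (fun τ : Fin (n + 1) → ι => P.obj (op (Uσg U τ))) σ

lemma hom_ext_projg (P : Cᵒᵖ ⥤ 𝒜) {n : ℕ} {Z : 𝒜} (a b : Z ⟶ (CKg U P).X n)
    (h : ∀ σ, a ≫ projg U P n σ = b ≫ projg U P n σ) : a = b :=
  Pi.hom_ext (f := fun τ : Fin (n + 1) → ι => P.obj (op (Uσg U τ))) _ _ h

lemma cosimpg_δ_proj (P : Cᵒᵖ ⥤ 𝒜) (n : ℕ) (k : Fin (n + 2)) (σ : Fin (n + 2) → ι) :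
    (cosimpg U P).δ k ≫ projg U P (n + 1) σ =
      projg U P n (σ ∘ k.succAbove) ≫ P.map (faceg U σ k).op := by
  have := Pi.lift_π (fun τ : Fin (n + 2) → ι =>
    Pi.π (fun τ : Fin (n + 1) → ι => P.obj (op (Uσg U τ))) (τ ∘ k.succAbove) ≫
        P.map (faceg U τ k).op) σ
  exact this

lemma sum_zsmul_comp' {A B D : 𝒜} {κ : Type} [Fintype κ] (c : κ → ℤ)
    (f : κ → (A ⟶ B)) (g : B ⟶ D) : (∑ k, c k • f k) ≫ g = ∑ k, c k • (f k ≫ g) := by
  rw [Preadditive.sum_comp]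
  refine Finset.sum_congr rfl fun k _ => ?_
  rw [Preadditive.zsmul_comp]

lemma comp_sum_zsmul' {A B D : 𝒜} {κ : Type} [Fintype κ] (c : κ → ℤ)
    (g : A ⟶ B) (f : κ → (B ⟶ D)) : g ≫ (∑ k, c k • f k) = ∑ k, c k • (g ≫ f k) := by
  rw [Preadditive.comp_sum]
  refine Finset.sum_congr rfl fun k _ => ?_
  rw [Preadditive.comp_zsmul]

/-- The formula for the Čech differential, at the level of morphisms. -/
lemma d_projg (P : Cᵒᵖ ⥤ 𝒜) {n : ℕ} (σ : Fin (n + 2) → ι) :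
    (CKg U P).d n (n + 1) ≫ projg U P (n + 1) σ =
      ∑ k : Fin (n + 2), (-1 : ℤ) ^ (k : ℕ) •
        (projg U P n (σ ∘ k.succAbove) ≫ P.map (faceg U σ k).op) := by
  rw [CKg_d]
  refine (sum_zsmul_comp' (A := (CKg U P).X n) (B := (CKg U P).X (n + 1))
    (fun k : Fin (n + 2) => (-1 : ℤ) ^ (k : ℕ))
    (fun k => (cosimpg U P).δ k) (projg U P (n + 1) σ)).trans ?_
  refine Finset.sum_congr rfl fun k _ => ?_
  exact congrArg (fun φ => (-1 : ℤ) ^ (k : ℕ) • φ) (cosimpg_δ_proj U P n k σ)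

/-- Functoriality in the presheaf, at the level of morphisms. -/
lemma map_projg {P Q : Cᵒᵖ ⥤ 𝒜} (f : P ⟶ Q) (n : ℕ) (σ : Fin (n + 1) → ι) :
    ((cechComplexFunctor U).map f).f n ≫ projg U Q n σ =
      projg U P n σ ≫ f.app (op (Uσg U σ)) :=
  Pi.map_π (fun τ : Fin (n + 1) → ι => f.app (op (Uσg U τ))) σ

end general

section comm

variable {C : Type u'} [Category.{u} C] [HasFiniteProducts C] {ι : Type u} (U : ι → C)
variable {𝒜 : Type u₁} [Category.{v₁} 𝒜] [Preadditive 𝒜] [HasProducts.{u} 𝒜]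
variable {ℬ : Type u₂} [Category.{v₂} ℬ] [Preadditive ℬ] [HasProducts.{u} ℬ]
variable (Φ : 𝒜 ⥤ ℬ) [Φ.Additive]
  [∀ n : ℕ, PreservesLimitsOfShape (Discrete (Fin (n + 1) → ι)) Φ]

/-- The degreewise comparison isomorphism. -/
noncomputable def compIso (P : Cᵒᵖ ⥤ 𝒜) (n : ℕ) :
    Φ.obj ((CKg U P).X n) ≅ (CKg U (P ⋙ Φ)).X n :=
  PreservesProduct.iso Φ (fun σ : Fin (n + 1) → ι => P.obj (op (Uσg U σ)))

lemma compIso_hom_projg (P : Cᵒᵖ ⥤ 𝒜) (n : ℕ) (σ : Fin (n + 1) → ι) :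
    (compIso U Φ P n).hom ≫ projg U (P ⋙ Φ) n σ = Φ.map (projg U P n σ) :=
  piComparison_comp_π Φ (fun σ : Fin (n + 1) → ι => P.obj (op (Uσg U σ))) σ

lemma compIso_d (P : Cᵒᵖ ⥤ 𝒜) (n : ℕ) :
    Φ.map ((CKg U P).d n (n + 1)) ≫ (compIso U Φ P (n + 1)).hom =
      (compIso U Φ P n).hom ≫ (CKg U (P ⋙ Φ)).d n (n + 1) := by
  refine hom_ext_projg U (P ⋙ Φ) _ _ fun σ => ?_
  rw [Category.assoc, Category.assoc, compIso_hom_projg, ← Φ.map_comp, d_projg, d_projg,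
    Functor.map_sum, comp_sum_zsmul']
  refine Finset.sum_congr rfl fun k _ => ?_
  rw [Functor.map_zsmul, Φ.map_comp, ← Category.assoc, compIso_hom_projg]
  rfl

/-- **The Čech complex commutes with `Φ`.** -/
noncomputable def cechMapIso (P : Cᵒᵖ ⥤ 𝒜) :
    (Φ.mapHomologicalComplex (ComplexShape.up ℕ)).obj (CKg U P) ≅ CKg U (P ⋙ Φ) :=
  HomologicalComplex.Hom.isoOfComponents (fun n => compIso U Φ P n) (by
    intro i j hij
    have hj : i + 1 = j := hij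
    subst hj
    exact (compIso_d U Φ P i).symm)

@[simp]
lemma cechMapIso_hom_f (P : Cᵒᵖ ⥤ 𝒜) (n : ℕ) :
    (cechMapIso U Φ P).hom.f n = (compIso U Φ P n).hom := rfl

lemma compIso_naturality {P Q : Cᵒᵖ ⥤ 𝒜} (f : P ⟶ Q) (n : ℕ) :
    Φ.map (((cechComplexFunctor U).map f).f n) ≫ (compIso U Φ Q n).hom =
      (compIso U Φ P n).hom ≫ ((cechComplexFunctor U).map (Functor.whiskerRight f Φ)).f n := by
  refine hom_ext_projg U (Q ⋙ Φ) _ _ fun σ => ?_
  rw [Category.assoc, Category.assoc, compIso_hom_projg, map_projg, ← Category.assoc,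
    compIso_hom_projg, ← Φ.map_comp, map_projg, Φ.map_comp]
  rfl

/-- Naturality in the presheaf. -/
lemma cechMapIso_naturality {P Q : Cᵒᵖ ⥤ 𝒜} (f : P ⟶ Q) :
    (Φ.mapHomologicalComplex (ComplexShape.up ℕ)).map ((cechComplexFunctor U).map f) ≫
        (cechMapIso U Φ Q).hom =
      (cechMapIso U Φ P).hom ≫ (cechComplexFunctor U).map (Functor.whiskerRight f Φ) := by
  ext n : 1
  exact compIso_naturality U Φ f n

variable (Φ' : 𝒜 ⥤ ℬ) [Φ'.Additive]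
  [∀ n : ℕ, PreservesLimitsOfShape (Discrete (Fin (n + 1) → ι)) Φ']

lemma compIso_naturality_functor (τ : Φ ⟶ Φ') (P : Cᵒᵖ ⥤ 𝒜) (n : ℕ) :
    τ.app ((CKg U P).X n) ≫ (compIso U Φ' P n).hom =
      (compIso U Φ P n).hom ≫ ((cechComplexFunctor U).map (Functor.whiskerLeft P τ)).f n := by
  refine hom_ext_projg U (P ⋙ Φ') _ _ fun σ => ?_
  rw [Category.assoc, Category.assoc, compIso_hom_projg, map_projg, ← Category.assoc,
    compIso_hom_projg]
  exact (τ.naturality _).symm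

/-- Naturality in the functor. -/
lemma cechMapIso_naturality_functor (τ : Φ ⟶ Φ') (P : Cᵒᵖ ⥤ 𝒜) :
    (NatTrans.mapHomologicalComplex τ (ComplexShape.up ℕ)).app (CKg U P) ≫
        (cechMapIso U Φ' P).hom =
      (cechMapIso U Φ P).hom ≫ (cechComplexFunctor U).map (Functor.whiskerLeft P τ) := by
  ext n : 1
  exact compIso_naturality_functor U Φ Φ' τ P n

end comm

end Groth.Agent.Lib.Helper22.EGA7
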