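import Groth.Agent.Lib.Helper22.EGA7.Linear

set_option autoImplicit false
set_option linter.unusedSectionVars false
set_option linter.style.haveILetI false
set_option linter.unusedVariables false
universe u
open CategoryTheory CategoryTheory.Limits Opposite TopologicalSpace AlgebraicGeometry Abelian
open MonoidalCategory TensorProduct

namespace Groth.Agent.Lib.Helper22.EGA7

variable (A : Type u) [CommRing A] (X : Scheme.{u}) [X.Over (Spec (CommRingCat.of A))]
  (F : X.Modules) [F.IsQuasicoherent] {κ : Type} {c : ComplexShape κ}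

/-- The `A`-linear equivalence `H_j(Q ⊗ M) ≃ H^p(X, f^*M~ ⊗ F)` induced by a natural isomorphism. -/
noncomputable def linEquivOfIso (Q : HomologicalComplex (ModuleCat.{u} A) c) (j : κ) (p : ℕ)
    (e : CohIII.TFun Q j ⋙ fA A ≅ CohIII.tensorAFunctor A F ⋙ CohIII.HAb X p)
    (M : ModuleCat.{u} A) :
    (CohIII.TFun Q j).obj M ≃ₗ[A] Coh.HH X ((CohIII.tensorAFunctor A F).obj M) p :=
  { (e.app M).addCommGroupIsoToAddEquiv with
    map_smul' := fun a x => natIso_linear A X F Q j p e M a x }

end Groth.Agent.Lib.Helper22.EGA7
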