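import Groth.Agent.Lib.Helper22.EGA7.FR4
import Groth.Agent.Lib.Helper22.EGA7.LinEquiv
import Groth.Agent.Lib.Helper28.FlatCxBounded
import Groth.Agent.Lib.Helper28.FlatCxReduced

set_option autoImplicit false
set_option linter.unusedSectionVars false
set_option linter.style.haveILetI false
set_option linter.unusedVariables false
universe u
open CategoryTheory CategoryTheory.Limits Opposite TopologicalSpace AlgebraicGeometry Abelian
open MonoidalCategory TensorProduct

namespace Groth.Agent.Lib.Helper22.EGA7

section FR5

variable (A : Type u) [CommRing A] (X : Scheme.{u}) [X.Over (Spec (CommRingCat.of A))]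
  (F : X.Modules) [F.IsQuasicoherent] {κ : Type} {c : ComplexShape κ}

/-- `H_j(Q) ≃ H^p(X, F)`, `A`-linearly. -/
noncomputable def homologyEquivHH (Q : HomologicalComplex (ModuleCat.{u} A) c) (j : κ) (p : ℕ)
    (e : CohIII.TFun Q j ⋙ fA A ≅ CohIII.tensorAFunctor A F ⋙ CohIII.HAb X p) :
    Q.homology j ≃ₗ[A] Coh.HH X F p :=
  let w : Coh.HH X ((CohIII.tensorAFunctor A F).obj (ModuleCat.of A A)) p ≃+ Coh.HH X F p :=
    ((CohIII.HAb X p).mapIso (tAFUnitIso A X F)).addCommGroupIsoToAddEquiv
  ((Groth.Agent.Lib.Helper28.FlatCx.TAIso Q j).symm.toLinearEquiv.trans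
    (linEquivOfIso A X F Q j p e (ModuleCat.of A A))).trans
    { w with
      map_smul' := fun a x =>
        HH_map_smul (tAFUnitIso A X F).hom p (Coh.toGlobal (fX A X) a) x }

end FR5

section DVR

variable {A : Type u} [CommRing A] [IsDedekindDomain A]
  {ι : Type} {c : ComplexShape ι}

open Groth.Agent.Lib.Helper28.FlatCx in
/-- Over a Dedekind domain, the opcycles are flat iff the homology is. -/
lemma flat_opcycles_iff_flat_homology (P : HomologicalComplex (ModuleCat.{u} A) c) (p q : ι)
    (hpq : c.Rel p q) [Module.Flat A (P.X q)] :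
    Module.Flat A (P.opcycles p) ↔ Module.Flat A (P.homology p) := by
  haveI : Module.IsTorsionFree A (P.X q) := inferInstance
  haveI : Module.Flat A (LinearMap.range (P.fromOpcycles p q).hom) := inferInstance
  constructor
  · intro h
    exact flat_of_exact_of_flat (P.homologyι p).hom (P.fromOpcycles p q).hom.rangeRestrict
      (homologyι_injective P p) (LinearMap.surjective_rangeRestrict _)
      (exact_homologyι_rangeRestrict P p q hpq)
  · intro h
    exact flat_of_flat_of_flat (P.homologyι p).hom (P.fromOpcycles p q).hom.rangeRestrict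
      (homologyι_injective P p) (LinearMap.surjective_rangeRestrict _)
      (exact_homologyι_rangeRestrict P p q hpq)

open Groth.Agent.Lib.Helper28.FlatCx CohIII in
/-- Over a discrete valuation ring: the rank functions at the closed and the generic point agree
iff `H_j` and `H_{j-1}` are free. -/
theorem dRank_closed_eq_generic_iff {R : Type u} [CommRing R] [IsDomain R]
    [IsDiscreteValuationRing R] (P : ChainComplex (ModuleCat.{u} R) ℤ)
    (hP : ∀ i, Module.Finite R (P.X i) ∧ Module.Free R (P.X i)) (j : ℤ)
    (s : PrimeSpectrum R) (hs : s ≠ ⊥) :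
    dRank P j s = dRank P j ⊥ ↔
      Module.Free R (P.homology j) ∧ Module.Free R (P.homology (j - 1)) := by
  have hP' : ∀ i, Module.Finite R (P.X i) ∧ Module.Flat R (P.X i) := fun i =>
    have := (hP i).2
    ⟨(hP i).1, inferInstance⟩
  have hPf : ∀ i, Module.Flat R (P.X i) := fun i => (hP' i).2
  have r1 : (ComplexShape.down ℤ).Rel j (j - 1) := by
    change j - 1 + 1 = j
    ring
  have r2 : (ComplexShape.down ℤ).Rel (j - 1) (j - 1 - 1) := by
    change j - 1 - 1 + 1 = j - 1
    ring
  have hs' : s = IsLocalRing.closedPoint R := by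
    apply PrimeSpectrum.ext
    have h0 : s.asIdeal ≠ ⊥ := fun h => hs (PrimeSpectrum.ext h)
    have hmax : s.asIdeal.IsMaximal := Ideal.IsPrime.isMaximal s.2 h0
    exact IsLocalRing.eq_maximalIdeal hmax
  have hfinH : ∀ i, Module.Finite R (P.homology i) := fun i =>
    have := (hP i).1
    have : Module.Finite R (P.opcycles i) := finite_opcycles P i
    Module.Finite.of_injective (P.homologyι i).hom (homologyι_injective P i)
  have h1 := exact_iff_dRank_eq_minimalPrimes P hP' j (j - 1) r1
  have h2 : ((TFun P j).PreservesMonomorphisms ∧ (TFun P j).PreservesEpimorphisms) ↔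
      Module.Flat R (P.homology j) ∧ Module.Flat R (P.homology (j - 1)) := by
    rw [preservesEpi_iff_preservesMono_of_rel P hPf j (j - 1) r1,
      preservesMono_iff_flat_opcycles P hPf, preservesMono_iff_flat_opcycles P hPf]
    have := hPf (j - 1)
    have := hPf (j - 1 - 1)
    rw [flat_opcycles_iff_flat_homology P j (j - 1) r1,
      flat_opcycles_iff_flat_homology P (j - 1) (j - 1 - 1) r2]
  have h3 : (Module.Flat R (P.homology j) ∧ Module.Flat R (P.homology (j - 1))) ↔
      (Module.Free R (P.homology j) ∧ Module.Free R (P.homology (j - 1))) := by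
    have := hfinH j
    have := hfinH (j - 1)
    constructor
    · rintro ⟨a, b⟩
      exact ⟨Module.free_of_flat_of_isLocalRing, Module.free_of_flat_of_isLocalRing⟩
    · rintro ⟨a, b⟩
      exact ⟨inferInstance, inferInstance⟩
  rw [← h3, ← h2, h1, IsDomain.minimalPrimes_eq_singleton_bot, ← hs']
  constructor
  · intro h x hx
    have hx' : x = ⊥ := PrimeSpectrum.ext hx
    rw [hx', h]
  · intro h
    exact (h ⊥ rfl).symm

end DVR

end Groth.Agent.Lib.Helper22.EGA7
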