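import Mathlib

/-!
# `Functor.mapHomologicalComplex` commutes with `HomologicalComplex.extend` (helper22)
-/

set_option autoImplicit false
set_option linter.unusedSectionVars false

open CategoryTheory CategoryTheory.Limits

namespace Groth.Agent.Lib.Helper22.EGA7

variable {ι ι' : Type*} {c : ComplexShape ι} {c' : ComplexShape ι'} (e : c.Embedding c')
variable {C D : Type*} [Category C] [Category D] [Preadditive C] [Preadditive D]
  [HasZeroObject C] [HasZeroObject D]
variable (G : C ⥤ D) [G.Additive] (K : HomologicalComplex C c)

/-- The comparison on the auxiliary objects. -/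
noncomputable def extendXMapIso : ∀ o : Option ι,
    G.obj (HomologicalComplex.extend.X K o) ≅
      HomologicalComplex.extend.X ((G.mapHomologicalComplex c).obj K) o
  | some _ => Iso.refl _
  | none => (G.map_isZero (isZero_zero C)).iso (isZero_zero D)

lemma extendXMapIso_d (o o' : Option ι) :
    G.map (HomologicalComplex.extend.d K o o') ≫ (extendXMapIso G K o').hom =
      (extendXMapIso G K o).hom ≫
        HomologicalComplex.extend.d ((G.mapHomologicalComplex c).obj K) o o' := by
  match o, o' with
  | none, o' =>
    have h1 : HomologicalComplex.extend.d K none o' = 0 := rfl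
    have h2 : HomologicalComplex.extend.d ((G.mapHomologicalComplex c).obj K) none o' = 0 := rfl
    rw [h1, h2, G.map_zero, zero_comp, comp_zero]
  | some i, some j =>
    change G.map (K.d i j) ≫ 𝟙 _ = 𝟙 _ ≫ G.map (K.d i j)
    rw [Category.comp_id, Category.id_comp]
  | some i, none =>
    have h1 : HomologicalComplex.extend.d K (some i) none = 0 := rfl
    have h2 : HomologicalComplex.extend.d ((G.mapHomologicalComplex c).obj K) (some i) none = 0 :=
      rfl
    rw [h1, h2, G.map_zero, zero_comp, comp_zero]

/-- **`mapHomologicalComplex` commutes with `extend`.** -/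
noncomputable def mapExtendIso :
    (G.mapHomologicalComplex c').obj (K.extend e) ≅
      ((G.mapHomologicalComplex c).obj K).extend e :=
  HomologicalComplex.Hom.isoOfComponents (fun i' => extendXMapIso G K (e.r i'))
    (fun i' j' _ => (extendXMapIso_d G K (e.r i') (e.r j')).symm)

@[simp]
lemma mapExtendIso_hom_f (i' : ι') :
    (mapExtendIso e G K).hom.f i' = (extendXMapIso G K (e.r i')).hom := rfl

variable {K} in
lemma extendXMapIso_naturality {L : HomologicalComplex C c} (φ : K ⟶ L) (o : Option ι) :
    G.map (HomologicalComplex.extend.mapX φ o) ≫ (extendXMapIso G L o).hom =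
      (extendXMapIso G K o).hom ≫
        HomologicalComplex.extend.mapX ((G.mapHomologicalComplex c).map φ) o := by
  match o with
  | none =>
    have h1 : HomologicalComplex.extend.mapX φ none = 0 := rfl
    have h2 : HomologicalComplex.extend.mapX ((G.mapHomologicalComplex c).map φ) none = 0 := rfl
    rw [h1, h2, G.map_zero, zero_comp, comp_zero]
  | some i =>
    change G.map (φ.f i) ≫ 𝟙 _ = 𝟙 _ ≫ G.map (φ.f i)
    rw [Category.comp_id, Category.id_comp]

variable {K} in
/-- Naturality in the complex. -/
lemma mapExtendIso_naturality {L : HomologicalComplex C c} (φ : K ⟶ L) :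
    (G.mapHomologicalComplex c').map (HomologicalComplex.extendMap φ e) ≫
        (mapExtendIso e G L).hom =
      (mapExtendIso e G K).hom ≫
        HomologicalComplex.extendMap ((G.mapHomologicalComplex c).map φ) e := by
  ext i' : 1
  exact extendXMapIso_naturality G φ (e.r i')

variable (G' : C ⥤ D) [G'.Additive]

lemma extendXMapIso_naturality_functor (τ : G ⟶ G') (o : Option ι) :
    τ.app (HomologicalComplex.extend.X K o) ≫ (extendXMapIso G' K o).hom =
      (extendXMapIso G K o).hom ≫
        HomologicalComplex.extend.mapX
          ((NatTrans.mapHomologicalComplex τ c).app K) o := by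
  match o with
  | none =>
    apply ((G.map_isZero (isZero_zero C))).eq_of_src
  | some i =>
    change τ.app (K.X i) ≫ 𝟙 _ = 𝟙 _ ≫ τ.app (K.X i)
    rw [Category.comp_id, Category.id_comp]

/-- Naturality in the functor. -/
lemma mapExtendIso_naturality_functor (τ : G ⟶ G') :
    (NatTrans.mapHomologicalComplex τ c').app (K.extend e) ≫ (mapExtendIso e G' K).hom =
      (mapExtendIso e G K).hom ≫
        HomologicalComplex.extendMap ((NatTrans.mapHomologicalComplex τ c).app K) e := by
  ext i' : 1
  exact extendXMapIso_naturality_functor G K G' τ (e.r i')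

end Groth.Agent.Lib.Helper22.EGA7
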