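import Groth.Agent.Lib.Helper22.EGA7.Bridge3

set_option autoImplicit false
set_option linter.unusedSectionVars false
set_option linter.style.haveILetI false
set_option linter.unusedVariables false
universe u
open CategoryTheory CategoryTheory.Limits Opposite TopologicalSpace AlgebraicGeometry Abelian
open MonoidalCategory TensorProduct

namespace Groth.Agent.Lib.Helper22.EGA7

open _root_.Groth.Agent.Lib.Helper22.CohTop _root_.Groth.Agent.Lib.Helper22.ExtCompare
open _root_.Groth.Agent.Lib.Helper22.FBC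
open _root_.Groth.Agent.Lib.Helper29.QCoh

variable {A B : Type u} [CommRing A] [CommRing B] [Algebra A B]
  {X X' : Scheme.{u}} (f : X ⟶ Spec (CommRingCat.of A)) (f' : X' ⟶ Spec (CommRingCat.of B))
  (g : X' ⟶ X) (hw : g ≫ f = f' ≫ Spec.map (CommRingCat.ofHom (algebraMap A B)))
  (F : X.Modules) (M : ModuleCat.{u} B)

/-- `g^*F`. -/
noncomputable abbrev Fp : X'.Modules := (Scheme.Modules.pullback g).obj F

variable (A) in
/-- `M` as an `A`-module. -/
noncomputable abbrev MA : ModuleCat.{u} A := (ModuleCat.restrictScalars (algebraMap A B)).obj M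

/-- the pairing `s, m ↦ m~ ⊗ g^*s` -/
noncomputable def ψfun (V : X.Opens) (s : SecA f F V) (m : M) :
    Γ(GM f' (Fp g F) M, g ⁻¹ᵁ V) :=
  tmulSec (QM (B := B) M f') (Fp g F) (mRes f' M (g ⁻¹ᵁ V) m) (pullSect g F V s)

lemma ψfun_add_left (V : X.Opens) (s s' : SecA f F V) (m : M) :
    ψfun f f' g F M V (s + s') m = ψfun f f' g F M V s m + ψfun f f' g F M V s' m := by
  unfold ψfun
  rw [show pullSect g F V (s + s') = pullSect g F V s + pullSect g F V s' from map_add _ s s',
    FBC.tmulSec_add_right]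

lemma ψfun_add_right (V : X.Opens) (s : SecA f F V) (m m' : M) :
    ψfun f f' g F M V s (m + m') = ψfun f f' g F M V s m + ψfun f f' g F M V s m' := by
  unfold ψfun
  rw [map_add, FBC.tmulSec_add_left]

lemma ψfun_smulB (V : X.Opens) (s : SecA f F V) (b : B) (m : M) :
    ψfun f f' g F M V s (b • m) = (αU f' (g ⁻¹ᵁ V)).hom b • ψfun f f' g F M V s m := by
  unfold ψfun
  rw [mRes_smul, FBC.tmulSec_smul_left]

include hw in
lemma ψfun_smulA (V : X.Opens) (a : A) (s : SecA f F V) (m : M) :
    ψfun f f' g F M V (a • s) m = ψfun f f' g F M V s (algebraMap A B a • m) := by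
  rw [ψfun_smulB]
  unfold ψfun
  rw [show pullSect g F V (a • s) = g.app V ((αU f V).hom a) • pullSect g F V s from
    pullSect_smul g F V _ _, FBC.tmulSec_smul_right]
  have h := congrArg (fun k => k.hom a) (sq_comm f f' g hw V)
  exact congrArg (fun r => r • tmulSec (QM (B := B) M f') (Fp g F) (mRes f' M (g ⁻¹ᵁ V) m)
    (pullSect g F V s)) h

/-- The comparison `Γ(F, V) ⊗_A M → Γ(f'^*M~ ⊗ g^*F, g⁻¹V)`. -/
noncomputable def ψadd (V : X.Opens) :
    SecA f F V ⊗[A] (MA A M) →+ Γ(GM f' (Fp g F) M, g ⁻¹ᵁ V) :=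
  TensorProduct.liftAddHom
    (AddMonoidHom.mk' (fun s : SecA f F V => AddMonoidHom.mk' (fun m : MA A M =>
        ψfun f f' g F M V s (show M from m))
      (fun m m' => ψfun_add_right f f' g F M V s _ _))
      (fun s s' => by
        ext m
        exact ψfun_add_left f f' g F M V s s' _))
    (fun a s m => ψfun_smulA f f' g hw F M V a s _)

lemma ψadd_tmul (V : X.Opens) (s : SecA f F V) (m : MA A M) :
    ψadd f f' g hw F M V (s ⊗ₜ m) = ψfun f f' g F M V s (show M from m) := rfl


lemma ψadd_res {V W : X.Opens} (h : W ≤ V) (t : SecA f F V ⊗[A] (MA A M)) :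
    ψadd f f' g hw F M W (LinearMap.rTensor (MA A M) (resA f F h) t) =
      res (GM f' (Fp g F) M) (g.preimage_mono h) (ψadd f f' g hw F M V t) := by
  induction t using TensorProduct.induction_on with
  | zero => rw [map_zero, map_zero, map_zero, map_zero]
  | add x y hx hy => rw [map_add, map_add, map_add, map_add, hx, hy]
  | tmul s m =>
    rw [LinearMap.rTensor_tmul, ψadd_tmul, ψadd_tmul]
    unfold ψfun
    rw [res_tmulSec, res_mRes]
    congr 1
    exact pullSect_res g F h s

/-- The comparison as a morphism of presheaves of abelian groups on `X`. -/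
noncomputable def ΨM : (PA f F ⋙ tensorRight (MA A M)) ⋙ fA A ⟶
    ((Coh.pushAb g).obj (Coh.toAb (GM f' (Fp g F) M))).obj where
  app V := AddCommGrpCat.ofHom (ψadd f f' g hw F M V.unop)
  naturality := by
    intro V W i
    ext t
    exact ψadd_res f f' g hw F M (leOfHom i.unop) t

end Groth.Agent.Lib.Helper22.EGA7
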