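import Groth.Agent.Lib.Helper22.EGA7.BC1

set_option autoImplicit false
set_option linter.unusedSectionVars false
set_option linter.style.haveILetI false
set_option linter.unusedVariables false
universe u
open CategoryTheory CategoryTheory.Limits Opposite TopologicalSpace AlgebraicGeometry Abelian
open MonoidalCategory TensorProduct

namespace Groth.Agent.Lib.Helper22.EGA7

open _root_.Groth.Agent.Lib.Helper22.CohTop _root_.Groth.Agent.Lib.Helper22.ExtCompare
open _root_.Groth.Agent.Lib.Helper22.FBC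
open _root_.Groth.Agent.Lib.Helper29.QCoh

variable {A B : Type u} [CommRing A] [CommRing B] [Algebra A B]
  {X X' : Scheme.{u}} (f : X ⟶ Spec (CommRingCat.of A)) (f' : X' ⟶ Spec (CommRingCat.of B))
  (g : X' ⟶ X) (hw : g ≫ f = f' ≫ Spec.map (CommRingCat.ofHom (algebraMap A B)))
  (F : X.Modules) (M : ModuleCat.{u} B)

include hw in
lemma ψadd_smul (V : X.Opens) (a : A) (t : SecA f F V ⊗[A] (MA A M)) :
    ψadd f f' g hw F M V (a • t) =
      (αU f' (g ⁻¹ᵁ V)).hom (algebraMap A B a) • ψadd f f' g hw F M V t := by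
  induction t using TensorProduct.induction_on with
  | zero => rw [smul_zero, map_zero, smul_zero]
  | add x y hx hy => rw [smul_add, map_add, map_add, hx, hy, smul_add]
  | tmul s m =>
    rw [TensorProduct.smul_tmul', ψadd_tmul, ψadd_tmul, ψfun_smulA f f' g hw, ψfun_smulB]

variable [IsAffineHom g] [F.IsQuasicoherent]

set_option maxRecDepth 8192 in
theorem ψadd_bijective (H : IsPullback g f' f (Spec.map (CommRingCat.ofHom (algebraMap A B))))
    (V : X.Opens) (hV : IsAffineOpen V) :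
    Function.Bijective (ψadd f f' g H.w F M V) := by
  have hV' : IsAffineOpen (g ⁻¹ᵁ V) := hV.preimage g
  letI modAM₀ : Module A Γ(Mt (B := B) M, ⊤) :=
    Module.compHom Γ(Mt (B := B) M, ⊤)
      (CommRingCat.ofHom (algebraMap A B) ≫ αU (𝟙 (Spec (CommRingCat.of B))) ⊤).hom
  let tE : MA A M ≃ₗ[A] Γ(Mt (B := B) M, ⊤) :=
    { AddEquiv.ofBijective (tSec (B := B) M) (tSec_bijective M) with
      map_smul' := fun a m => by
        change tSec (B := B) M (algebraMap A B a • (show M from m)) =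
          (αU (𝟙 (Spec (CommRingCat.of B))) ⊤).hom (algebraMap A B a) • tSec (B := B) M m
        rw [tSec_smul] }
  letI modT : Module A Γ(GM f' (Fp g F) M, g ⁻¹ᵁ V) :=
    Module.compHom _ ((αU f' (g ⁻¹ᵁ V)).hom.comp (algebraMap A B))
  let ψlin : SecA f F V ⊗[A] (MA A M) →ₗ[A] Γ(GM f' (Fp g F) M, g ⁻¹ᵁ V) :=
    { ψadd f f' g H.w F M V with
      map_smul' := fun a t => ψadd_smul f f' g H.w F M V a t }
  let E : Γ(Mt (B := B) M, ⊤) ⊗[A] SecA f F V ≃ₗ[A] SecA f F V ⊗[A] (MA A M) :=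
    (TensorProduct.congr tE.symm (LinearEquiv.refl A _)).trans (TensorProduct.comm A _ _)
  let Θ₀ : Γ(Mt (B := B) M, ⊤) ⊗[A] SecA f F V →ₗ[A] Γ(GM f' (Fp g F) M, g ⁻¹ᵁ V) :=
    ψlin.comp E.toLinearMap
  have hΘ₀ : Function.Bijective Θ₀ := by
    refine tp_of_pushout
      (CommRingCat.ofHom (algebraMap A B) ≫ αU (𝟙 (Spec (CommRingCat.of B))) ⊤)
      (αU f V) (f'.appLE ⊤ (g ⁻¹ᵁ V) le_top) (g.appLE V (g ⁻¹ᵁ V) le_rfl)
      (isPushout_sections₀ f f' g H V hV)
      (M := Γ(Mt (B := B) M, ⊤)) (fun _ _ => rfl) (N := Γ(F, V))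
      (P := Γ(Fp g F, g ⁻¹ᵁ V)) (Q := Γ(QM (B := B) M f', g ⁻¹ᵁ V))
      (T := Γ(GM f' (Fp g F) M, g ⁻¹ᵁ V))
      (pullSect g F V) ?_
      ((res (QM (B := B) M f') (le_top : g ⁻¹ᵁ V ≤ ⊤)).comp (pullSect f' (Mt (B := B) M) ⊤)) ?_
      ((TensorProduct.comm Γ(X', g ⁻¹ᵁ V) Γ(Fp g F, g ⁻¹ᵁ V) Γ(QM (B := B) M f', g ⁻¹ᵁ V)).trans
        (tensorSectionsEquiv (QM (B := B) M f') (Fp g F) hV')).toAddEquiv
      Θ₀ (AddEquiv.refl _) (AddEquiv.refl _) ?_ ?_
    · refine ⟨pullbackSectionsEquiv g F hV' hV le_rfl, fun m => ?_⟩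
      have h := Groth.Agent.Helper19.PullUnit.pullbackSectionsEquiv_pullSect g F hV' hV le_rfl m
      have h2 : res ((Scheme.Modules.pullback g).obj F) le_rfl (pullSect g F V m) =
          pullSect g F V m := res_self _ _
      rw [h2] at h
      exact h
    · exact ⟨pullbackSectionsEquiv f' (Mt (B := B) M) hV' (isAffineOpen_top _) le_top,
        fun m₀ => Groth.Agent.Helper19.PullUnit.pullbackSectionsEquiv_pullSect f' (Mt (B := B) M)
          hV' (isAffineOpen_top _) le_top m₀⟩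
    · intro a x
      rfl
    · intro m₀ x
      have h2 : mRes f' M (g ⁻¹ᵁ V) (tE.symm m₀) =
          res (QM (B := B) M f') (le_top : g ⁻¹ᵁ V ≤ ⊤) (pullSect f' (Mt (B := B) M) ⊤ m₀) := by
        change res _ _ (pullSect f' (Mt (B := B) M) ⊤ (tE (tE.symm m₀))) = _
        rw [LinearEquiv.apply_symm_apply]
        rfl
      change tmulSec (QM (B := B) M f') (Fp g F) (mRes f' M (g ⁻¹ᵁ V) (tE.symm m₀))
        (pullSect g F V (show Γ(F, V) from x)) = _
      rw [h2]
      rfl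
  exact (Function.Bijective.of_comp_iff _ E.bijective).1 hΘ₀

end Groth.Agent.Lib.Helper22.EGA7
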