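import Groth.Agent.Lib.Helper22.EGA7.BC2
import Groth.Agent.Lib.Helper22.FBC.Main

set_option autoImplicit false
set_option linter.unusedSectionVars false
set_option linter.style.haveILetI false
set_option linter.unusedVariables false
universe u
open CategoryTheory CategoryTheory.Limits Opposite TopologicalSpace AlgebraicGeometry Abelian
open MonoidalCategory TensorProduct

namespace Groth.Agent.Lib.Helper22.EGA7

open _root_.Groth.Agent.Lib.Helper22.CohTop _root_.Groth.Agent.Lib.Helper22.ExtCompare
open _root_.Groth.Agent.Lib.Helper22.FBC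
open _root_.Groth.Agent.Lib.Helper29.QCoh

variable (A B : Type u) [CommRing A] [CommRing B] [Algebra A B]
  (X X' : Scheme.{u}) [X.Over (Spec (CommRingCat.of A))] [X'.Over (Spec (CommRingCat.of B))]
  (g : X' ⟶ X)
  (hw : g ≫ fX A X = fX B X' ≫ Spec.map (CommRingCat.ofHom (algebraMap A B)))
  (F : X.Modules)

/-- Naturality of `ψadd` in the module. -/
lemma ψadd_natM {M N : ModuleCat.{u} B} (h : M ⟶ N) (V : X.Opens)
    (t : SecA (fX A X) F V ⊗[A] (MA A M)) :
    ((CohIII.tensorAFunctor B (Fp g F)).map h).app (g ⁻¹ᵁ V)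
        (ψadd (fX A X) (fX B X') g hw F M V t) =
      ψadd (fX A X) (fX B X') g hw F N V
        (LinearMap.lTensor _ ((ModuleCat.restrictScalars (algebraMap A B)).map h).hom t) := by
  induction t using TensorProduct.induction_on with
  | zero => rw [map_zero, map_zero, map_zero]; exact map_zero _
  | add x y hx hy =>
    rw [map_add, map_add, map_add, ← hx, ← hy]
    exact map_add _ _ _
  | tmul s m =>
    rw [LinearMap.lTensor_tmul, ψadd_tmul, ψadd_tmul]
    unfold ψfun
    have h1 := mRes_map (A := B) (X := X') h (g ⁻¹ᵁ V) (show M from m)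
    refine Eq.trans ?_ (congrArg (fun z => tmulSec (QM (B := B) N (fX B X')) (Fp g F) z
      (pullSect g F V s)) h1)
    exact tensorRightMod_map_tmulSec (Fp g F) _ (g ⁻¹ᵁ V) _ _


section c3

variable {ι : Type u} [Finite ι] (U : ι → X.Opens) (hcov : ⨆ i, U i = ⊤)

/-- the pushed-forward abelian sheaf `g_*(f'^*M~ ⊗ g^*F)` -/
noncomputable abbrev GP (M : ModuleCat.{u} B) : CohTop.Ab X.carrier :=
  (Coh.pushAb g).obj (Coh.toAb (GM (fX B X') (Fp g F) M))

/-- `H^p(K ⊗_A M) → H^p(X, g_*(f'^*M~ ⊗ g^*F))`. -/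
noncomputable def c3pre (M : ModuleCat.{u} B) (p : ℕ) :
    (fA A).obj ((CohIII.TFun (KF A X F U) p).obj (MA A M)) ⟶
      (Sheaf.functorH (Opens.grothendieckTopology X) p).obj (GP B X X' g F M) :=
  (fA A).map (HomologicalComplex.homologyMap
      (cechMapIso (Yf X.carrier U) (tensorRight (MA A M)) (ov X.carrier ⋙ PA (fX A X) F)).hom p) ≫
    κ X.carrier U hcov (PA (fX A X) F ⋙ tensorRight (MA A M)) (GP B X X' g F M)
      (ΨM (fX A X) (fX B X') g hw F M) p

lemma c3pre_naturality {M N : ModuleCat.{u} B} (h : M ⟶ N) (p : ℕ) :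
    (fA A).map ((CohIII.TFun (KF A X F U) p).map
        ((ModuleCat.restrictScalars (algebraMap A B)).map h)) ≫
        c3pre A B X X' g hw F U hcov N p =
      c3pre A B X X' g hw F U hcov M p ≫
        (Sheaf.functorH (Opens.grothendieckTopology X) p).map
          ((Coh.pushAb g).map ((SheafOfModules.toSheaf X'.ringCatSheaf).map
            ((CohIII.tensorAFunctor B (Fp g F)).map h))) := by
  unfold c3pre
  set h' := (ModuleCat.restrictScalars (algebraMap A B)).map h with hh'
  have h1 := cechMapIso_naturality_functor (Yf X.carrier U) (tensorRight (MA A M))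
    (tensorRight (MA A N))
    ((tensoringRight (ModuleCat.{u} A)).map h') (ov X.carrier ⋙ PA (fX A X) F)
  have h2 : (CohIII.TFun (KF A X F U) p).map h' ≫ HomologicalComplex.homologyMap
      (cechMapIso (Yf X.carrier U) (tensorRight (MA A N)) (ov X.carrier ⋙ PA (fX A X) F)).hom p =
      HomologicalComplex.homologyMap
        (cechMapIso (Yf X.carrier U) (tensorRight (MA A M))
          (ov X.carrier ⋙ PA (fX A X) F)).hom p ≫
        HomologicalComplex.homologyMap ((cechComplexFunctor (Yf X.carrier U)).map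
          (Functor.whiskerLeft (ov X.carrier)
            (Functor.whiskerLeft (PA (fX A X) F)
              ((tensoringRight (ModuleCat.{u} A)).map h')))) p := by
    change HomologicalComplex.homologyMap (CohIII.tensorMap (KF A X F U) h') p ≫ _ = _
    rw [← HomologicalComplex.homologyMap_comp, ← HomologicalComplex.homologyMap_comp]
    congr 1
  have h3 := κ_naturality X.carrier U hcov (ΨM (fX A X) (fX B X') g hw F M)
    (ΨM (fX A X) (fX B X') g hw F N)
    (Functor.whiskerLeft (PA (fX A X) F) ((tensoringRight (ModuleCat.{u} A)).map h'))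
    ((Coh.pushAb g).map ((SheafOfModules.toSheaf X'.ringCatSheaf).map
      ((CohIII.tensorAFunctor B (Fp g F)).map h))) (by
      ext V t
      exact (ψadd_natM A B X X' g hw F h V.unop t).symm) p
  have h2' := congrArg (fun k => (fA A).map k) h2
  refine (Category.assoc _ _ _).symm.trans ?_
  refine (congrArg (fun k => k ≫ κ X.carrier U hcov (PA (fX A X) F ⋙ tensorRight (MA A N))
    (GP B X X' g F N) (ΨM (fX A X) (fX B X') g hw F N) p)
      (((fA A).map_comp _ _).symm.trans (h2'.trans ((fA A).map_comp _ _)))).trans ?_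
  refine (Category.assoc _ _ _).trans ?_
  refine (congrArg (fun k => (fA A).map (HomologicalComplex.homologyMap
      (cechMapIso (Yf X.carrier U) (tensorRight (MA A M))
        (ov X.carrier ⋙ PA (fX A X) F)).hom p) ≫ k) h3).trans ?_
  exact (Category.assoc _ _ _).symm

lemma isIso_c3pre [IsAffineHom g] [F.IsQuasicoherent]
    (H : IsPullback g (fX B X') (fX A X) (Spec.map (CommRingCat.ofHom (algebraMap A B))))
    (hU : ∀ (n : ℕ) (a : Fin (n + 1) → ι), IsAffineOpen (⨅ k, U (a k)))
    (M : ModuleCat.{u} B) (p : ℕ) : IsIso (c3pre A B X X' g H.w F U hcov M p) := by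
  unfold c3pre
  have h0 : IsIso (HomologicalComplex.homologyMap
      (cechMapIso (Yf X.carrier U) (tensorRight (MA A M))
        (ov X.carrier ⋙ PA (fX A X) F)).hom p) := by
    change IsIso ((HomologicalComplex.homologyFunctor _ _ p).map _)
    infer_instance
  have h1 : IsIso ((fA A).map (HomologicalComplex.homologyMap
      (cechMapIso (Yf X.carrier U) (tensorRight (MA A M))
        (ov X.carrier ⋙ PA (fX A X) F)).hom p)) :=
    inferInstance
  haveI : (Fp g F).IsQuasicoherent := inferInstance
  haveI : (GM (fX B X') (Fp g F) M).IsQuasicoherent := inferInstance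
  haveI : ((Scheme.Modules.pushforward g).obj (GM (fX B X') (Fp g F) M)).IsQuasicoherent :=
    isQuasicoherent_pushforward_of_isAffineHom g _
  have h2 : IsIso (κ X.carrier U hcov (PA (fX A X) F ⋙ tensorRight (MA A M))
      (GP B X X' g F M) (ΨM (fX A X) (fX B X') g H.w F M) p) :=
    isIso_κ X.carrier U hcov _ _ _ p
      (fun n a => ψadd_bijective (fX A X) (fX B X') g F M H _ (hU n a))
      (fun n a q => Cech.subsingleton_HU_succ_of_isAffineOpen X
        ((Scheme.Modules.pushforward g).obj (GM (fX B X') (Fp g F) M)) _ (hU n a) q)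
  exact IsIso.comp_isIso' h1 h2

end c3

section final

variable [IsAffineHom g] [F.IsQuasicoherent]

lemma good_GM (M : ModuleCat.{u} B) (q : ℕ) :
    IsZero ((CohTop.Rpush g.base (q + 1)).obj (Coh.toAb (GM (fX B X') (Fp g F) M))) :=
  Cech.isZero_RpushAb_succ g _ q

variable {p : ℕ} (E' : NatFam (CohTop.push g.base) (constZ X'.carrier) (constZ X.carrier)
  (fun K => ∀ q : ℕ, IsZero ((CohTop.Rpush g.base (q + 1)).obj K)) p)

/-- `H^p(X, g_* G) ≅ H^p(X', G)` for `G = f'^*M~ ⊗ g^*F`. -/
noncomputable def pushH (M : ModuleCat.{u} B) :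
    (Sheaf.functorH (Opens.grothendieckTopology X) p).obj (GP B X X' g F M) ≅
      (CohIII.HAb X' p).obj ((CohIII.tensorAFunctor B (Fp g F)).obj M) :=
  AddEquiv.toAddCommGrpIso
    (E'.e (Coh.toAb (GM (fX B X') (Fp g F) M)) (good_GM B X X' g F M)).symm

lemma pushH_naturality {M N : ModuleCat.{u} B} (h : M ⟶ N) :
    (Sheaf.functorH (Opens.grothendieckTopology X) p).map
        ((Coh.pushAb g).map ((SheafOfModules.toSheaf X'.ringCatSheaf).map
          ((CohIII.tensorAFunctor B (Fp g F)).map h))) ≫ (pushH B X X' g F E' N).hom =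
      (pushH B X X' g F E' M).hom ≫
        (CohIII.HAb X' p).map ((CohIII.tensorAFunctor B (Fp g F)).map h) := by
  ext x
  have h2 := E'.nat (good_GM B X X' g F M) (good_GM B X X' g F N)
    ((SheafOfModules.toSheaf X'.ringCatSheaf).map ((CohIII.tensorAFunctor B (Fp g F)).map h))
    ((E'.e (Coh.toAb (GM (fX B X') (Fp g F) M)) (good_GM B X X' g F M)).symm x)
  rw [AddEquiv.apply_symm_apply] at h2
  change (E'.e (Coh.toAb (GM (fX B X') (Fp g F) N)) (good_GM B X X' g F N)).symm
    (x.comp (Ext.mk₀ _) (add_zero p)) = _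
  rw [AddEquiv.symm_apply_eq]
  exact h2.symm

end final

end Groth.Agent.Lib.Helper22.EGA7
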