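import Groth.Agent.Lib.Helper22.EGA7.Bridge2
import Groth.Agent.Lib.Helper11.FFRes

set_option autoImplicit false
set_option linter.unusedSectionVars false
set_option linter.style.haveILetI false
set_option linter.unusedVariables false
universe u
open CategoryTheory CategoryTheory.Limits Opposite TopologicalSpace AlgebraicGeometry Abelian
open MonoidalCategory

namespace Groth.Agent.Lib.Helper22.EGA7

open _root_.Groth.Agent.Lib.Helper22.CohTop _root_.Groth.Agent.Lib.Helper22.ExtCompare
open _root_.Groth.Agent.Lib.Helper22.FBC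

section vanish

lemma exists_uniform_vanishing (X : Scheme.{u}) [CompactSpace X] [QuasiSeparatedSpace X] :
    ∃ d : ℕ, ∀ (G : X.Modules), G.IsQuasicoherent → ∀ p : ℕ, d ≤ p →
      Subsingleton (Sheaf.H (Coh.toAb G) p) := by
  obtain ⟨d, hd⟩ := Cech.exists_uniform_bound (X := X) ⊤
    (by simpa using isQuasiSeparated_univ (α := X)) {⊤}
    (fun A _ hA W hW => by rw [Set.mem_singleton_iff.mp hW, inf_top_eq]; exact hA) ⊤ le_rfl
    (by simpa using isCompact_univ)
  refine ⟨d, fun G hG p hp => ?_⟩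
  have h := hd ⊤ rfl G hG p hp
  rw [inf_idem] at h
  haveI : Subsingleton (Ext (ZU (⊤ : Opens X.carrier)) (Coh.toAb G) p) := h
  exact ((natE X.carrier p).e (Coh.toAb G) trivial).symm.toEquiv.subsingleton

end vanish

section ext

variable {A : Type u} [CommRing A] (K : CochainComplex (ModuleCat.{u} A) ℕ)

lemma flat_extend (h : ∀ n, Module.Flat A (K.X n)) (i : ℤ) :
    Module.Flat A ((K.extend eND).X i) := by
  by_cases hi : ∃ n, eND.f n = i
  · obtain ⟨n, hn⟩ := hi
    haveI := h n
    exact Module.Flat.of_linearEquiv (K.extendXIso eND hn).toLinearEquiv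
  · exact flat_of_isZero _ (K.isZero_extend_X eND i (fun n hn => hi ⟨n, hn⟩))

lemma finite_extend_homology (h : ∀ n, Module.Finite A (K.homology n)) (i : ℤ) :
    Module.Finite A ((K.extend eND).homology i) := by
  by_cases hi : ∃ n, eND.f n = i
  · obtain ⟨n, hn⟩ := hi
    haveI := h n
    exact Module.Finite.equiv (K.extendHomologyIso eND hn).symm.toLinearEquiv
  · exact finite_of_isZero _ (ShortComplex.isZero_homology_of_isZero_X₂ _
      (K.isZero_extend_X eND i (fun n hn => hi ⟨n, hn⟩)))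

lemma exists_eND (d₀ : ℕ) (i : ℤ) (hi : i < -(d₀ : ℤ)) : ∃ n : ℕ, d₀ ≤ n ∧ eND.f n = i := by
  refine ⟨(-i).toNat, ?_, ?_⟩
  · omega
  · rw [eND_f]
    omega

lemma isZero_extend_homology (d₀ : ℕ) (h : ∀ n, d₀ ≤ n → IsZero (K.homology n)) (i : ℤ)
    (hi : i < -(d₀ : ℤ)) : IsZero ((K.extend eND).homology i) := by
  obtain ⟨n, hdn, hn⟩ := exists_eND d₀ i hi
  exact (h n hdn).of_iso (K.extendHomologyIso eND hn)

lemma isZero_tensor_extend_homology (M : ModuleCat.{u} A) (d₀ : ℕ)
    (h : ∀ n, d₀ ≤ n → IsZero ((CohIII.TFun K n).obj M)) (i : ℤ) (hi : i < -(d₀ : ℤ)) :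
    IsZero ((CohIII.tensorObj (K.extend eND) M).homology i) := by
  obtain ⟨n, hdn, rfl⟩ := exists_eND d₀ i hi
  exact (h n hdn).of_iso ((c1Iso K n).app M)

end ext

section main

variable (A : Type u) [CommRing A] [IsNoetherianRing A] (X : Scheme.{u})
  [X.Over (Spec (CommRingCat.of A))] [IsProper (fX A X)]
  (F : X.Modules) {ι : Type u} [Finite ι] (U : ι → X.Opens) (hcov : ⨆ i, U i = ⊤)
  (hU : ∀ (n : ℕ) (a : Fin (n + 1) → ι), IsAffineOpen (⨅ k, U (a k)))

include hcov hU in
theorem bridge_aux [CompactSpace X] [QuasiSeparatedSpace X] [F.IsQuasicoherent]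
    (hF : Coh.IsCoh F) (hfl : FlatMod.IsFlatOver (fX A X) F) :
    ∃ (Q : ChainComplex (ModuleCat.{u} A) ℤ) (d : ℤ),
      (∀ i, Module.Finite A (Q.X i) ∧ Module.Free A (Q.X i)) ∧ (∀ i < d, IsZero (Q.X i)) ∧
      ∀ p : ℕ, Nonempty (CohIII.TFun Q (-(p : ℤ)) ⋙ fA A ≅
        CohIII.tensorAFunctor A F ⋙ CohIII.HAb X p) := by
  obtain ⟨d₀, hd₀⟩ := exists_uniform_vanishing X
  have hKflat := flat_KF A X F U hU hfl
  have hPflat := flat_extend (KF A X F U) hKflat
  have hPfin := finite_extend_homology (KF A X F U)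
    (fun p => finite_KF_homology A X F U hcov hU hF p)
  have hKvan : ∀ n, d₀ ≤ n → IsZero ((KF A X F U).homology n) := by
    intro n hn
    haveI := isIso_κF A X F U hcov hU n
    haveI : Subsingleton ((KF A X F U).homology n) :=
      @Function.Injective.subsingleton _ _ _
        (ConcreteCategory.bijective_of_isIso (κF A X F U hcov n)).1 (hd₀ F inferInstance n hn)
    exact ModuleCat.isZero_of_subsingleton _
  have hTvan : ∀ (M : ModuleCat.{u} A) (n : ℕ), d₀ ≤ n →
      IsZero ((CohIII.TFun (KF A X F U) n).obj M) := by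
    intro M n hn
    haveI := isIso_c2 A X F U hcov hU M n
    haveI : Subsingleton ((CohIII.TFun (KF A X F U) n).obj M) :=
      @Function.Injective.subsingleton _ _ _
        (ConcreteCategory.bijective_of_isIso (c2 A X F U hcov M n)).1
        (hd₀ (GM (fX A X) F M) inferInstance n hn)
    exact ModuleCat.isZero_of_subsingleton _
  obtain ⟨Q, u, hQ, hQz, hqi⟩ :=
    Groth.Agent.Lib.Helper11.FFRes.exists_finite_free_resolution ((KF A X F U).extend eND) hPfin
      (-(d₀ : ℤ)) (isZero_extend_homology (KF A X F U) d₀ hKvan)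
  haveI := hqi
  have hQflat : ∀ i, Module.Flat A (Q.X i) := fun i => by
    haveI := (hQ i).2
    infer_instance
  have hQd : ∀ (M : ModuleCat.{u} A) (i : ℤ), i < -(d₀ : ℤ) →
      IsZero ((CohIII.tensorObj Q M).homology i) := fun M i hi =>
    ShortComplex.isZero_homology_of_isZero_X₂ _ (Functor.map_isZero (tensorRight M) (hQz i hi))
  have hPd : ∀ (M : ModuleCat.{u} A) (i : ℤ), i < -(d₀ : ℤ) →
      IsZero ((CohIII.tensorObj ((KF A X F U).extend eND) M).homology i) := fun M i hi =>
    isZero_tensor_extend_homology (KF A X F U) M d₀ (hTvan M) i hi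
  have hiso := isIso_homologyMap_tmap Q ((KF A X F U).extend eND) hQflat hPflat u (-(d₀ : ℤ))
    hQd hPd
  refine ⟨Q, -(d₀ : ℤ), hQ, hQz, fun p => ⟨?_⟩⟩
  let N1 : CohIII.TFun Q (eND.f p) ≅ CohIII.TFun ((KF A X F U).extend eND) (eND.f p) :=
    NatIso.ofComponents
      (fun M => @asIso _ _ _ _ (HomologicalComplex.homologyMap (tmap u M) (eND.f p))
        (hiso (eND.f p) M))
      (fun {M N} g => by
        change HomologicalComplex.homologyMap (CohIII.tensorMap Q g) _ ≫
          HomologicalComplex.homologyMap (tmap u N) _ =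
          HomologicalComplex.homologyMap (tmap u M) _ ≫
            HomologicalComplex.homologyMap (CohIII.tensorMap ((KF A X F U).extend eND) g) _
        rw [← HomologicalComplex.homologyMap_comp, ← HomologicalComplex.homologyMap_comp,
          tmap_naturality])
  let N3 : CohIII.TFun (KF A X F U) p ⋙ fA A ≅ CohIII.tensorAFunctor A F ⋙ CohIII.HAb X p :=
    NatIso.ofComponents
      (fun M => @asIso _ _ _ _ (c2 A X F U hcov M p) (isIso_c2 A X F U hcov hU M p))
      (fun {M N} g => c2_naturality A X F U hcov g p)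
  exact Functor.isoWhiskerRight (N1 ≪≫ c1Iso (KF A X F U) p) (fA A) ≪≫ N3

end main

lemma isSeparated_of_over {X : Scheme.{u}} {R : CommRingCat.{u}} (f : X ⟶ Spec R) [IsSeparated f] :
    X.IsSeparated := by
  have h : terminal.from X = f ≫ terminal.from (Spec R) := Subsingleton.elim _ _
  exact ⟨by rw [h]; infer_instance⟩

/-- **The bridge**: cohomology of `f^*M~ ⊗ F` is computed, functorially in `M`, by a complex of
finite free modules. -/
theorem bridge (A : Type u) [CommRing A] [IsNoetherianRing A] (X : Scheme.{u})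
    [X.Over (Spec (CommRingCat.of A))] [IsProper (X ↘ Spec (CommRingCat.of A))]
    (F : X.Modules) (hF : Coh.IsCoh F)
    (hfl : FlatMod.IsFlatOver (X ↘ Spec (CommRingCat.of A)) F) :
    ∃ (Q : ChainComplex (ModuleCat.{u} A) ℤ) (d : ℤ),
      (∀ i, Module.Finite A (Q.X i) ∧ Module.Free A (Q.X i)) ∧ (∀ i < d, IsZero (Q.X i)) ∧
      ∀ p : ℕ, Nonempty (CohIII.TFun Q (-(p : ℤ)) ⋙
        forget₂ (ModuleCat.{u} A) AddCommGrpCat.{u} ≅
        CohIII.tensorAFunctor A F ⋙ CohIII.HAb X p) := by
  haveI : X.IsSeparated := isSeparated_of_over (X ↘ Spec (CommRingCat.of A))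
  haveI : CompactSpace X :=
    QuasiCompact.compactSpace_of_compactSpace (X ↘ Spec (CommRingCat.of A))
  haveI : F.IsQuasicoherent := hF.1
  obtain ⟨s, hs, e⟩ := isCompact_iff_finite_and_eq_biUnion_affineOpens.mp
    (show IsCompact ((⊤ : X.Opens) : Set X) by simpa using isCompact_univ)
  haveI : Finite s := hs.to_subtype
  refine bridge_aux A X F (fun i : s => (i.1 : X.Opens)) ?_ ?_ hF hfl
  · rw [e, iSup_subtype']
  · intro n a
    exact IsAffineOpen.iInf (fun k => (a k).1.2)

end Groth.Agent.Lib.Helper22.EGA7
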