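import Groth.Agent.Lib.Helper22.EGA7.BC3
import Groth.Agent.Lib.Helper22.EGA7.Bridge3

set_option autoImplicit false
set_option linter.unusedSectionVars false
set_option linter.style.haveILetI false
set_option linter.unusedVariables false
universe u
open CategoryTheory CategoryTheory.Limits Opposite TopologicalSpace AlgebraicGeometry Abelian
open MonoidalCategory TensorProduct

namespace Groth.Agent.Lib.Helper22.EGA7

open _root_.Groth.Agent.Lib.Helper22.CohTop _root_.Groth.Agent.Lib.Helper22.ExtCompare
open _root_.Groth.Agent.Lib.Helper22.FBC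
open _root_.Groth.Agent.Lib.Helper29.QCoh

/-- **Base change for the functors `T^p`**: for `X` quasi-compact separated over `A`, `F`
quasi-coherent and `X' = X ×_A B`, `T'^p(M) ≅ T^p(M_A)` naturally in the `B`-module `M`. -/
theorem tensorA_baseChange (A B : Type u) [CommRing A] [CommRing B] [Algebra A B]
    (X X' : Scheme.{u}) [X.Over (Spec (CommRingCat.of A))] [X'.Over (Spec (CommRingCat.of B))]
    [CompactSpace X] [X.IsSeparated] (g : X' ⟶ X)
    (H : IsPullback g (X' ↘ Spec (CommRingCat.of B)) (X ↘ Spec (CommRingCat.of A))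
      (Spec.map (CommRingCat.ofHom (algebraMap A B))))
    (F : X.Modules) [F.IsQuasicoherent] (p : ℕ) :
    Nonempty (ModuleCat.restrictScalars (algebraMap A B) ⋙
        CohIII.tensorAFunctor A F ⋙ CohIII.HAb X p ≅
      CohIII.tensorAFunctor B ((Scheme.Modules.pullback g).obj F) ⋙ CohIII.HAb X' p) := by
  haveI : IsAffineHom g :=
    MorphismProperty.of_isPullback (P := @IsAffineHom) H.flip inferInstance
  obtain ⟨s, hs, e⟩ := isCompact_iff_finite_and_eq_biUnion_affineOpens.mp
    (show IsCompact ((⊤ : X.Opens) : Set X) by simpa using isCompact_univ)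
  haveI : Finite s := hs.to_subtype
  let U : s → X.Opens := fun i => (i.1 : X.Opens)
  have hcov : ⨆ i, U i = ⊤ := by rw [e, iSup_subtype']
  have hU : ∀ (n : ℕ) (a : Fin (n + 1) → s), IsAffineOpen (⨅ k, U (a k)) := by
    intro n a
    exact IsAffineOpen.iInf (fun k => (a k).1.2)
  obtain ⟨E'⟩ := nonempty_natFam_push g.base p
  let N3 : CohIII.TFun (KF A X F U) p ⋙ fA A ≅ CohIII.tensorAFunctor A F ⋙ CohIII.HAb X p :=
    NatIso.ofComponents
      (fun M => @asIso _ _ _ _ (c2 A X F U hcov M p) (isIso_c2 A X F U hcov hU M p))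
      (fun {M N} g => c2_naturality A X F U hcov g p)
  let N4 : ModuleCat.restrictScalars (algebraMap A B) ⋙ CohIII.TFun (KF A X F U) p ⋙ fA A ≅
      CohIII.tensorAFunctor B (Fp g F) ⋙ CohIII.HAb X' p :=
    NatIso.ofComponents
      (fun M => @asIso _ _ _ _ (c3pre A B X X' g H.w F U hcov M p)
          (isIso_c3pre A B X X' g F U hcov H hU M p) ≪≫ pushH B X X' g F E' M)
      (fun {M N} h => by
        have h1 := c3pre_naturality A B X X' g H.w F U hcov h p
        have h2 := pushH_naturality B X X' g F E' h
        change (fA A).map ((CohIII.TFun (KF A X F U) p).map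
            ((ModuleCat.restrictScalars (algebraMap A B)).map h)) ≫
            (c3pre A B X X' g H.w F U hcov N p ≫ (pushH B X X' g F E' N).hom) =
          (c3pre A B X X' g H.w F U hcov M p ≫ (pushH B X X' g F E' M).hom) ≫
            (CohIII.HAb X' p).map ((CohIII.tensorAFunctor B (Fp g F)).map h)
        refine (Category.assoc _ _ _).symm.trans ?_
        refine (congrArg (fun k => k ≫ (pushH B X X' g F E' N).hom) h1).trans ?_
        refine (Category.assoc _ _ _).trans ?_
        refine (congrArg (fun k => c3pre A B X X' g H.w F U hcov M p ≫ k) h2).trans ?_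
        exact (Category.assoc _ _ _).symm)
  exact ⟨(Functor.isoWhiskerLeft (ModuleCat.restrictScalars (algebraMap A B)) N3).symm ≪≫ N4⟩

end Groth.Agent.Lib.Helper22.EGA7
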