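import Groth.Agent.Lib.Helper28.FlatCx

/-!
# A quasi-isomorphism of complexes of flat modules stays one after tensoring, given vanishing
below a degree (helper22)

`δ`-functor argument: both `M ↦ H_i(Q ⊗ M)` and `M ↦ H_i(P ⊗ M)` are homological functors, they
agree on flat modules, and vanish for `i < d`; induction on `i` with the four lemma.
-/

set_option autoImplicit false
set_option linter.unusedSectionVars false

universe u

open CategoryTheory CategoryTheory.Limits MonoidalCategory CohIII

namespace Groth.Agent.Lib.Helper22.EGA7

open Groth.Agent.Lib.Helper28.FlatCx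

variable {A : Type u} [CommRing A] {ι : Type} {c : ComplexShape ι}

/-- `u ⊗ M`. -/
noncomputable abbrev tmap {Q P : HomologicalComplex (ModuleCat.{u} A) c} (u : Q ⟶ P)
    (M : ModuleCat.{u} A) : tensorObj Q M ⟶ tensorObj P M :=
  ((tensorRight M).mapHomologicalComplex c).map u

lemma tmap_naturality {Q P : HomologicalComplex (ModuleCat.{u} A) c} (u : Q ⟶ P)
    {M N : ModuleCat.{u} A} (g : M ⟶ N) :
    tmap u M ≫ tensorMap P g = tensorMap Q g ≫ tmap u N :=
  (NatTrans.mapHomologicalComplex ((tensoringRight (ModuleCat.{u} A)).map g) c).naturality u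

/-- The morphism of short complexes of complexes induced by `u`. -/
noncomputable def tensorSCMap {Q P : HomologicalComplex (ModuleCat.{u} A) c} (u : Q ⟶ P)
    (S₀ : ShortComplex (ModuleCat.{u} A)) : tensorSC Q S₀ ⟶ tensorSC P S₀ where
  τ₁ := tmap u S₀.X₁
  τ₂ := tmap u S₀.X₂
  τ₃ := tmap u S₀.X₃
  comm₁₂ := tmap_naturality u S₀.f
  comm₂₃ := tmap_naturality u S₀.g

lemma isIso_homologyMap_tmap_of_flat {Q P : HomologicalComplex (ModuleCat.{u} A) c} (u : Q ⟶ P)
    [QuasiIso u] (L : ModuleCat.{u} A) [Module.Flat A L] (i : ι) :
    IsIso (HomologicalComplex.homologyMap (tmap u L) i) := by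
  have : QuasiIso (tmap u L) := inferInstance
  infer_instance

/-- A free cover of a module, as a short exact sequence. -/
noncomputable def freeCoverMap (M : ModuleCat.{u} A) : ModuleCat.of A (M →₀ A) ⟶ M :=
  ModuleCat.ofHom (Finsupp.linearCombination A (id : M → M))

lemma freeCoverMap_surjective (M : ModuleCat.{u} A) : Function.Surjective (freeCoverMap M) := by
  intro m
  refine ⟨Finsupp.single m 1, ?_⟩
  change Finsupp.linearCombination A (id : M → M) (Finsupp.single m 1) = m
  simp

instance (M : ModuleCat.{u} A) : Epi (freeCoverMap M) :=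
  (ModuleCat.epi_iff_surjective _).mpr (freeCoverMap_surjective M)

/-- The short exact sequence `0 → K → A^(M) → M → 0`. -/
noncomputable def freeCoverSC (M : ModuleCat.{u} A) : ShortComplex (ModuleCat.{u} A) :=
  ShortComplex.mk (kernel.ι (freeCoverMap M)) (freeCoverMap M) (kernel.condition _)

lemma freeCoverSC_shortExact (M : ModuleCat.{u} A) : (freeCoverSC M).ShortExact :=
  { exact := ShortComplex.exact_kernel (freeCoverMap M)
    mono_f := inferInstanceAs (Mono (kernel.ι (freeCoverMap M)))
    epi_g := inferInstanceAs (Epi (freeCoverMap M)) }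

instance (M : ModuleCat.{u} A) : Module.Flat A (freeCoverSC M).X₂ :=
  inferInstanceAs (Module.Flat A (M →₀ A))

/-- **Tensoring a quasi-isomorphism of flat complexes**, given vanishing below `d`. -/
theorem isIso_homologyMap_tmap (Q P : ChainComplex (ModuleCat.{u} A) ℤ)
    (hQ : ∀ i, Module.Flat A (Q.X i)) (hP : ∀ i, Module.Flat A (P.X i))
    (u : Q ⟶ P) [QuasiIso u] (d : ℤ)
    (hQd : ∀ (M : ModuleCat.{u} A) (i : ℤ), i < d → IsZero ((tensorObj Q M).homology i))
    (hPd : ∀ (M : ModuleCat.{u} A) (i : ℤ), i < d → IsZero ((tensorObj P M).homology i)) :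
    ∀ (i : ℤ) (M : ModuleCat.{u} A), IsIso (HomologicalComplex.homologyMap (tmap u M) i) := by
  have key : ∀ (n : ℕ) (i : ℤ), i < d + n → ∀ M : ModuleCat.{u} A,
      IsIso (HomologicalComplex.homologyMap (tmap u M) i) := by
    intro n
    induction n with
    | zero =>
      intro i hi M
      have hi' : i < d := by simpa using hi
      exact ⟨⟨0, (hQd M i hi').eq_of_src _ _, (hPd M i hi').eq_of_src _ _⟩⟩
    | succ n ih =>
      intro i hi M
      by_cases hlt : i < d + n
      · exact ih i hlt M
      · have hepi : ∀ M : ModuleCat.{u} A,
            Epi (HomologicalComplex.homologyMap (tmap u M) i) := by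
          intro M
          have hS₁ := tensorSC_shortExact Q hQ _ (freeCoverSC_shortExact M)
          have hS₂ := tensorSC_shortExact P hP _ (freeCoverSC_shortExact M)
          refine HomologicalComplex.HomologySequence.epi_homologyMap_τ₃
            (tensorSCMap u (freeCoverSC M)) hS₁ hS₂ i ?_ ?_ ?_
          · have := isIso_homologyMap_tmap_of_flat u (freeCoverSC M).X₂ i
            exact inferInstanceAs (Epi (HomologicalComplex.homologyMap
              (tmap u (freeCoverSC M).X₂) i))
          · intro j hij
            have hj : j + 1 = i := hij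
            have := ih j (by push_cast at hi ⊢; omega) (freeCoverSC M).X₁
            exact inferInstanceAs (Epi (HomologicalComplex.homologyMap
              (tmap u (freeCoverSC M).X₁) j))
          · intro j _
            have := isIso_homologyMap_tmap_of_flat u (freeCoverSC M).X₂ j
            exact inferInstanceAs (Mono (HomologicalComplex.homologyMap
              (tmap u (freeCoverSC M).X₂) j))
        have hmono : Mono (HomologicalComplex.homologyMap (tmap u M) i) := by
          have hS₁ := tensorSC_shortExact Q hQ _ (freeCoverSC_shortExact M)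
          have hS₂ := tensorSC_shortExact P hP _ (freeCoverSC_shortExact M)
          refine HomologicalComplex.HomologySequence.mono_homologyMap_τ₃
            (tensorSCMap u (freeCoverSC M)) hS₁ hS₂ i ?_ ?_ ?_
          · exact hepi (freeCoverSC M).X₁
          · have := isIso_homologyMap_tmap_of_flat u (freeCoverSC M).X₂ i
            exact inferInstanceAs (Mono (HomologicalComplex.homologyMap
              (tmap u (freeCoverSC M).X₂) i))
          · intro j hij
            have hj : j + 1 = i := hij
            have := ih j (by push_cast at hi ⊢; omega) (freeCoverSC M).X₁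
            exact inferInstanceAs (Mono (HomologicalComplex.homologyMap
              (tmap u (freeCoverSC M).X₁) j))
        have := hepi M
        exact isIso_of_mono_of_epi _
  intro i M
  by_cases h : i < d
  · exact key 0 i (by simpa using h) M
  · exact key ((i - d).toNat + 1) i (by
      have : ((i - d).toNat : ℤ) = i - d := Int.toNat_of_nonneg (by omega)
      push_cast
      omega) M

end Groth.Agent.Lib.Helper22.EGA7
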