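import Groth.Agent.Lib.Helper22.EGA7.PMod3

set_option autoImplicit false
set_option linter.unusedSectionVars false
set_option linter.style.haveILetI false
universe u
open CategoryTheory CategoryTheory.Limits AlgebraicGeometry TopologicalSpace Opposite
open TensorProduct MonoidalCategory
namespace Groth.Agent.Lib.Helper22.EGA7
open _root_.Groth.Agent.Lib.Helper22.FBC
open _root_.Groth.Agent.Lib.Helper29.QCoh

variable {A : Type u} [CommRing A] {X : Scheme.{u}} (f : X ⟶ Spec (CommRingCat.of A))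
  (F : X.Modules) (M : ModuleCat.{u} A)

set_option maxRecDepth 8192 in
theorem φlin_bijective [F.IsQuasicoherent] (V : X.Opens) (hV : IsAffineOpen V) :
    Function.Bijective (φlin f F M V) := by
  letI modAM₀ : Module A Γ(Mt (B := A) M, ⊤) :=
    Module.compHom Γ(Mt (B := A) M, ⊤) (αU (𝟙 (Spec (CommRingCat.of A))) ⊤).hom
  let tE : M ≃ₗ[A] Γ(Mt (B := A) M, ⊤) :=
    { AddEquiv.ofBijective (tSec (B := A) M) (tSec_bijective M) with
      map_smul' := fun a m => tSec_smul (B := A) M a m }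
  let E : Γ(Mt (B := A) M, ⊤) ⊗[A] SecA f F V ≃ₗ[A] SecA f F V ⊗[A] M :=
    (TensorProduct.congr tE.symm (LinearEquiv.refl A _)).trans (TensorProduct.comm A _ _)
  let Θ₀ : Γ(Mt (B := A) M, ⊤) ⊗[A] SecA f F V →ₗ[A] SecA f (GM f F M) V :=
    (φlin f F M V).comp E.toLinearMap
  have hpo : IsPushout (αU f V) (αU (𝟙 (Spec (CommRingCat.of A))) ⊤) (𝟙 Γ(X, V))
      (f.appLE ⊤ V le_top) :=
    IsPushout.of_vert_isIso ⟨by rw [Category.comp_id]; exact αU_eq_comp f V⟩
  have hΘ₀ : Function.Bijective Θ₀ := by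
    refine tp_of_pushout (αU (𝟙 (Spec (CommRingCat.of A))) ⊤) (αU f V) (f.appLE ⊤ V le_top)
      (𝟙 Γ(X, V)) hpo
      (M := Γ(Mt (B := A) M, ⊤)) (fun _ _ => rfl) (N := Γ(F, V)) (P := Γ(F, V))
      (Q := Γ(QM (B := A) M f, V)) (T := Γ(GM f F M, V))
      (AddMonoidHom.id _) ?_
      ((res (QM (B := A) M f) (le_top : V ≤ ⊤)).comp (pullSect f (Mt (B := A) M) ⊤)) ?_
      ((TensorProduct.comm Γ(X, V) Γ(F, V) Γ(QM (B := A) M f, V)).trans
        (tensorSectionsEquiv (QM (B := A) M f) F hV)).toAddEquiv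
      Θ₀ (AddEquiv.refl _) (AddEquiv.refl _) ?_ ?_
    · exact ⟨(TensorProduct.lid Γ(X, V) Γ(F, V)).symm, fun n => rfl⟩
    · exact ⟨pullbackSectionsEquiv f (Mt (B := A) M) hV (isAffineOpen_top _) le_top,
        fun m₀ => Groth.Agent.Helper19.PullUnit.pullbackSectionsEquiv_pullSect f (Mt (B := A) M)
          hV (isAffineOpen_top _) le_top m₀⟩
    · intro a x
      rfl
    · intro m₀ x
      have h2 : mRes f M V (tE.symm m₀) =
          res (QM (B := A) M f) (le_top : V ≤ ⊤) (pullSect f (Mt (B := A) M) ⊤ m₀) := by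
        change res _ _ (pullSect f (Mt (B := A) M) ⊤ (tE (tE.symm m₀))) = _
        rw [LinearEquiv.apply_symm_apply]
        rfl
      change tmulSec (QM (B := A) M f) F (mRes f M V (tE.symm m₀)) (show Γ(F, V) from x) = _
      rw [h2]
      rfl
  exact (Function.Bijective.of_comp_iff _ E.bijective).1 hΘ₀

theorem flat_SecA [F.IsQuasicoherent] (hfl : FlatMod.IsFlatOver f F) (V : X.Opens)
    (hV : IsAffineOpen V) : Module.Flat A (SecA f F V) := by
  have hUV : V ≤ f ⁻¹ᵁ ⊤ := le_top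
  have h1 := Groth.Agent.Lib.Helper8.FlatAffine.flat_sections_of_isFlatOverAt f F hV
    (isAffineOpen_top (Spec (CommRingCat.of A))) hUV (fun x _ => hfl x)
  letI m₁ : Module Γ(Spec (CommRingCat.of A), ⊤) (SecA f F V) :=
    Module.compHom Γ(F, V) (f.appLE ⊤ V hUV).hom
  letI : Algebra A Γ(Spec (CommRingCat.of A), ⊤) :=
    (Scheme.ΓSpecIso (CommRingCat.of A)).inv.hom.toAlgebra
  haveI : IsScalarTower A Γ(Spec (CommRingCat.of A), ⊤) (SecA f F V) :=
    IsScalarTower.of_algebraMap_smul (fun a s => rfl)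
  have hb : Function.Bijective (Algebra.linearMap A Γ(Spec (CommRingCat.of A), ⊤)) :=
    (ConcreteCategory.isIso_iff_bijective _).mp
      (inferInstance : IsIso (Scheme.ΓSpecIso (CommRingCat.of A)).inv)
  haveI : Module.Flat A Γ(Spec (CommRingCat.of A), ⊤) :=
    Module.Flat.of_linearEquiv (LinearEquiv.ofBijective _ hb).symm
  haveI : Module.Flat Γ(Spec (CommRingCat.of A), ⊤) (SecA f F V) := h1
  exact Module.Flat.trans A Γ(Spec (CommRingCat.of A), ⊤) (SecA f F V)

end Groth.Agent.Lib.Helper22.EGA7
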