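import Groth.Agent.Lib.Helper22.EGA7.Compare2
import Groth.Agent.Lib.Helper22.EGA7.PMod4
import Groth.Agent.Lib.Helper22.EGA7.ExtendMap
import Groth.Agent.Lib.Helper22.EGA7.DeltaArg

set_option autoImplicit false
set_option linter.unusedSectionVars false
universe u
open CategoryTheory CategoryTheory.Limits Opposite TopologicalSpace AlgebraicGeometry Abelian
open MonoidalCategory

namespace Groth.Agent.Lib.Helper22.EGA7

open _root_.Groth.Agent.Lib.Helper22.CohTop _root_.Groth.Agent.Lib.Helper22.ExtCompare
open _root_.Groth.Agent.Lib.Helper22.FBC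

/-- index flip `up ℕ → down ℤ`. -/
def eND : (ComplexShape.up ℕ).Embedding (ComplexShape.down ℤ) :=
  ComplexShape.Embedding.mk' _ _ (fun n => -(n : ℤ)) (fun _ _ h => by simpa using h)
    (by intro i j; simp only [ComplexShape.down_Rel, ComplexShape.up_Rel]; omega)

instance : eND.IsRelIff := by dsimp [eND]; infer_instance

lemma eND_f (p : ℕ) : eND.f p = -(p : ℤ) := rfl

section c1

variable {A : Type u} [CommRing A]

/-- `H_{-p}((K.extend) ⊗ M) ≅ H^p(K ⊗ M)`, naturally in `M`. -/
noncomputable def c1Iso (K : CochainComplex (ModuleCat.{u} A) ℕ) (p : ℕ) :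
    CohIII.TFun (K.extend eND) (eND.f p) ≅ CohIII.TFun K p :=
  NatIso.ofComponents
    (fun M => (HomologicalComplex.homologyFunctor _ _ (eND.f p)).mapIso
        (mapExtendIso eND (tensorRight M) K) ≪≫
      HomologicalComplex.extendHomologyIso (CohIII.tensorObj K M) eND rfl)
    (by
      intro M N g
      change HomologicalComplex.homologyMap (CohIII.tensorMap (K.extend eND) g) _ ≫
        (HomologicalComplex.homologyMap (mapExtendIso eND (tensorRight N) K).hom _ ≫
          (HomologicalComplex.extendHomologyIso (CohIII.tensorObj K N) eND rfl).hom) =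
        (HomologicalComplex.homologyMap (mapExtendIso eND (tensorRight M) K).hom _ ≫
          (HomologicalComplex.extendHomologyIso (CohIII.tensorObj K M) eND rfl).hom) ≫
          HomologicalComplex.homologyMap (CohIII.tensorMap K g) p
      rw [← Category.assoc, ← HomologicalComplex.homologyMap_comp]
      have h := mapExtendIso_naturality_functor eND (tensorRight M) K (tensorRight N)
        ((tensoringRight (ModuleCat.{u} A)).map g)
      rw [show CohIII.tensorMap (K.extend eND) g ≫ (mapExtendIso eND (tensorRight N) K).hom =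
        (mapExtendIso eND (tensorRight M) K).hom ≫
          HomologicalComplex.extendMap (CohIII.tensorMap K g) eND from h,
        HomologicalComplex.homologyMap_comp, Category.assoc, Category.assoc,
        HomologicalComplex.extendHomologyIso_hom_naturality])

end c1


section c2

variable (A : Type u) [CommRing A] (X : Scheme.{u}) [X.Over (Spec (CommRingCat.of A))]
  (F : X.Modules) {ι : Type u} [Finite ι] (U : ι → X.Opens) (hcov : ⨆ i, U i = ⊤)

instance presTR {A : Type u} [CommRing A] {ι : Type u} [Finite ι] (M : ModuleCat.{u} A) (n : ℕ) :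
    PreservesLimitsOfShape (Discrete (Fin (n + 1) → ι)) (tensorRight M) := by
  have : PreservesFiniteProducts (tensorRight M) := Functor.preservesFiniteProductsOfAdditive _
  infer_instance

/-- the structure morphism -/
noncomputable abbrev fX : X ⟶ Spec (CommRingCat.of A) := X ↘ Spec (CommRingCat.of A)

/-- The Čech complex of `F` as a complex of `A`-modules. -/
noncomputable abbrev KF : CochainComplex (ModuleCat.{u} A) ℕ :=
  KM X.carrier U (PA (fX A X) F)

/-- `H^p(K ⊗ M) → H^p(X, f^*M~ ⊗ F)`. -/
noncomputable def c2 (hcov : ⨆ i, U i = ⊤) (M : ModuleCat.{u} A) (p : ℕ) :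
    (fA A).obj ((CohIII.TFun (KF A X F U) p).obj M) ⟶
      (CohIII.HAb X p).obj ((CohIII.tensorAFunctor A F).obj M) :=
  (fA A).map (HomologicalComplex.homologyMap
      (cechMapIso (Yf X.carrier U) (tensorRight M) (ov X.carrier ⋙ PA (fX A X) F)).hom p) ≫
    κ X.carrier U hcov (PA (fX A X) F ⋙ tensorRight M) (Coh.toAb (GM (fX A X) F M))
      (φM (fX A X) F M) p

lemma c2_naturality {M N : ModuleCat.{u} A} (g : M ⟶ N) (p : ℕ) :
    (fA A).map ((CohIII.TFun (KF A X F U) p).map g) ≫ c2 A X F U hcov N p =
      c2 A X F U hcov M p ≫ (CohIII.HAb X p).map ((CohIII.tensorAFunctor A F).map g) := by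
  unfold c2
  have h1 := cechMapIso_naturality_functor (Yf X.carrier U) (tensorRight M) (tensorRight N)
    ((tensoringRight (ModuleCat.{u} A)).map g) (ov X.carrier ⋙ PA (fX A X) F)
  have h2 : (CohIII.TFun (KF A X F U) p).map g ≫ HomologicalComplex.homologyMap
      (cechMapIso (Yf X.carrier U) (tensorRight N) (ov X.carrier ⋙ PA (fX A X) F)).hom p =
      HomologicalComplex.homologyMap
        (cechMapIso (Yf X.carrier U) (tensorRight M) (ov X.carrier ⋙ PA (fX A X) F)).hom p ≫
        HomologicalComplex.homologyMap ((cechComplexFunctor (Yf X.carrier U)).map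
          (Functor.whiskerLeft (ov X.carrier)
            (Functor.whiskerLeft (PA (fX A X) F) ((tensoringRight (ModuleCat.{u} A)).map g)))) p := by
    change HomologicalComplex.homologyMap (CohIII.tensorMap (KF A X F U) g) p ≫ _ = _
    rw [← HomologicalComplex.homologyMap_comp, ← HomologicalComplex.homologyMap_comp]
    congr 1
  have h3 := κ_naturality X.carrier U hcov (φM (fX A X) F M) (φM (fX A X) F N)
    (Functor.whiskerLeft (PA (fX A X) F) ((tensoringRight (ModuleCat.{u} A)).map g))
    ((SheafOfModules.toSheaf X.ringCatSheaf).map ((CohIII.tensorAFunctor A F).map g)) (by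
      ext V t
      exact (φlin_natM F g V.unop t).symm) p
  have h2' := congrArg (fun k => (fA A).map k) h2
  refine (Category.assoc _ _ _).symm.trans ?_
  refine (congrArg (fun k => k ≫ κ X.carrier U hcov (PA (fX A X) F ⋙ tensorRight N)
    (Coh.toAb (GM (fX A X) F N)) (φM (fX A X) F N) p)
      (((fA A).map_comp _ _).symm.trans (h2'.trans ((fA A).map_comp _ _)))).trans ?_
  refine (Category.assoc _ _ _).trans ?_
  refine (congrArg (fun k => (fA A).map (HomologicalComplex.homologyMap
      (cechMapIso (Yf X.carrier U) (tensorRight M) (ov X.carrier ⋙ PA (fX A X) F)).hom p) ≫ k)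
        h3).trans ?_
  exact (Category.assoc _ _ _).symm

lemma isIso_c2 [F.IsQuasicoherent]
    (hU : ∀ (n : ℕ) (a : Fin (n + 1) → ι), IsAffineOpen (⨅ k, U (a k)))
    (M : ModuleCat.{u} A) (p : ℕ) : IsIso (c2 A X F U hcov M p) := by
  unfold c2
  have h0 : IsIso (HomologicalComplex.homologyMap
      (cechMapIso (Yf X.carrier U) (tensorRight M) (ov X.carrier ⋙ PA (fX A X) F)).hom p) := by
    change IsIso ((HomologicalComplex.homologyFunctor _ _ p).map _)
    infer_instance
  have h1 : IsIso ((fA A).map (HomologicalComplex.homologyMap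
      (cechMapIso (Yf X.carrier U) (tensorRight M) (ov X.carrier ⋙ PA (fX A X) F)).hom p)) :=
    inferInstance
  have h2 : IsIso (κ X.carrier U hcov (PA (fX A X) F ⋙ tensorRight M)
      (Coh.toAb (GM (fX A X) F M)) (φM (fX A X) F M) p) :=
    isIso_κ X.carrier U hcov _ _ _ p
      (fun n a => φlin_bijective (fX A X) F M _ (hU n a))
      (fun n a q => Cech.subsingleton_HU_succ_of_isAffineOpen X (GM (fX A X) F M) _ (hU n a) q)
  exact IsIso.comp_isIso' h1 h2

end c2

end Groth.Agent.Lib.Helper22.EGA7
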