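import Groth.Agent.Lib.Helper22.EGA7.Bridge1
import Groth.Agent.Lib.Helper22.Cech.UniformVanishing
import Groth.Agent.S0002

set_option autoImplicit false
set_option linter.unusedSectionVars false
set_option linter.style.haveILetI false
set_option linter.unusedVariables false
universe u
open CategoryTheory CategoryTheory.Limits Opposite TopologicalSpace AlgebraicGeometry Abelian
open MonoidalCategory

namespace Groth.Agent.Lib.Helper22.EGA7

open _root_.Groth.Agent.Lib.Helper22.CohTop _root_.Groth.Agent.Lib.Helper22.ExtCompare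
open _root_.Groth.Agent.Lib.Helper22.FBC

section alg

lemma flat_pi {R : Type*} [CommRing R] {κ : Type*} [Finite κ] (Z : κ → Type*)
    [∀ i, AddCommGroup (Z i)] [∀ i, Module R (Z i)] [∀ i, Module.Flat R (Z i)] :
    Module.Flat R (∀ i, Z i) := by
  classical
  haveI := Fintype.ofFinite κ
  exact Module.Flat.of_linearEquiv (DFinsupp.linearEquivFunOnFintype (R := R) (M := Z)).symm

lemma flat_piObj {A : Type u} [CommRing A] {κ : Type u} [Finite κ] (Z : κ → ModuleCat.{u} A)
    (h : ∀ i, Module.Flat A (Z i)) : Module.Flat A (∏ᶜ Z : ModuleCat.{u} A) := by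
  haveI := flat_pi (R := A) (fun i => (Z i : Type u))
  exact Module.Flat.of_linearEquiv (ModuleCat.piIsoPi Z).toLinearEquiv

lemma flat_of_isZero {A : Type u} [CommRing A] (Z : ModuleCat.{u} A) (h : IsZero Z) :
    Module.Flat A Z := by
  haveI : Subsingleton Z := ModuleCat.subsingleton_of_isZero h
  haveI : Module.Free A Z := Module.Free.of_subsingleton A Z
  infer_instance

lemma finite_of_isZero {A : Type u} [CommRing A] (Z : ModuleCat.{u} A) (h : IsZero Z) :
    Module.Finite A Z := by
  haveI : Subsingleton Z := ModuleCat.subsingleton_of_isZero h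
  infer_instance

end alg

section hyp

variable (A : Type u) [CommRing A] (X : Scheme.{u}) [X.Over (Spec (CommRingCat.of A))]
  (F : X.Modules) {ι : Type u} [Finite ι] (U : ι → X.Opens) (hcov : ⨆ i, U i = ⊤)
  (hU : ∀ (n : ℕ) (a : Fin (n + 1) → ι), IsAffineOpen (⨅ k, U (a k)))

include hU in
lemma isAffineOpen_Uσ {n : ℕ} (σ : Fin (n + 1) → ι) :
    IsAffineOpen ((Over.forget (⊤ : Opens X.carrier)).obj (Uσg (Yf X.carrier U) σ)) := by
  have h : (Over.forget (⊤ : Opens X.carrier)).obj (Uσg (Yf X.carrier U) σ) = ⨅ k, U (σ k) :=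
    prod_left_eq X.carrier U σ
  rw [h]
  exact hU n σ

include hU in
/-- Flatness of the terms of the Čech complex. -/
lemma flat_KF [F.IsQuasicoherent] (hfl : FlatMod.IsFlatOver (fX A X) F) (n : ℕ) :
    Module.Flat A ((KF A X F U).X n) := by
  refine flat_piObj (fun σ : Fin (n + 1) → ι =>
    (ov X.carrier ⋙ PA (fX A X) F).obj (op (Uσg (Yf X.carrier U) σ))) (fun σ => ?_)
  exact flat_SecA (fX A X) F hfl _ (isAffineOpen_Uσ X U hU σ)

/-- The comparison for `F` itself. -/
noncomputable def κF (hcov : ⨆ i, U i = ⊤) (p : ℕ) :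
    (fA A).obj ((KF A X F U).homology p) ⟶
      (Sheaf.functorH (Opens.grothendieckTopology X.carrier) p).obj (Coh.toAb F) :=
  κ X.carrier U hcov (PA (fX A X) F) (Coh.toAb F) (φ₀ (fX A X) F) p

include hU in
lemma isIso_κF [F.IsQuasicoherent] (p : ℕ) : IsIso (κF A X F U hcov p) :=
  isIso_κ X.carrier U hcov _ _ _ p
    (fun n a => Function.bijective_id)
    (fun n a q => Cech.subsingleton_HU_succ_of_isAffineOpen X F _ (hU n a) q)

lemma κF_smul (p : ℕ) (a : A) (x : (KF A X F U).homology p) :
    (κF A X F U hcov p).hom (a • x) =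
      Sheaf.H.map (Coh.smulAb F (Coh.toGlobal (fX A X) a)) p ((κF A X F U hcov p).hom x) :=
  κ_smul X.carrier U hcov _ _ _ p a (Coh.smulAb F (Coh.toGlobal (fX A X) a)) (by
    ext V s
    rfl) x

include hU hcov in
/-- Finiteness of the cohomology of the Čech complex. -/
lemma finite_KF_homology [IsNoetherianRing A] [IsProper (fX A X)] (hF : Coh.IsCoh F)
    [F.IsQuasicoherent] (p : ℕ) : Module.Finite A ((KF A X F U).homology p) := by
  haveI := isIso_κF A X F U hcov hU p
  have hb := ConcreteCategory.bijective_of_isIso (κF A X F U hcov p)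
  let l : (KF A X F U).homology p →ₗ[A] Coh.HH X F p :=
    { toFun := fun x => (κF A X F U hcov p).hom x
      map_add' := fun x y => map_add _ x y
      map_smul' := fun a x => κF_smul A X F U hcov p a x }
  let e : (KF A X F U).homology p ≃ₗ[A] Coh.HH X F p := LinearEquiv.ofBijective l hb
  haveI : Module.Finite A (Coh.HH X F p) := Groth.Agent.S0002.result A X F hF p
  exact Module.Finite.equiv e.symm

end hyp

end Groth.Agent.Lib.Helper22.EGA7
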