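import Groth.Agent.Lib.Helper22.EGA7.Bridge4

set_option autoImplicit false
set_option linter.unusedSectionVars false
set_option linter.style.haveILetI false
set_option linter.unusedVariables false
universe u
open CategoryTheory CategoryTheory.Limits Opposite TopologicalSpace AlgebraicGeometry Abelian
open MonoidalCategory

namespace Groth.Agent.Lib.Helper22.EGA7

open _root_.Groth.Agent.Lib.Helper22.CohTop _root_.Groth.Agent.Lib.Helper22.ExtCompare
open _root_.Groth.Agent.Lib.Helper22.FBC

section main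

variable (A : Type u) [CommRing A] [IsNoetherianRing A] (X : Scheme.{u})
  [X.Over (Spec (CommRingCat.of A))] [IsProper (fX A X)]
  (F : X.Modules) {ι : Type u} [Finite ι] (U : ι → X.Opens) (hcov : ⨆ i, U i = ⊤)
  (hU : ∀ (n : ℕ) (a : Fin (n + 1) → ι), IsAffineOpen (⨅ k, U (a k)))

include hcov hU in
/-- Variant of `bridge_aux2` where the complex vanishes below `-dt` as soon as `H^p(X, F) = 0`
for `p > dt`. -/
theorem bridge_aux3 [CompactSpace X] [QuasiSeparatedSpace X] [F.IsQuasicoherent]
    (hF : Coh.IsCoh F) (hfl : FlatMod.IsFlatOver (fX A X) F) (dt : ℕ)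
    (hdt : ∀ p : ℕ, dt < p → Subsingleton (Coh.HH X F p)) :
    ∃ (Q : ChainComplex (ModuleCat.{u} A) ℤ),
      (∀ i, Module.Finite A (Q.X i) ∧ Module.Free A (Q.X i)) ∧
      (∀ i < -(dt : ℤ), IsZero (Q.X i)) ∧
      (∀ (i : ℤ), 0 < i → ∀ M : ModuleCat.{u} A, IsZero ((CohIII.TFun Q i).obj M)) ∧
      ∀ p : ℕ, Nonempty (CohIII.TFun Q (-(p : ℤ)) ⋙ fA A ≅
        CohIII.tensorAFunctor A F ⋙ CohIII.HAb X p) := by
  obtain ⟨d₀, hd₀⟩ := exists_uniform_vanishing X
  have hKflat := flat_KF A X F U hU hfl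
  have hPflat := flat_extend (KF A X F U) hKflat
  have hPfin := finite_extend_homology (KF A X F U)
    (fun p => finite_KF_homology A X F U hcov hU hF p)
  have hKvan : ∀ n, dt < n → IsZero ((KF A X F U).homology n) := by
    intro n hn
    haveI := isIso_κF A X F U hcov hU n
    haveI : Subsingleton ((KF A X F U).homology n) :=
      @Function.Injective.subsingleton _ _ _
        (ConcreteCategory.bijective_of_isIso (κF A X F U hcov n)).1 (hdt n hn)
    exact ModuleCat.isZero_of_subsingleton _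
  have hTvan : ∀ (M : ModuleCat.{u} A) (n : ℕ), d₀ ≤ n →
      IsZero ((CohIII.TFun (KF A X F U) n).obj M) := by
    intro M n hn
    haveI := isIso_c2 A X F U hcov hU M n
    haveI : Subsingleton ((CohIII.TFun (KF A X F U) n).obj M) :=
      @Function.Injective.subsingleton _ _ _
        (ConcreteCategory.bijective_of_isIso (c2 A X F U hcov M n)).1
        (hd₀ (GM (fX A X) F M) inferInstance n hn)
    exact ModuleCat.isZero_of_subsingleton _
  have hvan' : ∀ i < -(dt : ℤ), IsZero (((KF A X F U).extend eND).homology i) := by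
    intro i hi
    obtain ⟨n, rfl⟩ : ∃ n : ℕ, i = -(n : ℤ) := ⟨i.natAbs, by omega⟩
    have hn : dt < n := by omega
    exact (hKvan n hn).of_iso ((KF A X F U).extendHomologyIso eND (eND_f n))
  obtain ⟨Q, u, hQ, hQz, hqi⟩ :=
    Groth.Agent.Lib.Helper11.FFRes.exists_finite_free_resolution ((KF A X F U).extend eND) hPfin
      (-(dt : ℤ)) hvan'
  haveI := hqi
  have hQflat : ∀ i, Module.Flat A (Q.X i) := fun i => by
    haveI := (hQ i).2
    infer_instance
  have hQd : ∀ (M : ModuleCat.{u} A) (i : ℤ), i < -((dt + d₀ : ℕ) : ℤ) →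
      IsZero ((CohIII.tensorObj Q M).homology i) := fun M i hi =>
    ShortComplex.isZero_homology_of_isZero_X₂ _ (Functor.map_isZero (tensorRight M)
      (hQz i (by push_cast at hi; omega)))
  have hPd : ∀ (M : ModuleCat.{u} A) (i : ℤ), i < -((dt + d₀ : ℕ) : ℤ) →
      IsZero ((CohIII.tensorObj ((KF A X F U).extend eND) M).homology i) := fun M i hi =>
    isZero_tensor_extend_homology (KF A X F U) M d₀ (hTvan M) i (by push_cast at hi; omega)
  have hiso := isIso_homologyMap_tmap Q ((KF A X F U).extend eND) hQflat hPflat u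
    (-((dt + d₀ : ℕ) : ℤ)) hQd hPd
  refine ⟨Q, hQ, hQz, ?_, fun p => ⟨?_⟩⟩
  · intro i hi M
    have hz : IsZero ((CohIII.tensorObj ((KF A X F U).extend eND) M).homology i) :=
      ShortComplex.isZero_homology_of_isZero_X₂ _ (Functor.map_isZero (tensorRight M)
        ((KF A X F U).isZero_extend_X eND i (fun n hn => by rw [eND_f] at hn; omega)))
    exact hz.of_iso (@asIso _ _ _ _ _ (hiso i M))
  let N1 : CohIII.TFun Q (eND.f p) ≅ CohIII.TFun ((KF A X F U).extend eND) (eND.f p) :=
    NatIso.ofComponents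
      (fun M => @asIso _ _ _ _ (HomologicalComplex.homologyMap (tmap u M) (eND.f p))
        (hiso (eND.f p) M))
      (fun {M N} g => by
        change HomologicalComplex.homologyMap (CohIII.tensorMap Q g) _ ≫
          HomologicalComplex.homologyMap (tmap u N) _ =
          HomologicalComplex.homologyMap (tmap u M) _ ≫
            HomologicalComplex.homologyMap (CohIII.tensorMap ((KF A X F U).extend eND) g) _
        rw [← HomologicalComplex.homologyMap_comp, ← HomologicalComplex.homologyMap_comp,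
          tmap_naturality])
  let N3 : CohIII.TFun (KF A X F U) p ⋙ fA A ≅ CohIII.tensorAFunctor A F ⋙ CohIII.HAb X p :=
    NatIso.ofComponents
      (fun M => @asIso _ _ _ _ (c2 A X F U hcov M p) (isIso_c2 A X F U hcov hU M p))
      (fun {M N} g => c2_naturality A X F U hcov g p)
  exact Functor.isoWhiskerRight (N1 ≪≫ c1Iso (KF A X F U) p) (fA A) ≪≫ N3

end main

/-- **The bridge with a top bound**: as `bridge2`, with `Q_i = 0` for `i < -dt` whenever
`H^p(X, F) = 0` for all `p > dt`. -/
theorem bridge3 (A : Type u) [CommRing A] [IsNoetherianRing A] (X : Scheme.{u})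
    [X.Over (Spec (CommRingCat.of A))] [IsProper (X ↘ Spec (CommRingCat.of A))]
    (F : X.Modules) (hF : Coh.IsCoh F)
    (hfl : FlatMod.IsFlatOver (X ↘ Spec (CommRingCat.of A)) F) (dt : ℕ)
    (hdt : ∀ p : ℕ, dt < p → Subsingleton (Coh.HH X F p)) :
    ∃ (Q : ChainComplex (ModuleCat.{u} A) ℤ),
      (∀ i, Module.Finite A (Q.X i) ∧ Module.Free A (Q.X i)) ∧
      (∀ i < -(dt : ℤ), IsZero (Q.X i)) ∧
      (∀ (i : ℤ), 0 < i → ∀ M : ModuleCat.{u} A, IsZero ((CohIII.TFun Q i).obj M)) ∧
      ∀ p : ℕ, Nonempty (CohIII.TFun Q (-(p : ℤ)) ⋙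
        forget₂ (ModuleCat.{u} A) AddCommGrpCat.{u} ≅
        CohIII.tensorAFunctor A F ⋙ CohIII.HAb X p) := by
  haveI : X.IsSeparated := isSeparated_of_over (X ↘ Spec (CommRingCat.of A))
  haveI : CompactSpace X :=
    QuasiCompact.compactSpace_of_compactSpace (X ↘ Spec (CommRingCat.of A))
  haveI : F.IsQuasicoherent := hF.1
  obtain ⟨s, hs, e⟩ := isCompact_iff_finite_and_eq_biUnion_affineOpens.mp
    (show IsCompact ((⊤ : X.Opens) : Set X) by simpa using isCompact_univ)
  haveI : Finite s := hs.to_subtype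
  refine bridge_aux3 A X F (fun i : s => (i.1 : X.Opens)) ?_ ?_ hF hfl dt hdt
  · rw [e, iSup_subtype']
  · intro n a
    exact IsAffineOpen.iInf (fun k => (a k).1.2)

end Groth.Agent.Lib.Helper22.EGA7
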