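import Groth.Agent.S16022
import Groth.Agent.Lib.Helper22.CechEdge.Leray
import Groth.Agent.Lib.Helper22.Cech.SchemeLeray
import Groth.Agent.Lib.Helper22.FBC.Main

set_option autoImplicit false
set_option linter.unusedSectionVars false
universe u
open CategoryTheory CategoryTheory.Limits Opposite TopologicalSpace AlgebraicGeometry Abelian

namespace Groth.Agent.Lib.Helper22.EGA7

open _root_.Groth.Agent.Lib.Helper22.CohTop _root_.Groth.Agent.Lib.Helper22.ExtCompare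
open _root_.Groth.Agent.Lib.Helper22.FBC

section top

variable (T : TopCat.{u}) {ι : Type u} (U : ι → Opens T)

/-- the family over `⊤` -/
def Yf : ι → Over (⊤ : Opens T) := fun i => Over.mk (homOfLE (le_top : U i ≤ ⊤))

lemma cover_Yf (hcov : ⨆ i, U i = ⊤) :
    Sieve.ofArrows (fun i => (Yf T U i).left) (fun i => (Yf T U i).hom) ∈
      Opens.grothendieckTopology T ⊤ := by
  intro x hx
  have hx' : x ∈ ⨆ i, U i := by rw [hcov]; trivial
  obtain ⟨i, hi⟩ := Opens.mem_iSup.mp hx'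
  exact ⟨U i, homOfLE le_top, Sieve.ofArrows_mk _ _ i, hi⟩

lemma prod_left_eq {n : ℕ} (a : Fin (n + 1) → ι) :
    (∏ᶜ fun k => Yf T U (a k)).left = ⨅ k, U (a k) := by
  apply le_antisymm
  · refine le_iInf fun k => ?_
    exact leOfHom (Pi.π (fun k => Yf T U (a k)) k).left
  · let Z : Over (⊤ : Opens T) := Over.mk (homOfLE (le_top : (⨅ k, U (a k)) ≤ ⊤))
    let φ : Z ⟶ ∏ᶜ fun k => Yf T U (a k) :=
      Pi.lift fun k => Over.homMk (homOfLE (iInf_le _ k))
    exact leOfHom φ.left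


/-- a chosen edge family -/
noncomputable def edgeE (hcov : ⨆ i, U i = ⊤) : ∀ (P : (Opens T)ᵒᵖ ⥤ AddCommGrpCat.{u}) (p : ℕ),
    CohCx.cechH P (Yf T U) p →+
      CohSite.HU (CechEdge.shf (Opens.grothendieckTopology T) P) p (⊤ : Opens T) :=
  (CechEdge.exists_isEdge (J := Opens.grothendieckTopology T) (Y := Yf T U) (cover_Yf T U hcov)).choose

lemma edgeE_isEdge (hcov : ⨆ i, U i = ⊤) :
    CechEdge.IsEdge (Opens.grothendieckTopology T) (Yf T U) (edgeE T U hcov) :=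
  (CechEdge.exists_isEdge (J := Opens.grothendieckTopology T) (Y := Yf T U) (cover_Yf T U hcov)).choose_spec

/-- a chosen natural identification `Ext^p(ℤ_⊤, -) ≃ H^p(T, -)` -/
noncomputable def natE (p : ℕ) :
    NatFam (𝟭 (CohTop.Ab T)) (ZU (⊤ : Opens T)) (constZ T) (fun _ => True) p :=
  (nonempty_natFam_top T p).some

/-- The comparison map from Čech cohomology to sheaf cohomology. -/
noncomputable def cechToH (hcov : ⨆ i, U i = ⊤) (𝒢 : CohTop.Ab T) (p : ℕ) :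
    CohCx.cechH 𝒢.obj (Yf T U) p →+ Sheaf.H 𝒢 p :=
  ((natE T p).e 𝒢 trivial).toAddMonoidHom.comp (CechEdge.edgeSh (edgeE T U hcov) 𝒢 p)

lemma cechToH_naturality (hcov : ⨆ i, U i = ⊤) {𝒢 𝒢' : CohTop.Ab T} (ψ : 𝒢 ⟶ 𝒢') (p : ℕ)
    (x : CohCx.cechH 𝒢.obj (Yf T U) p) :
    cechToH T U hcov 𝒢' p (CechEdge.cechHMap (Yf T U) ψ.hom p x) =
      Sheaf.H.map ψ p (cechToH T U hcov 𝒢 p x) := by
  change (natE T p).e 𝒢' trivial (CechEdge.edgeSh (edgeE T U hcov) 𝒢' p
    (CechEdge.cechHMap (Yf T U) ψ.hom p x)) = _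
  rw [CechEdge.edgeSh_naturality (edgeE_isEdge T U hcov) ψ p x]
  exact (natE T p).nat trivial trivial ψ _

lemma cechToH_bijective (hcov : ⨆ i, U i = ⊤) (𝒢 : CohTop.Ab T) (p : ℕ)
    (h : ∀ (n : ℕ) (a : Fin (n + 1) → ι) (q : ℕ),
      Subsingleton (CohSite.HU 𝒢 (q + 1) (⨅ k, U (a k)))) :
    Function.Bijective (cechToH T U hcov 𝒢 p) := by
  have h1 : Function.Bijective (CechEdge.edgeSh (edgeE T U hcov) 𝒢 p) := by
    refine Groth.Agent.S16022.result (Opens.grothendieckTopology T) (Yf T U) (edgeE T U hcov)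
      (edgeE_isEdge T U hcov) 𝒢 ?_ p
    intro n a q
    rw [prod_left_eq]
    exact h n a q
  exact ((natE T p).e 𝒢 trivial).bijective.comp h1

end top

end Groth.Agent.Lib.Helper22.EGA7
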