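import Groth.Agent.Lib.Helper22.EGA7.Compare1
import Groth.Agent.Lib.Helper22.EGA7.CechGen

set_option autoImplicit false
set_option linter.unusedSectionVars false
universe u
open CategoryTheory CategoryTheory.Limits Opposite TopologicalSpace AlgebraicGeometry Abelian

namespace Groth.Agent.Lib.Helper22.EGA7

open _root_.Groth.Agent.Lib.Helper22.CohTop _root_.Groth.Agent.Lib.Helper22.ExtCompare
open _root_.Groth.Agent.Lib.Helper22.FBC

section homologyIso

variable {C D : Type*} [Category C] [Category D] [Abelian C] [Abelian D]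
  {κ : Type*} {c : ComplexShape κ} (Φ : C ⥤ D) [Φ.Additive] [Φ.PreservesHomology]

/-- A homology-preserving functor commutes with homology of complexes. -/
noncomputable def mapHCHomologyIso (K : HomologicalComplex C c) (i : κ) :
    ((Φ.mapHomologicalComplex c).obj K).homology i ≅ Φ.obj (K.homology i) :=
  (K.sc i).mapHomologyIso Φ

lemma mapHCHomologyIso_hom_naturality {K L : HomologicalComplex C c} (φ : K ⟶ L) (i : κ) :
    HomologicalComplex.homologyMap ((Φ.mapHomologicalComplex c).map φ) i ≫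
        (mapHCHomologyIso Φ L i).hom =
      (mapHCHomologyIso Φ K i).hom ≫ Φ.map (HomologicalComplex.homologyMap φ i) :=
  ShortComplex.mapHomologyIso_hom_naturality
    ((HomologicalComplex.shortComplexFunctor C c i).map φ) Φ

lemma mapHCHomologyIso_inv_naturality {K L : HomologicalComplex C c} (φ : K ⟶ L) (i : κ) :
    Φ.map (HomologicalComplex.homologyMap φ i) ≫ (mapHCHomologyIso Φ L i).inv =
      (mapHCHomologyIso Φ K i).inv ≫
        HomologicalComplex.homologyMap ((Φ.mapHomologicalComplex c).map φ) i :=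
  ShortComplex.mapHomologyIso_inv_naturality
    ((HomologicalComplex.shortComplexFunctor C c i).map φ) Φ

end homologyIso


section kappa

variable (T : TopCat.{u}) {ι : Type u} (U : ι → Opens T) (hcov : ⨆ i, U i = ⊤)
variable {A : Type u} [CommRing A]

/-- restriction to `Over ⊤` -/
abbrev ov : (Over (⊤ : Opens T))ᵒᵖ ⥤ (Opens T)ᵒᵖ := (Over.forget (⊤ : Opens T)).op

variable (A) in
/-- the forgetful functor -/
abbrev fA : ModuleCat.{u} A ⥤ AddCommGrpCat.{u} := forget₂ (ModuleCat.{u} A) AddCommGrpCat.{u}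

/-- the Čech complex of a presheaf of modules -/
noncomputable abbrev KM (Pm : (Opens T)ᵒᵖ ⥤ ModuleCat.{u} A) :
    CochainComplex (ModuleCat.{u} A) ℕ :=
  CKg (Yf T U) (ov T ⋙ Pm)

/-- The comparison from the cohomology of the Čech complex of modules to sheaf cohomology. -/
noncomputable def κ (hcov : ⨆ i, U i = ⊤) (Pm : (Opens T)ᵒᵖ ⥤ ModuleCat.{u} A) (𝒢 : CohTop.Ab T)
    (φ : Pm ⋙ fA A ⟶ 𝒢.obj) (p : ℕ) :
    (fA A).obj ((KM T U Pm).homology p) ⟶
      (Sheaf.functorH (Opens.grothendieckTopology T) p).obj 𝒢 :=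
  (mapHCHomologyIso (fA A) (KM T U Pm) p).inv ≫
    HomologicalComplex.homologyMap (cechMapIso (Yf T U) (fA A) (ov T ⋙ Pm)).hom p ≫
    HomologicalComplex.homologyMap ((CechEdge.cxFunctor (Yf T U)).map φ) p ≫
    AddCommGrpCat.ofHom (cechToH T U hcov 𝒢 p)

lemma κ_naturality {Pm Pm' : (Opens T)ᵒᵖ ⥤ ModuleCat.{u} A} {𝒢 𝒢' : CohTop.Ab T}
    (φ : Pm ⋙ fA A ⟶ 𝒢.obj) (φ' : Pm' ⋙ fA A ⟶ 𝒢'.obj) (α : Pm ⟶ Pm') (ψ : 𝒢 ⟶ 𝒢')
    (hc : Functor.whiskerRight α (fA A) ≫ φ' = φ ≫ ψ.hom) (p : ℕ) :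
    (fA A).map (HomologicalComplex.homologyMap
        ((cechComplexFunctor (Yf T U)).map (Functor.whiskerLeft (ov T) α)) p) ≫
        κ T U hcov Pm' 𝒢' φ' p =
      κ T U hcov Pm 𝒢 φ p ≫ (Sheaf.functorH (Opens.grothendieckTopology T) p).map ψ := by
  unfold κ
  rw [← Category.assoc, mapHCHomologyIso_inv_naturality, Category.assoc, Category.assoc,
    Category.assoc, Category.assoc]
  congr 1
  rw [← HomologicalComplex.homologyMap_comp_assoc, cechMapIso_naturality,
    HomologicalComplex.homologyMap_comp_assoc]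
  congr 1
  have e1 : (cechComplexFunctor (Yf T U)).map
        (Functor.whiskerRight (Functor.whiskerLeft (ov T) α) (fA A)) ≫
        (CechEdge.cxFunctor (Yf T U)).map φ' =
      (CechEdge.cxFunctor (Yf T U)).map φ ≫ (CechEdge.cxFunctor (Yf T U)).map ψ.hom := by
    rw [← Functor.map_comp, ← hc, Functor.map_comp]
    rfl
  rw [← HomologicalComplex.homologyMap_comp_assoc, e1, HomologicalComplex.homologyMap_comp_assoc]
  congr 1
  ext x
  exact cechToH_naturality T U hcov ψ p x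

lemma isIso_κ (Pm : (Opens T)ᵒᵖ ⥤ ModuleCat.{u} A) (𝒢 : CohTop.Ab T)
    (φ : Pm ⋙ fA A ⟶ 𝒢.obj) (p : ℕ)
    (hφ : ∀ (n : ℕ) (a : Fin (n + 1) → ι), Function.Bijective (φ.app (op (⨅ k, U (a k)))))
    (h𝒢 : ∀ (n : ℕ) (a : Fin (n + 1) → ι) (q : ℕ),
      Subsingleton (CohSite.HU 𝒢 (q + 1) (⨅ k, U (a k)))) :
    IsIso (κ T U hcov Pm 𝒢 φ p) := by
  unfold κ
  have h3 : IsIso (HomologicalComplex.homologyMap ((CechEdge.cxFunctor (Yf T U)).map φ) p) := by
    rw [ConcreteCategory.isIso_iff_bijective]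
    refine CechEdge.cechHMap_bijective_of_bijective (Yf T U) φ (fun n σ => ?_) p
    have h := hφ n σ
    rw [← prod_left_eq T U σ] at h
    exact h
  have h4 : IsIso (AddCommGrpCat.ofHom (cechToH T U hcov 𝒢 p)) := by
    rw [ConcreteCategory.isIso_iff_bijective]
    exact cechToH_bijective T U hcov 𝒢 p h𝒢
  have h2 : IsIso (HomologicalComplex.homologyMap
      (cechMapIso (Yf T U) (fA A) (ov T ⋙ Pm)).hom p) := by
    change IsIso ((HomologicalComplex.homologyFunctor _ _ p).map _)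
    infer_instance
  exact IsIso.comp_isIso' inferInstance (IsIso.comp_isIso' h2 (IsIso.comp_isIso' h3 h4))

/-- multiplication by `a` on a presheaf of modules -/
noncomputable def smulNat (Pm : (Opens T)ᵒᵖ ⥤ ModuleCat.{u} A) (a : A) : Pm ⟶ Pm where
  app V := a • 𝟙 _
  naturality := by
    intro V W i
    rw [Linear.comp_smul, Linear.smul_comp, Category.comp_id, Category.id_comp]

lemma cx_smulNat (Pm : (Opens T)ᵒᵖ ⥤ ModuleCat.{u} A) (a : A) :
    (cechComplexFunctor (Yf T U)).map (Functor.whiskerLeft (ov T) (smulNat T Pm a)) =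
      a • 𝟙 (KM T U Pm) := by
  ext n : 1
  refine hom_ext_projg (Yf T U) _ _ _ fun σ => ?_
  rw [map_projg, HomologicalComplex.smul_f_apply, Linear.smul_comp]
  change projg (Yf T U) (ov T ⋙ Pm) n σ ≫ (a • 𝟙 ((ov T ⋙ Pm).obj (op (Uσg (Yf T U) σ)))) =
    a • (𝟙 _ ≫ projg (Yf T U) (ov T ⋙ Pm) n σ)
  rw [Linear.comp_smul, Category.comp_id, Category.id_comp]

lemma homologyMap_smul_id (K : CochainComplex (ModuleCat.{u} A) ℕ) (a : A) (p : ℕ)
    (x : K.homology p) :
    (HomologicalComplex.homologyMap (a • 𝟙 K) p).hom x = a • x := by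
  have h : HomologicalComplex.homologyMap (a • 𝟙 K) p = a • 𝟙 _ := by
    have h1 : (HomologicalComplex.shortComplexFunctor (ModuleCat.{u} A) (ComplexShape.up ℕ) p).map
        (a • 𝟙 K) = a • 𝟙 _ := rfl
    change ShortComplex.homologyMap _ = _
    rw [h1, ShortComplex.homologyMap_smul, ShortComplex.homologyMap_id]
    rfl
  rw [h]
  rfl

lemma κ_smul (Pm : (Opens T)ᵒᵖ ⥤ ModuleCat.{u} A) (𝒢 : CohTop.Ab T)
    (φ : Pm ⋙ fA A ⟶ 𝒢.obj) (p : ℕ) (a : A) (ρ : 𝒢 ⟶ 𝒢)
    (hρ : Functor.whiskerRight (smulNat T Pm a) (fA A) ≫ φ = φ ≫ ρ.hom)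
    (x : (KM T U Pm).homology p) :
    (κ T U hcov Pm 𝒢 φ p).hom (a • x) = Sheaf.H.map ρ p ((κ T U hcov Pm 𝒢 φ p).hom x) := by
  have h := κ_naturality T U hcov φ φ (smulNat T Pm a) ρ hρ p
  rw [cx_smulNat] at h
  have h2 := ConcreteCategory.congr_hom h x
  rw [← homologyMap_smul_id (KM T U Pm) a p x]
  exact h2

end kappa

end Groth.Agent.Lib.Helper22.EGA7
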