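import Groth.Agent.Lib.Helper22.EGA7.FR1
import Groth.Agent.Lib.Helper22.EGA7.BC4
import Groth.Agent.Lib.Helper29.TensorIso
import Groth.Agent.Lib.Helper29.QCohLocFree

set_option autoImplicit false
set_option linter.unusedSectionVars false
set_option linter.style.haveILetI false
set_option linter.unusedVariables false
universe u
open CategoryTheory CategoryTheory.Limits Opposite TopologicalSpace AlgebraicGeometry Abelian
open MonoidalCategory TensorProduct

namespace Groth.Agent.Lib.Helper22.EGA7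

section FR2

variable {X : Scheme.{u}}

/-- Module morphisms commute with multiplication by global functions. -/
lemma smulAb_naturality {G G' : X.Modules} (ψ : G ⟶ G') (r : Coh.Γtop X) :
    Coh.smulAb G r ≫ (SheafOfModules.toSheaf X.ringCatSheaf).map ψ =
      (SheafOfModules.toSheaf X.ringCatSheaf).map ψ ≫ Coh.smulAb G' r := by
  ext U m
  exact (ψ.val.app U).hom.map_smul (Coh.resTop X U r) m

lemma HH_map_smul {G G' : X.Modules} (ψ : G ⟶ G') (p : ℕ) (r : Coh.Γtop X) (x : Coh.HH X G p) :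
    Sheaf.H.map ((SheafOfModules.toSheaf X.ringCatSheaf).map ψ) p (r • x) =
      r • Sheaf.H.map ((SheafOfModules.toSheaf X.ringCatSheaf).map ψ) p x := by
  change Sheaf.H.map _ p (Sheaf.H.map (Coh.smulAb G r) p x) =
    Sheaf.H.map (Coh.smulAb G' r) p (Sheaf.H.map _ p x)
  rw [← Sheaf.H.map_comp_apply, ← Sheaf.H.map_comp_apply, smulAb_naturality]

/-- `f'^*(B~) ⊗ G ≅ G`. -/
noncomputable def tAFUnitIso (B : Type u) [CommRing B] (X' : Scheme.{u})
    [X'.Over (Spec (CommRingCat.of B))] (G : X'.Modules) :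
    (CohIII.tensorAFunctor B G).obj (ModuleCat.of B B) ≅ G :=
  Groth.Agent.Lib.Helper29.QCoh.tensorCongr
    (Groth.Agent.Lib.Helper29.QCoh.pullbackUnitIso (X' ↘ Spec (CommRingCat.of B)))
    (Iso.refl G) ≪≫ Groth.Agent.Lib.Helper29.QCoh.tensorUnitL G

end FR2

section FR3

variable (A B : Type u) [CommRing A] [CommRing B] [Algebra A B]
  (X X' : Scheme.{u}) [X.Over (Spec (CommRingCat.of A))] [X'.Over (Spec (CommRingCat.of B))]
  [CompactSpace X] [X.IsSeparated] (g : X' ⟶ X)
  (H : IsPullback g (X' ↘ Spec (CommRingCat.of B)) (X ↘ Spec (CommRingCat.of A))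
    (Spec.map (CommRingCat.ofHom (algebraMap A B))))
  (F : X.Modules) [F.IsQuasicoherent] {ι : Type} {c : ComplexShape ι}
  (Q : HomologicalComplex (ModuleCat.{u} A) c) (j : ι) (p : ℕ)
  (e : CohIII.TFun Q j ⋙ forget₂ (ModuleCat.{u} A) AddCommGrpCat.{u} ≅
    CohIII.tensorAFunctor A F ⋙ CohIII.HAb X p)

include H e in
/-- The cohomology of the base change is computed, `B`-linearly, by the base-changed complex. -/
theorem fibre_linearEquiv :
    Nonempty ((CohIII.bcCx (algebraMap A B) Q).homology j ≃ₗ[B]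
      Coh.HH X' ((Scheme.Modules.pullback g).obj F) p) := by
  obtain ⟨ε₁⟩ := tensorA_baseChange A B X X' g H F p
  let ε : ModuleCat.restrictScalars (algebraMap A B) ⋙ CohIII.TFun Q j ⋙
      forget₂ (ModuleCat.{u} A) AddCommGrpCat.{u} ≅
      CohIII.tensorAFunctor B ((Scheme.Modules.pullback g).obj F) ⋙ CohIII.HAb X' p :=
    Functor.isoWhiskerLeft (ModuleCat.restrictScalars (algebraMap A B)) e ≪≫ ε₁
  let M₀ : ModuleCat.{u} B := ModuleCat.of B B
  let G₀ := (CohIII.tensorAFunctor B ((Scheme.Modules.pullback g).obj F)).obj M₀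
  let β : B → ((CohIII.TFun Q j).obj (BA A B) →+ (CohIII.TFun Q j).obj (BA A B)) := fun b =>
    ((CohIII.TFun Q j).map ((ModuleCat.restrictScalars (algebraMap A B)).map
      (b • 𝟙 M₀))).hom.toAddMonoidHom
  let u : (CohIII.TFun Q j).obj (BA A B) ≃+ Coh.HH X' G₀ p :=
    (ε.app M₀).addCommGroupIsoToAddEquiv
  let t : (CohIII.TFun Q j).obj (BA A B) ≃+ (CohIII.bcCx (algebraMap A B) Q).homology j :=
    (θiso B Q j).toLinearEquiv.toAddEquiv
  let w : Coh.HH X' G₀ p ≃+ Coh.HH X' ((Scheme.Modules.pullback g).obj F) p :=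
    ((CohIII.HAb X' p).mapIso
      (tAFUnitIso B X' ((Scheme.Modules.pullback g).obj F))).addCommGroupIsoToAddEquiv
  have ht : ∀ (b : B) (v : (CohIII.TFun Q j).obj (BA A B)), t (β b v) = b • t v := by
    intro b v
    exact congrArg (fun k => k.hom v) (θiso_b Q j b)
  have hu : ∀ (b : B) (v : (CohIII.TFun Q j).obj (BA A B)), u (β b v) = b • u v := by
    intro b v
    have h := ConcreteCategory.congr_hom (ε.hom.naturality (b • 𝟙 M₀)) v
    have h2 : (CohIII.tensorAFunctor B ((Scheme.Modules.pullback g).obj F) ⋙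
        CohIII.HAb X' p).map (b • 𝟙 M₀) =
        AddCommGrpCat.ofHom (Sheaf.H.map (Coh.smulAb G₀ (Coh.toGlobal (fX B X') b)) p) := by
      rw [← toSheaf_map_tAF_smul B X' ((Scheme.Modules.pullback g).obj F) M₀ b]
      rfl
    rw [h2] at h
    exact h
  have hw : ∀ (b : B) (x : Coh.HH X' G₀ p), w (b • x) = b • w x := by
    intro b x
    exact HH_map_smul (tAFUnitIso B X' ((Scheme.Modules.pullback g).obj F)).hom p
      (Coh.toGlobal (fX B X') b) x
  let Λ : (CohIII.bcCx (algebraMap A B) Q).homology j ≃+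
      Coh.HH X' ((Scheme.Modules.pullback g).obj F) p := t.symm.trans (u.trans w)
  refine ⟨{ Λ with map_smul' := fun b y => ?_ }⟩
  obtain ⟨v, rfl⟩ := t.surjective y
  change w (u (t.symm (b • t v))) = b • w (u (t.symm (t v)))
  rw [← ht, AddEquiv.symm_apply_apply, AddEquiv.symm_apply_apply, hu, hw]

end FR3

end Groth.Agent.Lib.Helper22.EGA7
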