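import Groth.Agent.Lib.Helper22.EGA7.Glob2

/-!
# Cohomology of the base change to an arbitrary field-valued point (helper22)

Generalisation of `fibre_glob` / `fiberRank_glob` from the residue field of a point to any field
`K` with a morphism `t : Spec K ⟶ Y` landing in the affine open `V`.
-/

set_option autoImplicit false
set_option linter.unusedSectionVars false
set_option linter.style.haveILetI false
set_option linter.unusedVariables false
universe u
open CategoryTheory CategoryTheory.Limits Opposite TopologicalSpace AlgebraicGeometry Abelian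
open MonoidalCategory TensorProduct

namespace Groth.Agent.Lib.Helper22.EGA7

section FibreBC

variable {X Y : Scheme.{u}} (f : X ⟶ Y) {V : Y.Opens} (hV : IsAffineOpen V)

/-- The cohomology of the base change of `F` to a field-valued point `t : Spec K ⟶ Y` with image
in `V` is computed by the base change of the complex `Q`; in particular its dimension is the rank
function of `Q` at the image point. -/
theorem finrank_fieldPoint [IsProper f] (F : X.Modules) (hF : Coh.IsCoh F)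
    (Q : ChainComplex (ModuleCat.{u} ↑Γ(Y, V)) ℤ) (j : ℤ) (p : ℕ)
    (e : letI : (f ⁻¹ᵁ V).toScheme.Over (Spec (CommRingCat.of ↑Γ(Y, V))) := ⟨sV f hV⟩
      CohIII.TFun Q j ⋙ forget₂ (ModuleCat.{u} ↑Γ(Y, V)) AddCommGrpCat.{u} ≅
        CohIII.tensorAFunctor ↑Γ(Y, V) (F.restrict (f ⁻¹ᵁ V).ι) ⋙
          CohIII.HAb (f ⁻¹ᵁ V).toScheme p)
    (K : Type u) [Field K] (t : Spec (CommRingCat.of K) ⟶ Y) (y : Y) (hy : y ∈ V)
    (ht : ∀ z, t z = y)
    {P : Scheme.{u}} (fst : P ⟶ X) (snd : P ⟶ Spec (CommRingCat.of K))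
    (H0 : IsPullback fst snd f t) :
    letI : P.Over (Spec (CommRingCat.of K)) := ⟨snd⟩
    Module.finrank K (Coh.HH P ((Scheme.Modules.pullback fst).obj F) p) =
      CohIII.dRank Q j (ptV hV y hy) := by
  letI ovX : (f ⁻¹ᵁ V).toScheme.Over (Spec (CommRingCat.of ↑Γ(Y, V))) := ⟨sV f hV⟩
  letI ovP : P.Over (Spec (CommRingCat.of K)) := ⟨snd⟩
  haveI : F.IsQuasicoherent := hF.1
  haveI : (F.restrict (f ⁻¹ᵁ V).ι).IsQuasicoherent :=
    (Groth.Agent.Lib.Helper12.H12Fin.isCoh_restrict _ F hF).1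
  haveI hprop : IsProper ((f ⁻¹ᵁ V).toScheme ↘ Spec (CommRingCat.of ↑Γ(Y, V))) :=
    (inferInstance : IsProper (sV f hV))
  haveI : (f ⁻¹ᵁ V).toScheme.IsSeparated :=
    isSeparated_of_over ((f ⁻¹ᵁ V).toScheme ↘ Spec (CommRingCat.of ↑Γ(Y, V)))
  haveI : CompactSpace (f ⁻¹ᵁ V).toScheme :=
    QuasiCompact.compactSpace_of_compactSpace
      ((f ⁻¹ᵁ V).toScheme ↘ Spec (CommRingCat.of ↑Γ(Y, V)))
  have hr1 : Set.range t.base ⊆ Set.range V.ι.base := by
    rintro _ ⟨z, rfl⟩
    rw [Scheme.Opens.range_ι]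
    change t z ∈ V
    rw [ht z]
    exact hy
  let jy : Spec (CommRingCat.of K) ⟶ V.toScheme := IsOpenImmersion.lift V.ι t hr1
  have hjy : jy ≫ V.ι = t := IsOpenImmersion.lift_fac _ _ _
  have hr2 : Set.range fst.base ⊆ Set.range (f ⁻¹ᵁ V).ι.base := by
    rintro _ ⟨z, rfl⟩
    rw [Scheme.Opens.range_ι]
    change f (fst z) ∈ V
    rw [← Scheme.Hom.comp_apply, H0.w, Scheme.Hom.comp_apply, ht]
    exact hy
  let g : P ⟶ (f ⁻¹ᵁ V).toScheme := IsOpenImmersion.lift (f ⁻¹ᵁ V).ι fst hr2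
  have hg : g ≫ (f ⁻¹ᵁ V).ι = fst := IsOpenImmersion.lift_fac _ _ _
  -- the algebra structure on `K`
  let α : CommRingCat.of ↑Γ(Y, V) ⟶ CommRingCat.of K := Spec.preimage (jy ≫ hV.isoSpec.hom)
  have hα : Spec.map α = jy ≫ hV.isoSpec.hom := Spec.map_preimage _
  letI alg : Algebra ↑Γ(Y, V) K := α.hom.toAlgebra
  have hm : Spec.map (CommRingCat.ofHom (algebraMap ↑Γ(Y, V) K)) = jy ≫ hV.isoSpec.hom := hα
  have H1 : IsPullback (f ⁻¹ᵁ V).ι (f ∣_ V) f V.ι := (isPullback_morphismRestrict f V).flip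
  have H2 : IsPullback g snd (f ∣_ V) jy := by
    refine IsPullback.of_right ?_ ?_ H1
    · rw [hg, hjy]
      exact H0
    · rw [← cancel_mono V.ι, Category.assoc, Category.assoc, hjy, ← H1.w, ← Category.assoc, hg]
      exact H0.w
  have H3 : IsPullback g snd (sV f hV)
      (Spec.map (CommRingCat.ofHom (algebraMap ↑Γ(Y, V) K))) := by
    have h := IsPullback.paste_vert H2
      (IsPullback.of_vert_isIso (fst := jy) (snd := 𝟙 _) (f := hV.isoSpec.hom)
        (g := jy ≫ hV.isoSpec.hom) ⟨(Category.id_comp _).symm⟩)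
    rw [Category.comp_id] at h
    exact (congrArg (fun z => IsPullback g snd (sV f hV) z) hm).mpr h
  obtain ⟨L⟩ := fibre_linearEquiv ↑Γ(Y, V) K (f ⁻¹ᵁ V).toScheme P g H3
    (F.restrict (f ⁻¹ᵁ V).ι) Q j p e
  let ψ : (Scheme.Modules.pullback g).obj (F.restrict (f ⁻¹ᵁ V).ι) ≅
      (Scheme.Modules.pullback fst).obj F :=
    (Scheme.Modules.pullback g).mapIso
        ((Scheme.Modules.restrictFunctorIsoPullback (f ⁻¹ᵁ V).ι).app F) ≪≫
      (Scheme.Modules.pullbackComp g (f ⁻¹ᵁ V).ι).app F ≪≫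
      (Scheme.Modules.pullbackCongr hg).app F
  let w : Coh.HH P ((Scheme.Modules.pullback g).obj (F.restrict (f ⁻¹ᵁ V).ι)) p ≃+
      Coh.HH P ((Scheme.Modules.pullback fst).obj F) p :=
    ((CohIII.HAb P p).mapIso ψ).addCommGroupIsoToAddEquiv
  have hw : ∀ (b : K)
      (x : Coh.HH P ((Scheme.Modules.pullback g).obj (F.restrict (f ⁻¹ᵁ V).ι)) p),
      w (b • x) = b • w x := by
    intro b x
    exact HH_map_smul ψ.hom p (Coh.toGlobal (fX K P) b) x
  let L' : (CohIII.bcCx (algebraMap ↑Γ(Y, V) K) Q).homology j ≃ₗ[K]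
      Coh.HH P ((Scheme.Modules.pullback fst).obj F) p :=
    L.trans { w with map_smul' := hw }
  rw [← L'.finrank_eq]
  let x' : PrimeSpectrum K := ⟨⊥, Ideal.isPrime_bot⟩
  have h2 := Groth.Agent.Lib.Helper28.FlatCx.dRank_bcCx (A' := K) Q j x'
  have h3 : CohIII.dRank (CohIII.bcCx (algebraMap ↑Γ(Y, V) K) Q) j x' =
      Module.finrank K ((CohIII.bcCx (algebraMap ↑Γ(Y, V) K) Q).homology j) :=
    Groth.Agent.Lib.Helper28.FlatCx.finrank_homology_bcCx_field
      (algebraMap K x'.asIdeal.ResidueField)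
      (CohIII.bcCx (algebraMap ↑Γ(Y, V) K) Q) j
  rw [← h3, h2]
  congr 1
  -- the image point
  have hinj : Function.Injective hV.fromSpec.base := hV.fromSpec.isOpenEmbedding.injective
  apply hinj
  have h4 : hV.fromSpec.base (ptV hV y hy) = y := by
    unfold ptV
    rw [← Scheme.Hom.comp_apply, IsAffineOpen.isoSpec_hom_fromSpec]
    rfl
  rw [h4]
  have h5 : Spec.map (CommRingCat.ofHom (algebraMap ↑Γ(Y, V) K)) ≫ hV.fromSpec = t := by
    rw [hm, Category.assoc, IsAffineOpen.isoSpec_hom_fromSpec, hjy]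
  have h6 := congrArg (fun φ : Spec (CommRingCat.of K) ⟶ Y => φ.base x') h5
  simp only [Scheme.Hom.comp_apply] at h6
  rw [ht] at h6
  exact h6

end FibreBC

end Groth.Agent.Lib.Helper22.EGA7
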