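import Groth.Agent.Lib.Helper22.EGA7.Linear

set_option autoImplicit false
set_option linter.unusedSectionVars false
set_option linter.style.haveILetI false
set_option linter.unusedVariables false
universe u
open CategoryTheory CategoryTheory.Limits Opposite TopologicalSpace AlgebraicGeometry Abelian

namespace Groth.Agent.Lib.Helper22.EGA7
open _root_.Groth.Agent.Lib.Helper22.FBC

variable (A : Type u) [CommRing A] (X : Scheme.{u}) [X.Over (Spec (CommRingCat.of A))]

section gid
variable (G : X.Modules)

/-- identity map -/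
noncomputable def gId : ((CohIII.globalSectionsA A).obj G) →+ (Coh.toAb G).obj.obj (op ⊤) :=
  AddMonoidHom.id _

lemma gId_smul (a : A) (s : (CohIII.globalSectionsA A).obj G) :
    gId A X G (a • s) = (Coh.smulAb G (Coh.toGlobal (fX A X) a)).hom.app (op ⊤) (gId A X G s) := by
  rw [Coh.smulAb_app]
  have h1 : Coh.resTop X (op ⊤) (Coh.toGlobal (fX A X) a) = Coh.toGlobal (fX A X) a := by
    change (X.ringCatSheaf.obj.map (𝟙 _)).hom _ = _
    rw [CategoryTheory.Functor.map_id]
    rfl
  rw [h1]
  rfl

end gid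

section main

variable (F : X.Modules) [F.IsQuasicoherent] (Q : ChainComplex (ModuleCat.{u} A) ℤ)
  (e : CohIII.TFun Q 0 ⋙ fA A ≅ CohIII.tensorAFunctor A F ⋙ CohIII.HAb X 0)

/-- the underlying additive map -/
noncomputable def gFun (M : ModuleCat.{u} A) :
    (CohIII.TFun Q 0).obj M →+ (CohIII.tensorAFunctor A F ⋙ CohIII.globalSectionsA A).obj M :=
  ((Sheaf.H.equiv₀ (Coh.toAb ((CohIII.tensorAFunctor A F).obj M))
    (isTerminalTop : IsTerminal (⊤ : Opens X.carrier))).toAddMonoidHom).comp (e.hom.app M).hom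

lemma gFun_bijective (M : ModuleCat.{u} A) : Function.Bijective (gFun A X F Q e M) :=
  (Sheaf.H.equiv₀ _ _).bijective.comp (ConcreteCategory.bijective_of_isIso (e.hom.app M))

lemma gFun_smul (M : ModuleCat.{u} A) (a : A) (x : (CohIII.TFun Q 0).obj M) :
    gFun A X F Q e M (a • x) = a • gFun A X F Q e M x := by
  change Sheaf.H.equiv₀ _ _ ((e.hom.app M).hom (a • x)) = _
  rw [natIso_linear A X F Q 0 0 e M a x, ← Sheaf.H.equiv₀_naturality]
  exact (gId_smul A X _ a _).symm

/-- the linear equivalence -/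
noncomputable def gEquiv (M : ModuleCat.{u} A) :
    (CohIII.TFun Q 0).obj M ≃ₗ[A] (CohIII.tensorAFunctor A F ⋙ CohIII.globalSectionsA A).obj M :=
  LinearEquiv.ofBijective
    { toFun := gFun A X F Q e M
      map_add' := map_add _
      map_smul' := gFun_smul A X F Q e M } (gFun_bijective A X F Q e M)

/-- **`Γ(X, f^*M~ ⊗ F)` as an `A`-module valued functor is `H_0(Q ⊗ -)`.** -/
noncomputable def gammaIso :
    CohIII.TFun Q 0 ≅ CohIII.tensorAFunctor A F ⋙ CohIII.globalSectionsA A :=
  NatIso.ofComponents (fun M => (gEquiv A X F Q e M).toModuleIso) (by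
    intro M N g
    ext x
    change gFun A X F Q e N (((CohIII.TFun Q 0).map g).hom x) =
      ((CohIII.tensorAFunctor A F ⋙ CohIII.globalSectionsA A).map g).hom (gFun A X F Q e M x)
    have h := ConcreteCategory.congr_hom (e.hom.naturality g) x
    change Sheaf.H.equiv₀ _ _ ((e.hom.app N).hom (((CohIII.TFun Q 0).map g).hom x)) = _
    rw [show (e.hom.app N).hom (((CohIII.TFun Q 0).map g).hom x) =
      Sheaf.H.map ((SheafOfModules.toSheaf X.ringCatSheaf).map
        ((CohIII.tensorAFunctor A F).map g)) 0 ((e.hom.app M).hom x) from h,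
      ← Sheaf.H.equiv₀_naturality]
    rfl)

end main

end Groth.Agent.Lib.Helper22.EGA7
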