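import Groth.Agent.Lib.Helper22.EGA7.FR4
import Groth.Agent.Lib.Helper8.FlatAffine
import Groth.Agent.Lib.Helper12.RP4

set_option autoImplicit false
set_option linter.unusedSectionVars false
set_option linter.style.haveILetI false
set_option linter.unusedVariables false
universe u
open CategoryTheory CategoryTheory.Limits Opposite TopologicalSpace AlgebraicGeometry Abelian
open MonoidalCategory TensorProduct

namespace Groth.Agent.Lib.Helper22.EGA7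

section Glob1

variable {X Y : Scheme.{u}} (f : X ⟶ Y) {V : Y.Opens} (hV : IsAffineOpen V)

/-- structure morphism of `f⁻¹V` over `Spec Γ(Y, V)`. -/
noncomputable def sV : (f ⁻¹ᵁ V).toScheme ⟶ Spec (CommRingCat.of ↑Γ(Y, V)) :=
  (f ∣_ V) ≫ hV.isoSpec.hom

instance [IsProper f] : IsProper (sV f hV) := by
  unfold sV
  infer_instance

lemma sV_appLE (U : (f ⁻¹ᵁ V).toScheme.Opens) :
    (sV f hV).appLE ⊤ U le_top =
      (Scheme.ΓSpecIso (CommRingCat.of ↑Γ(Y, V))).hom ≫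
        f.appLE V ((f ⁻¹ᵁ V).ι ''ᵁ U) (by
          intro x hx
          obtain ⟨y, -, rfl⟩ := hx
          exact y.2) := by
  unfold sV
  rw [← Scheme.Hom.appLE_comp_appLE _ _ ⊤ ⊤ U le_top le_top, morphismRestrict_appLE]
  have h1 : hV.isoSpec.hom.appLE ⊤ ⊤ le_top = hV.isoSpec.hom.appTop := by
    rw [Scheme.Hom.appLE]
    have h0 : (homOfLE (le_top : (⊤ : (↑V : Scheme.{u}).Opens) ≤ hV.isoSpec.hom ⁻¹ᵁ ⊤)).op = 𝟙 _ :=
      Subsingleton.elim _ _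
    erw [h0, CategoryTheory.Functor.map_id]
    exact (Category.comp_id (hV.isoSpec.hom.app ⊤))
  rw [h1, IsAffineOpen.isoSpec_hom_appTop, Category.assoc]
  congr 1
  rw [Scheme.Opens.topIso_inv]
  exact Scheme.Hom.map_appLE f _ _

theorem isFlatOver_sV (F : X.Modules) (hF : Coh.IsCoh F) (hfl : FlatMod.IsFlatOver f F) :
    FlatMod.IsFlatOver (sV f hV) (F.restrict (f ⁻¹ᵁ V).ι) := by
  haveI := hF.1
  haveI : (F.restrict (f ⁻¹ᵁ V).ι).IsQuasicoherent :=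
    (Groth.Agent.Lib.Helper12.H12Fin.isCoh_restrict _ F hF).1
  intro x
  obtain ⟨U, hU, hxU, -⟩ := exists_isAffineOpen_mem_and_subset (x := x)
    (U := (⊤ : (f ⁻¹ᵁ V).toScheme.Opens)) trivial
  have hW : IsAffineOpen ((f ⁻¹ᵁ V).ι ''ᵁ U) := hU.image_of_isOpenImmersion _
  have hWV : (f ⁻¹ᵁ V).ι ''ᵁ U ≤ f ⁻¹ᵁ V := by
    intro z hz
    obtain ⟨y, -, rfl⟩ := hz
    exact y.2
  have h1 := Groth.Agent.Lib.Helper8.FlatAffine.flat_sections_of_isFlatOverAt f F hW hV hWV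
    (fun x _ => hfl x)
  refine Groth.Agent.Lib.Helper8.FlatAffine.isFlatOverAt_of_flat_sections (sV f hV)
    (F.restrict (f ⁻¹ᵁ V).ι) hU (isAffineOpen_top _) le_top x hxU ?_
  letI m1 : Module ↑Γ(Y, V) ↑Γ(F, (f ⁻¹ᵁ V).ι ''ᵁ U) :=
    Module.compHom _ (f.appLE V ((f ⁻¹ᵁ V).ι ''ᵁ U) hWV).hom
  haveI fl1 : Module.Flat ↑Γ(Y, V) ↑Γ(F, (f ⁻¹ᵁ V).ι ''ᵁ U) := h1
  let φ1 : ↑Γ(Y, V) →+* ↑Γ((f ⁻¹ᵁ V).toScheme, U) := (f.appLE V ((f ⁻¹ᵁ V).ι ''ᵁ U) hWV).hom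
  letI m1' : Module ↑Γ(Y, V) ↑Γ(F.restrict (f ⁻¹ᵁ V).ι, U) := Module.compHom _ φ1
  letI m0 : Module ↑Γ(Spec (CommRingCat.of ↑Γ(Y, V)), ⊤) ↑Γ(F.restrict (f ⁻¹ᵁ V).ι, U) :=
    Module.compHom _ ((sV f hV).appLE ⊤ U le_top).hom
  let E : ↑Γ(F.restrict (f ⁻¹ᵁ V).ι, U) ≃ₗ[↑Γ(Y, V)] ↑Γ(F, (f ⁻¹ᵁ V).ι ''ᵁ U) :=
    { toFun := fun x => x
      invFun := fun x => x
      left_inv := fun _ => rfl
      right_inv := fun _ => rfl
      map_add' := fun _ _ => rfl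
      map_smul' := fun r x =>
        Groth.Agent.Lib.Helper12.H12Fin.restrict_smul_eq (f ⁻¹ᵁ V) F U (φ1 r) x }
  haveI fl2 : Module.Flat ↑Γ(Y, V) ↑Γ(F.restrict (f ⁻¹ᵁ V).ι, U) :=
    Module.Flat.of_linearEquiv E
  letI alg : Algebra ↑Γ(Spec (CommRingCat.of ↑Γ(Y, V)), ⊤) ↑Γ(Y, V) :=
    (Scheme.ΓSpecIso (CommRingCat.of ↑Γ(Y, V))).hom.hom.toAlgebra
  haveI : IsScalarTower ↑Γ(Spec (CommRingCat.of ↑Γ(Y, V)), ⊤) ↑Γ(Y, V)
      ↑Γ(F.restrict (f ⁻¹ᵁ V).ι, U) :=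
    IsScalarTower.of_algebraMap_smul (fun c m => by
      change φ1 ((Scheme.ΓSpecIso (CommRingCat.of ↑Γ(Y, V))).hom.hom c) • m =
        ((sV f hV).appLE ⊤ U le_top).hom c • m
      rw [sV_appLE]
      rfl)
  have hb : Function.Bijective (Algebra.linearMap ↑Γ(Spec (CommRingCat.of ↑Γ(Y, V)), ⊤) ↑Γ(Y, V)) :=
    (ConcreteCategory.isIso_iff_bijective _).mp
      (inferInstance : IsIso (Scheme.ΓSpecIso (CommRingCat.of ↑Γ(Y, V))).hom)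
  haveI : Module.Flat ↑Γ(Spec (CommRingCat.of ↑Γ(Y, V)), ⊤) ↑Γ(Y, V) :=
    Module.Flat.of_linearEquiv (LinearEquiv.ofBijective _ hb).symm
  exact Module.Flat.trans ↑Γ(Spec (CommRingCat.of ↑Γ(Y, V)), ⊤) ↑Γ(Y, V)
    ↑Γ(F.restrict (f ⁻¹ᵁ V).ι, U)

end Glob1

end Groth.Agent.Lib.Helper22.EGA7
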