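import Groth.Agent.Lib.Helper22.EGA7.Glob1
import Groth.Agent.Lib.Helper22.EGA7.LinEquiv
import Groth.Agent.Lib.Helper28.FlatCxBounded

set_option autoImplicit false
set_option linter.unusedSectionVars false
set_option linter.style.haveILetI false
set_option linter.unusedVariables false
universe u
open CategoryTheory CategoryTheory.Limits Opposite TopologicalSpace AlgebraicGeometry Abelian
open MonoidalCategory TensorProduct

namespace Groth.Agent.Lib.Helper22.EGA7

section Glob2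

variable {X Y : Scheme.{u}} (f : X ⟶ Y) {V : Y.Opens} (hV : IsAffineOpen V)

/-- The residue field at a point of `V` as a `Γ(Y, V)`-algebra. -/
@[reducible] noncomputable def resAlg (y : Y) (hy : y ∈ V) : Algebra ↑Γ(Y, V) (Y.residueField y) :=
  (Y.presheaf.germ V y hy ≫ Y.residue y).hom.toAlgebra

/-- The fibre cohomology is computed by the base change of the complex. -/
theorem fibre_glob [IsProper f] (F : X.Modules) (hF : Coh.IsCoh F)
    (Q : ChainComplex (ModuleCat.{u} ↑Γ(Y, V)) ℤ) (j : ℤ) (p : ℕ)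
    (e : letI : (f ⁻¹ᵁ V).toScheme.Over (Spec (CommRingCat.of ↑Γ(Y, V))) := ⟨sV f hV⟩
      CohIII.TFun Q j ⋙ forget₂ (ModuleCat.{u} ↑Γ(Y, V)) AddCommGrpCat.{u} ≅
        CohIII.tensorAFunctor ↑Γ(Y, V) (F.restrict (f ⁻¹ᵁ V).ι) ⋙
          CohIII.HAb (f ⁻¹ᵁ V).toScheme p)
    (y : Y) (hy : y ∈ V) :
    letI := resAlg y hy
    Nonempty ((CohIII.bcCx (algebraMap ↑Γ(Y, V) (Y.residueField y)) Q).homology j ≃ₗ[Y.residueField y]
      CohIII.fiberH f F y p) := by
  letI ovX : (f ⁻¹ᵁ V).toScheme.Over (Spec (CommRingCat.of ↑Γ(Y, V))) := ⟨sV f hV⟩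
  letI alg := resAlg y hy
  haveI : F.IsQuasicoherent := hF.1
  haveI : (F.restrict (f ⁻¹ᵁ V).ι).IsQuasicoherent :=
    (Groth.Agent.Lib.Helper12.H12Fin.isCoh_restrict _ F hF).1
  haveI hprop : IsProper ((f ⁻¹ᵁ V).toScheme ↘ Spec (CommRingCat.of ↑Γ(Y, V))) :=
    (inferInstance : IsProper (sV f hV))
  haveI : (f ⁻¹ᵁ V).toScheme.IsSeparated :=
    isSeparated_of_over ((f ⁻¹ᵁ V).toScheme ↘ Spec (CommRingCat.of ↑Γ(Y, V)))
  haveI : CompactSpace (f ⁻¹ᵁ V).toScheme :=
    QuasiCompact.compactSpace_of_compactSpace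
      ((f ⁻¹ᵁ V).toScheme ↘ Spec (CommRingCat.of ↑Γ(Y, V)))
  letI ov : (f.fiber y).Over (Spec (CommRingCat.of ↑(Y.residueField y))) := CohIII.fiberOver f y
  have hr1 : Set.range (Y.fromSpecResidueField y).base ⊆ Set.range V.ι.base := by
    rintro _ ⟨z, rfl⟩
    rw [Scheme.Opens.range_ι]
    change (Y.fromSpecResidueField y) z ∈ V
    rw [Scheme.fromSpecResidueField_apply]
    exact hy
  let jy : Spec (Y.residueField y) ⟶ V.toScheme :=
    IsOpenImmersion.lift V.ι (Y.fromSpecResidueField y) hr1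
  have hjy : jy ≫ V.ι = Y.fromSpecResidueField y := IsOpenImmersion.lift_fac _ _ _
  have H0 : IsPullback (f.fiberι y) (f.fiberToSpecResidueField y) f (Y.fromSpecResidueField y) :=
    IsPullback.of_hasPullback f (Y.fromSpecResidueField y)
  have hr2 : Set.range (f.fiberι y).base ⊆ Set.range (f ⁻¹ᵁ V).ι.base := by
    rintro _ ⟨z, rfl⟩
    rw [Scheme.Opens.range_ι]
    change f ((f.fiberι y) z) ∈ V
    rw [← Scheme.Hom.comp_apply, H0.w, Scheme.Hom.comp_apply, Scheme.fromSpecResidueField_apply]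
    exact hy
  let g : f.fiber y ⟶ (f ⁻¹ᵁ V).toScheme := IsOpenImmersion.lift (f ⁻¹ᵁ V).ι (f.fiberι y) hr2
  have hg : g ≫ (f ⁻¹ᵁ V).ι = f.fiberι y := IsOpenImmersion.lift_fac _ _ _
  have hm : Spec.map (CommRingCat.ofHom (algebraMap ↑Γ(Y, V) (Y.residueField y))) =
      jy ≫ hV.isoSpec.hom := by
    have h1 : CommRingCat.ofHom (algebraMap ↑Γ(Y, V) (Y.residueField y)) =
        Y.presheaf.germ V y hy ≫ Y.residue y := rfl
    rw [← cancel_mono hV.isoSpec.inv, Category.assoc, Iso.hom_inv_id, Category.comp_id,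
      ← cancel_mono V.ι, Category.assoc, hjy, IsAffineOpen.isoSpec_inv_ι, h1, Spec.map_comp,
      Category.assoc]
    change _ = Spec.map (Y.residue y) ≫ Y.fromSpecStalk y
    rw [← hV.fromSpecStalk_eq_fromSpecStalk hy]
    rfl
  have H1 : IsPullback (f ⁻¹ᵁ V).ι (f ∣_ V) f V.ι := (isPullback_morphismRestrict f V).flip
  have H2 : IsPullback g (f.fiberToSpecResidueField y) (f ∣_ V) jy := by
    refine IsPullback.of_right ?_ ?_ H1
    · rw [hg, hjy]
      exact H0
    · rw [← cancel_mono V.ι, Category.assoc, Category.assoc, hjy, ← H1.w, ← Category.assoc, hg]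
      exact H0.w
  have H3 : IsPullback g (f.fiberToSpecResidueField y) (sV f hV)
      (Spec.map (CommRingCat.ofHom (algebraMap ↑Γ(Y, V) (Y.residueField y)))) := by
    have h := IsPullback.paste_vert H2
      (IsPullback.of_vert_isIso (fst := jy) (snd := 𝟙 _) (f := hV.isoSpec.hom)
        (g := jy ≫ hV.isoSpec.hom) ⟨(Category.id_comp _).symm⟩)
    rw [Category.comp_id] at h
    exact (congrArg (fun z => IsPullback g (f.fiberToSpecResidueField y) (sV f hV) z) hm).mpr h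
  obtain ⟨L⟩ := fibre_linearEquiv ↑Γ(Y, V) (Y.residueField y) (f ⁻¹ᵁ V).toScheme (f.fiber y) g H3
    (F.restrict (f ⁻¹ᵁ V).ι) Q j p e
  let ψ : (Scheme.Modules.pullback g).obj (F.restrict (f ⁻¹ᵁ V).ι) ≅ CohIII.fiberMod f F y :=
    (Scheme.Modules.pullback g).mapIso
        ((Scheme.Modules.restrictFunctorIsoPullback (f ⁻¹ᵁ V).ι).app F) ≪≫
      (Scheme.Modules.pullbackComp g (f ⁻¹ᵁ V).ι).app F ≪≫
      (Scheme.Modules.pullbackCongr hg).app F
  let w : Coh.HH (f.fiber y) ((Scheme.Modules.pullback g).obj (F.restrict (f ⁻¹ᵁ V).ι)) p ≃+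
      CohIII.fiberH f F y p :=
    ((CohIII.HAb (f.fiber y) p).mapIso ψ).addCommGroupIsoToAddEquiv
  have hw : ∀ (b : Y.residueField y)
      (x : Coh.HH (f.fiber y) ((Scheme.Modules.pullback g).obj (F.restrict (f ⁻¹ᵁ V).ι)) p),
      w (b • x) = b • w x := by
    intro b x
    exact HH_map_smul ψ.hom p (Coh.toGlobal (fX (Y.residueField y) (f.fiber y)) b) x
  exact ⟨L.trans { w with map_smul' := hw }⟩

/-- the point of `Spec Γ(Y, V)` corresponding to `y ∈ V`. -/
noncomputable def ptV (y : Y) (hy : y ∈ V) : PrimeSpectrum ↑Γ(Y, V) := hV.isoSpec.hom ⟨y, hy⟩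

lemma comap_resAlg (y : Y) (hy : y ∈ V) (x' : PrimeSpectrum (Y.residueField y)) :
    letI := resAlg y hy
    PrimeSpectrum.comap (algebraMap ↑Γ(Y, V) (Y.residueField y)) x' = ptV hV y hy := by
  letI alg := resAlg y hy
  have h1 : CommRingCat.ofHom (algebraMap ↑Γ(Y, V) (Y.residueField y)) =
      Y.presheaf.germ V y hy ≫ Y.residue y := rfl
  have h2 : Spec.map (CommRingCat.ofHom (algebraMap ↑Γ(Y, V) (Y.residueField y))) ≫ hV.fromSpec =
      Y.fromSpecResidueField y := by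
    rw [h1, Spec.map_comp, Category.assoc]
    change _ = Spec.map (Y.residue y) ≫ Y.fromSpecStalk y
    rw [← hV.fromSpecStalk_eq_fromSpecStalk hy]
    rfl
  have hinj : Function.Injective hV.fromSpec.base := hV.fromSpec.isOpenEmbedding.injective
  apply hinj
  have h3 : hV.fromSpec.base (ptV hV y hy) = y := by
    unfold ptV
    rw [← Scheme.Hom.comp_apply, IsAffineOpen.isoSpec_hom_fromSpec]
    rfl
  rw [h3]
  have h4 := congrArg (fun φ : Spec (Y.residueField y) ⟶ Y => φ.base x') h2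
  simp only [Scheme.Hom.comp_apply] at h4
  rw [Scheme.fromSpecResidueField_apply] at h4
  exact h4

/-- The fibre rank is the rank function of the complex. -/
theorem fiberRank_glob [IsProper f] (F : X.Modules) (hF : Coh.IsCoh F)
    (Q : ChainComplex (ModuleCat.{u} ↑Γ(Y, V)) ℤ) (j : ℤ) (p : ℕ)
    (e : letI : (f ⁻¹ᵁ V).toScheme.Over (Spec (CommRingCat.of ↑Γ(Y, V))) := ⟨sV f hV⟩
      CohIII.TFun Q j ⋙ forget₂ (ModuleCat.{u} ↑Γ(Y, V)) AddCommGrpCat.{u} ≅
        CohIII.tensorAFunctor ↑Γ(Y, V) (F.restrict (f ⁻¹ᵁ V).ι) ⋙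
          CohIII.HAb (f ⁻¹ᵁ V).toScheme p)
    (y : Y) (hy : y ∈ V) :
    CohIII.fiberRank f F p y = CohIII.dRank Q j (ptV hV y hy) := by
  letI alg := resAlg y hy
  obtain ⟨L⟩ := fibre_glob f hV F hF Q j p e y hy
  have h1 : CohIII.fiberRank f F p y = Module.finrank (Y.residueField y)
      ((CohIII.bcCx (algebraMap ↑Γ(Y, V) (Y.residueField y)) Q).homology j) := L.finrank_eq.symm
  rw [h1]
  let x' : PrimeSpectrum (Y.residueField y) := ⟨⊥, Ideal.isPrime_bot⟩
  have h2 := Groth.Agent.Lib.Helper28.FlatCx.dRank_bcCx (A' := Y.residueField y) Q j x'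
  have h3 : CohIII.dRank (CohIII.bcCx (algebraMap ↑Γ(Y, V) (Y.residueField y)) Q) j x' =
      Module.finrank (Y.residueField y)
        ((CohIII.bcCx (algebraMap ↑Γ(Y, V) (Y.residueField y)) Q).homology j) :=
    Groth.Agent.Lib.Helper28.FlatCx.finrank_homology_bcCx_field
      (algebraMap (Y.residueField y) x'.asIdeal.ResidueField)
      (CohIII.bcCx (algebraMap ↑Γ(Y, V) (Y.residueField y)) Q) j
  rw [← h3, h2, comap_resAlg hV y hy x']

end Glob2

end Groth.Agent.Lib.Helper22.EGA7
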