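import Groth.Agent.Lib.Helper22.EGA7.Glob2

set_option autoImplicit false
set_option linter.unusedSectionVars false
set_option linter.style.haveILetI false
set_option linter.unusedVariables false
universe u
open CategoryTheory CategoryTheory.Limits Opposite TopologicalSpace AlgebraicGeometry Abelian
open MonoidalCategory TensorProduct

namespace Groth.Agent.Lib.Helper22.EGA7

section Glob3

variable {X Y : Scheme.{u}} (f : X ⟶ Y) {V : Y.Opens} (hV : IsAffineOpen V)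

lemma toGlobal_sV (a : ↑Γ(Y, V)) :
    Coh.toGlobal (sV f hV) a = (f ∣_ V).appTop.hom (V.topIso.inv.hom a) := by
  unfold Coh.toGlobal sV
  rw [Scheme.Hom.comp_appTop, IsAffineOpen.isoSpec_hom_appTop]
  change (f ∣_ V).appTop.hom (V.topIso.inv.hom ((Scheme.ΓSpecIso _).hom.hom
    ((Scheme.ΓSpecIso _).inv.hom a))) = _
  congr 2
  exact ConcreteCategory.congr_hom (Scheme.ΓSpecIso (CommRingCat.of ↑Γ(Y, V))).inv_hom_id a

/-- The homology of the complex computes the sections of the higher direct image over `V`. -/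
theorem sections_glob [IsProper f] [HasInjectiveResolutions X.Modules] (F : X.Modules)
    (hF : Coh.IsCoh F)
    (Q : ChainComplex (ModuleCat.{u} ↑Γ(Y, V)) ℤ) (j : ℤ) (p : ℕ)
    (e : letI : (f ⁻¹ᵁ V).toScheme.Over (Spec (CommRingCat.of ↑Γ(Y, V))) := ⟨sV f hV⟩
      CohIII.TFun Q j ⋙ forget₂ (ModuleCat.{u} ↑Γ(Y, V)) AddCommGrpCat.{u} ≅
        CohIII.tensorAFunctor ↑Γ(Y, V) (F.restrict (f ⁻¹ᵁ V).ι) ⋙
          CohIII.HAb (f ⁻¹ᵁ V).toScheme p) :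
    Nonempty (Q.homology j ≃ₗ[↑Γ(Y, V)] (Γ((Coh.Rpush f p).obj F, V) : Type u)) := by
  letI ovX : (f ⁻¹ᵁ V).toScheme.Over (Spec (CommRingCat.of ↑Γ(Y, V))) := ⟨sV f hV⟩
  haveI : F.IsQuasicoherent := hF.1
  haveI : (F.restrict (f ⁻¹ᵁ V).ι).IsQuasicoherent :=
    (Groth.Agent.Lib.Helper12.H12Fin.isCoh_restrict _ F hF).1
  haveI : EnoughInjectives (f ⁻¹ᵁ V).toScheme.Modules :=
    Groth.Agent.S0485.result (Opens.grothendieckTopology _) (f ⁻¹ᵁ V).toScheme.ringCatSheaf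
  haveI : HasInjectiveResolutions (f ⁻¹ᵁ V).toScheme.Modules := inferInstance
  haveI : IsAffine V.toScheme := hV
  let FV := F.restrict (f ⁻¹ᵁ V).ι
  let N := (Coh.Rpush f p).obj F
  -- a. homology ≃ T(A)
  let E1 : Q.homology j ≃ₗ[↑Γ(Y, V)] (CohIII.TFun Q j).obj (ModuleCat.of ↑Γ(Y, V) ↑Γ(Y, V)) :=
    (Groth.Agent.Lib.Helper28.FlatCx.TAIso Q j).symm.toLinearEquiv
  -- b.
  let E2 := linEquivOfIso ↑Γ(Y, V) (f ⁻¹ᵁ V).toScheme FV Q j p e (ModuleCat.of ↑Γ(Y, V) ↑Γ(Y, V))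
  -- c.
  let w : Coh.HH (f ⁻¹ᵁ V).toScheme
      ((CohIII.tensorAFunctor ↑Γ(Y, V) FV).obj (ModuleCat.of ↑Γ(Y, V) ↑Γ(Y, V))) p ≃+
      Coh.HH (f ⁻¹ᵁ V).toScheme FV p :=
    ((CohIII.HAb (f ⁻¹ᵁ V).toScheme p).mapIso
      (tAFUnitIso ↑Γ(Y, V) (f ⁻¹ᵁ V).toScheme FV)).addCommGroupIsoToAddEquiv
  have hw : ∀ (a : ↑Γ(Y, V)) x, w (a • x) = a • w x := by
    intro a x
    exact HH_map_smul (tAFUnitIso ↑Γ(Y, V) (f ⁻¹ᵁ V).toScheme FV).hom p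
      (Coh.toGlobal (fX ↑Γ(Y, V) (f ⁻¹ᵁ V).toScheme) a) x
  let E3 : Coh.HH (f ⁻¹ᵁ V).toScheme
      ((CohIII.tensorAFunctor ↑Γ(Y, V) FV).obj (ModuleCat.of ↑Γ(Y, V) ↑Γ(Y, V))) p ≃ₗ[↑Γ(Y, V)]
      Coh.HH (f ⁻¹ᵁ V).toScheme FV p := { w with map_smul' := hw }
  -- d.
  obtain ⟨e4, he4⟩ := Groth.Agent.Lib.Helper12.H12RP.exists_HH_addEquiv_sections_Rpush_linear
    (f ∣_ V) FV p
  -- e.
  let ρ := (Groth.Agent.Lib.Helper12.H12RP.RpushRestrictIso f V p).app F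
  have hρ1 : ρ.hom.app ⊤ ≫ ρ.inv.app ⊤ = 𝟙 _ := by
    rw [← Scheme.Modules.Hom.comp_app, ρ.hom_inv_id]
    rfl
  have hρ2 : ρ.inv.app ⊤ ≫ ρ.hom.app ⊤ = 𝟙 _ := by
    rw [← Scheme.Modules.Hom.comp_app, ρ.inv_hom_id]
    rfl
  let e5 : (Γ((Coh.Rpush (f ∣_ V) p).obj FV, ⊤) : Type u) ≃+ (Γ(N.restrict V.ι, ⊤) : Type u) :=
    { toFun := (ρ.inv.app ⊤).hom
      invFun := (ρ.hom.app ⊤).hom
      left_inv := fun x => ConcreteCategory.congr_hom hρ2 x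
      right_inv := fun x => ConcreteCategory.congr_hom hρ1 x
      map_add' := (ρ.inv.app ⊤).hom.map_add }
  have he5 : ∀ (b : ↑Γ(V.toScheme, ⊤)) z, e5 (b • z) = b • e5 z := fun b z =>
    Scheme.Modules.Hom.app_smul ρ.inv b z
  let e6 := Groth.Agent.Lib.Helper12.H12Fin.restrictTopEquiv V N
  let Λ : Coh.HH (f ⁻¹ᵁ V).toScheme FV p ≃+ (Γ(N, V) : Type u) := (e4.trans e5).trans e6
  have hΛ : ∀ (a : ↑Γ(Y, V)) x, Λ (a • x) = a • Λ x := by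
    intro a x
    have h1 : a • x = (show Coh.Γtop (f ⁻¹ᵁ V).toScheme from
        (f ∣_ V).appTop.hom (V.topIso.inv.hom a)) • x := by
      change (Coh.toGlobal (sV f hV) a) • x = _
      rw [toGlobal_sV]
    change e6 (e5 (e4 (a • x))) = a • e6 (e5 (e4 x))
    rw [h1, he4, he5]
    exact Groth.Agent.Lib.Helper12.H12Fin.restrictTopEquiv_smul V N a _
  let E4 : Coh.HH (f ⁻¹ᵁ V).toScheme FV p ≃ₗ[↑Γ(Y, V)] (Γ(N, V) : Type u) :=
    { Λ with map_smul' := hΛ }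
  exact ⟨((E1.trans E2).trans E3).trans E4⟩

end Glob3

end Groth.Agent.Lib.Helper22.EGA7
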