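import Groth.Agent.Lib.Helper22.EGA7.Glob3
import Groth.Agent.Lib.Helper22.EGA7.GlobAlg
import Groth.Agent.Lib.Helper22.EGA7.Bridge4
import Groth.Agent.Lib.Helper29.QCohLocFree

set_option autoImplicit false
set_option linter.unusedSectionVars false
set_option linter.style.haveILetI false
set_option linter.unusedVariables false
universe u
open CategoryTheory CategoryTheory.Limits Opposite TopologicalSpace AlgebraicGeometry Abelian
open MonoidalCategory TensorProduct

namespace Groth.Agent.Lib.Helper22.EGA7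

section Glob4

variable {X Y : Scheme.{u}} (f : X ⟶ Y) {V : Y.Opens} (hV : IsAffineOpen V)

/-- **Cohomology and base change, the local package.** Over an affine open `V` of a locally
Noetherian `Y`, the cohomology of the fibres and the higher direct images of a coherent module,
flat over `Y`, along a proper morphism are computed by a bounded-below complex of finite free
`Γ(Y, V)`-modules. -/
theorem glue [IsProper f] [IsLocallyNoetherian Y] [HasInjectiveResolutions X.Modules]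
    (F : X.Modules) (hF : Coh.IsCoh F) (hfl : FlatMod.IsFlatOver f F) :
    ∃ (Q : ChainComplex (ModuleCat.{u} ↑Γ(Y, V)) ℤ) (d : ℤ),
      (∀ i, Module.Finite ↑Γ(Y, V) (Q.X i) ∧ Module.Free ↑Γ(Y, V) (Q.X i)) ∧
      (∀ i < d, IsZero (Q.X i)) ∧
      (∀ (i : ℤ), 0 < i → ∀ M : ModuleCat.{u} ↑Γ(Y, V), IsZero ((CohIII.TFun Q i).obj M)) ∧
      ∀ p : ℕ,
        (∀ (y : Y) (hy : y ∈ V), CohIII.fiberRank f F p y =
          CohIII.dRank Q (-(p : ℤ)) (ptV hV y hy)) ∧
        (∀ (y : Y) (hy : y ∈ V), Module.Finite (Y.residueField y) (CohIII.fiberH f F y p)) ∧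
        Nonempty (Q.homology (-(p : ℤ)) ≃ₗ[↑Γ(Y, V)] (Γ((Coh.Rpush f p).obj F, V) : Type u)) := by
  letI ovX : (f ⁻¹ᵁ V).toScheme.Over (Spec (CommRingCat.of ↑Γ(Y, V))) := ⟨sV f hV⟩
  haveI : IsNoetherianRing ↑Γ(Y, V) := IsLocallyNoetherian.component_noetherian ⟨V, hV⟩
  haveI hprop : IsProper ((f ⁻¹ᵁ V).toScheme ↘ Spec (CommRingCat.of ↑Γ(Y, V))) :=
    (inferInstance : IsProper (sV f hV))
  obtain ⟨Q, d, hQ, hd, hpos, hp⟩ := bridge2 ↑Γ(Y, V) (f ⁻¹ᵁ V).toScheme
    (F.restrict (f ⁻¹ᵁ V).ι) (Groth.Agent.Lib.Helper12.H12Fin.isCoh_restrict _ F hF)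
    (isFlatOver_sV f hV F hF hfl)
  refine ⟨Q, d, hQ, hd, hpos, fun p => ?_⟩
  obtain ⟨e⟩ := hp p
  refine ⟨fun y hy => fiberRank_glob f hV F hF Q _ p e y hy, fun y hy => ?_,
    sections_glob f hV F hF Q _ p e⟩
  letI := resAlg y hy
  obtain ⟨L⟩ := fibre_glob f hV F hF Q _ p e y hy
  haveI := (hQ (-(p : ℤ))).1
  haveI : Module.Finite (Y.residueField y)
      ((CohIII.bcCx (algebraMap ↑Γ(Y, V) (Y.residueField y)) Q).homology (-(p : ℤ))) :=
    finite_homology_bcCx_field Q _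
  exact Module.Finite.equiv L

omit f in
lemma ptV_surjective (x : PrimeSpectrum ↑Γ(Y, V)) : ∃ (y : Y) (hy : y ∈ V), ptV hV y hy = x := by
  obtain ⟨z, hz⟩ := (ConcreteCategory.bijective_of_isIso hV.isoSpec.hom.base).2 x
  exact ⟨z.1, z.2, hz⟩

omit f in
lemma isOpen_ptV_preimage (O : Set (PrimeSpectrum ↑Γ(Y, V))) (hO : IsOpen O) :
    IsOpen {y : Y | ∃ hy : y ∈ V, ptV hV y hy ∈ O} := by
  have h1 : IsOpen (hV.isoSpec.hom.base ⁻¹' O) := hO.preimage hV.isoSpec.hom.continuous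
  have h2 : IsOpen (V.ι.base '' (hV.isoSpec.hom.base ⁻¹' O)) :=
    V.ι.isOpenEmbedding.isOpenMap _ h1
  convert h2 using 1
  ext y
  constructor
  · rintro ⟨hy, h⟩
    exact ⟨⟨y, hy⟩, h, rfl⟩
  · rintro ⟨z, hz, rfl⟩
    exact ⟨z.2, hz⟩

omit f in
include hV in
/-- A quasi-coherent module with no sections over an affine open restricts to zero there. -/
lemma isZero_restrict_of_subsingleton (M : Y.Modules) [M.IsQuasicoherent]
    [Subsingleton (Γ(M, V) : Type u)] : IsZero (M.restrict V.ι) := by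
  have e0 : (Γ(M, V) : Type u) ≃ₗ[↑Γ(Y, V)] (Fin 0 →₀ ↑Γ(Y, V)) :=
    { toFun := fun _ => 0
      invFun := fun _ => 0
      left_inv := fun _ => Subsingleton.elim _ _
      right_inv := fun _ => Subsingleton.elim _ _
      map_add' := fun _ _ => (add_zero _).symm
      map_smul' := fun _ _ => (smul_zero _).symm }
  have h1 := Groth.Agent.Lib.Helper29.QCoh.isFreeAlong_ι_of_linearEquiv M hV e0
  obtain ⟨i⟩ := (Groth.Agent.Lib.Helper29.QCoh.isFreeAlong_iff_restrict M V.ι 0).mp h1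
  refine IsZero.of_iso ?_ i
  rw [IsZero.iff_id_eq_zero]
  exact Sigma.hom_ext _ _ (fun j => j.elim0)

end Glob4

end Groth.Agent.Lib.Helper22.EGA7
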