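import Groth.Agent.Lib.Helper22.EGA7.Glob4

set_option autoImplicit false
set_option linter.unusedSectionVars false
set_option linter.style.haveILetI false
set_option linter.unusedVariables false
universe u
open CategoryTheory CategoryTheory.Limits Opposite TopologicalSpace AlgebraicGeometry Abelian
open MonoidalCategory TensorProduct

namespace Groth.Agent.Lib.Helper22.EGA7

section Glob5

variable {X Y : Scheme.{u}} (f : X ⟶ Y) [HasInjectiveResolutions X.Modules]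
  {V : Y.Opens} (hV : IsAffineOpen V)

/-- The conclusion of `glue`, as a predicate on the complex. -/
def IsGlue (F : X.Modules) (Q : ChainComplex (ModuleCat.{u} ↑Γ(Y, V)) ℤ) : Prop :=
  (∀ i, Module.Finite ↑Γ(Y, V) (Q.X i) ∧ Module.Free ↑Γ(Y, V) (Q.X i)) ∧
  (∃ d : ℤ, ∀ i < d, IsZero (Q.X i)) ∧
  (∀ (i : ℤ), 0 < i → ∀ M : ModuleCat.{u} ↑Γ(Y, V), IsZero ((CohIII.TFun Q i).obj M)) ∧
  ∀ p : ℕ,
    (∀ (y : Y) (hy : y ∈ V), CohIII.fiberRank f F p y =
      CohIII.dRank Q (-(p : ℤ)) (ptV hV y hy)) ∧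
    (∀ (y : Y) (hy : y ∈ V), Module.Finite (Y.residueField y) (CohIII.fiberH f F y p)) ∧
    Nonempty (Q.homology (-(p : ℤ)) ≃ₗ[↑Γ(Y, V)] (Γ((Coh.Rpush f p).obj F, V) : Type u))

theorem glue' [IsProper f] [IsLocallyNoetherian Y] (F : X.Modules) (hF : Coh.IsCoh F)
    (hfl : FlatMod.IsFlatOver f F) :
    ∃ Q : ChainComplex (ModuleCat.{u} ↑Γ(Y, V)) ℤ, IsGlue f hV F Q := by
  obtain ⟨Q, d, h1, h2, h3, h4⟩ := glue f hV F hF hfl
  exact ⟨Q, h1, ⟨d, h2⟩, h3, h4⟩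

lemma IsGlue.finFlat {F : X.Modules} {Q : ChainComplex (ModuleCat.{u} ↑Γ(Y, V)) ℤ}
    (h : IsGlue f hV F Q) (i : ℤ) :
    Module.Finite ↑Γ(Y, V) (Q.X i) ∧ Module.Flat ↑Γ(Y, V) (Q.X i) :=
  have := (h.1 i).2
  ⟨(h.1 i).1, inferInstance⟩

lemma rel_down (j : ℤ) : (ComplexShape.down ℤ).Rel j (j - 1) := by
  change j - 1 + 1 = j
  ring

/-- Local freeness of the higher direct image from exactness of the functors `T`. -/
theorem locFree_of_exact [IsProper f] [IsLocallyNoetherian Y] (F : X.Modules) (hF : Coh.IsCoh F)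
    (hfl : FlatMod.IsFlatOver f F) (p : ℕ)
    (hex : ∀ (V : Y.Opens) (hV : IsAffineOpen V) (Q : ChainComplex (ModuleCat.{u} ↑Γ(Y, V)) ℤ),
      IsGlue f hV F Q → (CohIII.TFun Q (-(p : ℤ))).PreservesMonomorphisms ∧
        (CohIII.TFun Q (-(p : ℤ))).PreservesEpimorphisms) :
    FlatMod.IsFinLocFree ((Coh.Rpush f p).obj F) ∧
      ∀ y : Y, ∃ U : Y.Opens, y ∈ U ∧
        Nonempty (((Coh.Rpush f p).obj F).restrict U.ι ≅
          FlatMod.freeMod (↑U) (CohIII.fiberRank f F p y)) := by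
  haveI : F.IsQuasicoherent := hF.1
  haveI : ((Coh.Rpush f p).obj F).IsQuasicoherent := Groth.Agent.S0030.result f F p
  have key : ∀ (V : Y.Opens) (hV : IsAffineOpen V),
      Module.Finite ↑Γ(Y, V) (Γ((Coh.Rpush f p).obj F, V) : Type u) ∧
      Module.Projective ↑Γ(Y, V) (Γ((Coh.Rpush f p).obj F, V) : Type u) ∧
      ∀ (y : Y) (hy : y ∈ V),
        Module.rankAtStalk (R := ↑Γ(Y, V)) (Γ((Coh.Rpush f p).obj F, V) : Type u) (ptV hV y hy) =
          CohIII.fiberRank f F p y := by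
    intro V hV
    haveI : IsNoetherianRing ↑Γ(Y, V) := IsLocallyNoetherian.component_noetherian ⟨V, hV⟩
    obtain ⟨Q, hQ⟩ := glue' f hV F hF hfl
    obtain ⟨h1, h2, h3⟩ := homology_props_of_exact Q (hQ.finFlat f hV) (-(p : ℤ)) _ (rel_down _)
      (hex V hV Q hQ)
    obtain ⟨E⟩ := (hQ.2.2.2 p).2.2
    refine ⟨Module.Finite.equiv E, Module.Projective.of_equiv E, fun y hy => ?_⟩
    rw [(hQ.2.2.2 p).1 y hy, h3, Module.rankAtStalk_eq_of_equiv E]
  have hlf : FlatMod.IsFinLocFree ((Coh.Rpush f p).obj F) :=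
    Groth.Agent.Lib.Helper29.QCoh.isFinLocFree_of_finite_projective_sections _
      (fun U : Y.affineOpens => U.1) (Groth.Agent.Lib.Helper29.QCoh.isOpenCover_affineOpens Y)
      (fun U => U.2) (fun U => (key U.1 U.2).1) (fun U => (key U.1 U.2).2.1)
  refine ⟨hlf, fun y => ?_⟩
  haveI := Groth.Agent.Lib.Helper29.QCoh.isFinitePresentation_of_isFinLocFree hlf
  haveI := Groth.Agent.Lib.Helper29.QCoh.free_stalk_of_isFinLocFree hlf y
  obtain ⟨U, n, hU, hyU, ⟨e⟩⟩ :=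
    Groth.Agent.Lib.Helper29.QCoh.exists_affine_linearEquiv_of_free_stalk
      ((Coh.Rpush f p).obj F) y
  have hn : n = CohIII.fiberRank f F p y := by
    haveI := Groth.Agent.Lib.Helper29.QCoh.nontrivial_sections_of_mem hyU
    rw [← (key U hU).2.2 y hyU, Module.rankAtStalk_eq_of_equiv e,
      Module.rankAtStalk_eq_finrank_of_free]
    simp
  subst hn
  refine ⟨U, hyU, ?_⟩
  exact (Groth.Agent.Lib.Helper29.QCoh.isFreeAlong_iff_restrict _ U.ι _).mp
    (Groth.Agent.Lib.Helper29.QCoh.isFreeAlong_ι_of_linearEquiv _ hU e)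

omit f [HasInjectiveResolutions X.Modules] in
lemma fromSpec_ptV (y : Y) (hy : y ∈ V) : hV.fromSpec.base (ptV hV y hy) = y := by
  unfold ptV
  rw [← Scheme.Hom.comp_apply, IsAffineOpen.isoSpec_hom_fromSpec]
  rfl

lemma IsGlue.dRank_eq {F : X.Modules} {Q : ChainComplex (ModuleCat.{u} ↑Γ(Y, V)) ℤ}
    (h : IsGlue f hV F Q) (p : ℕ) (x : PrimeSpectrum ↑Γ(Y, V)) :
    CohIII.dRank Q (-(p : ℤ)) x = CohIII.fiberRank f F p (hV.fromSpec.base x) := by
  obtain ⟨y, hy, rfl⟩ := ptV_surjective hV x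
  rw [fromSpec_ptV, (h.2.2.2 p).1 y hy]

omit f [HasInjectiveResolutions X.Modules] in
lemma exact_of_neighbors {A : Type u} [CommRing A] (Q : ChainComplex (ModuleCat.{u} A) ℤ)
    (hPf : ∀ i, Module.Flat A (Q.X i)) (j : ℤ)
    (h1 : (CohIII.TFun Q (j - 1)).PreservesMonomorphisms)
    (h2 : (CohIII.TFun Q (j + 1)).PreservesEpimorphisms) :
    (CohIII.TFun Q j).PreservesMonomorphisms ∧ (CohIII.TFun Q j).PreservesEpimorphisms := by
  have r2 : (ComplexShape.down ℤ).Rel (j + 1) j := rfl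
  exact ⟨(Groth.Agent.Lib.Helper28.FlatCx.preservesEpi_iff_preservesMono_of_rel Q hPf (j + 1) j
      r2).mp h2,
    (Groth.Agent.Lib.Helper28.FlatCx.preservesEpi_iff_preservesMono_of_rel Q hPf j (j - 1)
      (rel_down j)).mpr h1⟩

omit f [HasInjectiveResolutions X.Modules] in
lemma preserves_of_isZero {A : Type u} [CommRing A] (Q : ChainComplex (ModuleCat.{u} A) ℤ) (j : ℤ)
    (hz : ∀ M : ModuleCat.{u} A, IsZero ((CohIII.TFun Q j).obj M)) :
    (CohIII.TFun Q j).PreservesMonomorphisms ∧ (CohIII.TFun Q j).PreservesEpimorphisms :=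
  ⟨⟨fun f _ => ⟨fun a b _ => (hz _).eq_of_tgt a b⟩⟩,
    ⟨fun f _ => ⟨fun a b _ => (hz _).eq_of_src a b⟩⟩⟩

end Glob5

end Groth.Agent.Lib.Helper22.EGA7
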