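import Groth.Agent.Lib.Helper22.EGA7.Glob4

set_option autoImplicit false
set_option linter.unusedSectionVars false
set_option linter.style.haveILetI false
set_option linter.unusedVariables false
universe u
open CategoryTheory CategoryTheory.Limits Opposite TopologicalSpace AlgebraicGeometry Abelian
open MonoidalCategory TensorProduct

namespace Groth.Agent.Lib.Helper22.EGA7

section Glob7

variable {X Y : Scheme.{u}} (f : X ⟶ Y) {V : Y.Opens} (hV : IsAffineOpen V)

/-- `glue` without the clause on higher direct images (no injective resolutions needed). -/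
theorem glue0 [IsProper f] [IsLocallyNoetherian Y]
    (F : X.Modules) (hF : Coh.IsCoh F) (hfl : FlatMod.IsFlatOver f F) :
    ∃ (Q : ChainComplex (ModuleCat.{u} ↑Γ(Y, V)) ℤ) (d : ℤ),
      (∀ i, Module.Finite ↑Γ(Y, V) (Q.X i) ∧ Module.Free ↑Γ(Y, V) (Q.X i)) ∧
      (∀ i < d, IsZero (Q.X i)) ∧
      (∀ (i : ℤ), 0 < i → ∀ M : ModuleCat.{u} ↑Γ(Y, V), IsZero ((CohIII.TFun Q i).obj M)) ∧
      ∀ p : ℕ,
        (∀ (y : Y) (hy : y ∈ V), CohIII.fiberRank f F p y =
          CohIII.dRank Q (-(p : ℤ)) (ptV hV y hy)) ∧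
        (∀ (y : Y) (hy : y ∈ V), Module.Finite (Y.residueField y) (CohIII.fiberH f F y p)) := by
  letI ovX : (f ⁻¹ᵁ V).toScheme.Over (Spec (CommRingCat.of ↑Γ(Y, V))) := ⟨sV f hV⟩
  haveI : IsNoetherianRing ↑Γ(Y, V) := IsLocallyNoetherian.component_noetherian ⟨V, hV⟩
  haveI hprop : IsProper ((f ⁻¹ᵁ V).toScheme ↘ Spec (CommRingCat.of ↑Γ(Y, V))) :=
    (inferInstance : IsProper (sV f hV))
  obtain ⟨Q, d, hQ, hd, hpos, hp⟩ := bridge2 ↑Γ(Y, V) (f ⁻¹ᵁ V).toScheme
    (F.restrict (f ⁻¹ᵁ V).ι) (Groth.Agent.Lib.Helper12.H12Fin.isCoh_restrict _ F hF)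
    (isFlatOver_sV f hV F hF hfl)
  refine ⟨Q, d, hQ, hd, hpos, fun p => ?_⟩
  obtain ⟨e⟩ := hp p
  refine ⟨fun y hy => fiberRank_glob f hV F hF Q _ p e y hy, fun y hy => ?_⟩
  letI := resAlg y hy
  obtain ⟨L⟩ := fibre_glob f hV F hF Q _ p e y hy
  haveI := (hQ (-(p : ℤ))).1
  haveI : Module.Finite (Y.residueField y)
      ((CohIII.bcCx (algebraMap ↑Γ(Y, V) (Y.residueField y)) Q).homology (-(p : ℤ))) :=
    finite_homology_bcCx_field Q _
  exact Module.Finite.equiv L

omit f hV in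
/-- the rank function vanishes where the complex does. -/
lemma dRank_eq_zero_of_isZero {A : Type u} [CommRing A] {ι : Type} {c : ComplexShape ι}
    (P : HomologicalComplex (ModuleCat.{u} A) c) (p : ι) (h : IsZero (P.X p))
    (x : PrimeSpectrum A) : CohIII.dRank P p x = 0 := by
  unfold CohIII.dRank
  have hz : IsZero ((CohIII.bcCx (algebraMap A x.asIdeal.ResidueField) P).homology p) :=
    ShortComplex.isZero_homology_of_isZero_X₂ _
      (Functor.map_isZero (ModuleCat.extendScalars (algebraMap A x.asIdeal.ResidueField)) h)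
  haveI : Subsingleton ((CohIII.bcCx (algebraMap A x.asIdeal.ResidueField) P).homology p) :=
    ModuleCat.subsingleton_of_isZero hz
  exact Module.finrank_zero_of_subsingleton

omit hV in
/-- A flat module along a flat morphism is flat over the base. -/
theorem isFlatOver_of_isFlat [Flat f] (M : X.Modules) (hM : FlatMod.IsFlat M) :
    FlatMod.IsFlatOver f M := by
  intro x
  unfold FlatMod.IsFlatOverAt
  letI := FlatMod.moduleStalkOver f M x
  letI alg : Algebra (Y.presheaf.stalk (f.base x)) (X.presheaf.stalk x) :=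
    (f.stalkMap x).hom.toAlgebra
  haveI : IsScalarTower (Y.presheaf.stalk (f.base x)) (X.presheaf.stalk x)
      (M.presheaf.stalk x) := IsScalarTower.of_algebraMap_smul (fun r m => rfl)
  haveI : Module.Flat (Y.presheaf.stalk (f.base x)) (X.presheaf.stalk x) := Flat.stalkMap f x
  haveI : Module.Flat (X.presheaf.stalk x) (M.presheaf.stalk x) := hM x
  exact Module.Flat.trans (Y.presheaf.stalk (f.base x)) (X.presheaf.stalk x)
    (M.presheaf.stalk x)

omit hV in
/-- **Uniform semicontinuity**: if the fibre cohomology of a flat coherent module along a proper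
morphism vanishes at `y₀` in all degrees from a set `S`, it does so on a neighbourhood of `y₀`. -/
theorem exists_open_fiberRank_eq_zero [IsProper f] [IsLocallyNoetherian Y]
    (F : X.Modules) (hF : Coh.IsCoh F) (hfl : FlatMod.IsFlatOver f F) (y₀ : Y) (S : Set ℕ)
    (h : ∀ j ∈ S, CohIII.fiberRank f F j y₀ = 0) :
    ∃ U : Set Y, IsOpen U ∧ y₀ ∈ U ∧ ∀ y ∈ U, ∀ j ∈ S, CohIII.fiberRank f F j y = 0 := by
  classical
  obtain ⟨V, hV, hy₀V, -⟩ :=
    exists_isAffineOpen_mem_and_subset (x := y₀) (U := (⊤ : Y.Opens)) trivial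
  obtain ⟨Q, d, hQ, hd, hpos, hp⟩ := glue0 f (V := V) hV F hF hfl
  haveI : IsNoetherianRing ↑Γ(Y, V) := IsLocallyNoetherian.component_noetherian ⟨V, hV⟩
  let N : ℕ := (-d).toNat
  let J : Finset ℕ := (Finset.range (N + 1)).filter (· ∈ S)
  let O : Set (PrimeSpectrum ↑Γ(Y, V)) :=
    ⋂ j ∈ J, (CohIII.dRank Q (-(j : ℤ))) ⁻¹' Set.Iio 1
  have hO : IsOpen O := by
    refine isOpen_biInter_finset (fun j _ => ?_)
    haveI := (hQ (-(j : ℤ))).1
    haveI := (hQ (-(j : ℤ) - 1)).1
    haveI : Module.Flat ↑Γ(Y, V) (Q.X (-(j : ℤ) - 1)) := by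
      have := (hQ (-(j : ℤ) - 1)).2
      infer_instance
    exact (upperSemicontinuous_iff_isOpen_preimage.mp
      (Groth.Agent.Lib.Helper28.FlatCx.dRank_upperSemicontinuous Q (-(j : ℤ)) (-(j : ℤ) - 1)
        (by simp))) 1
  refine ⟨{y : Y | ∃ hy : y ∈ V, ptV hV y hy ∈ O}, isOpen_ptV_preimage hV O hO, ⟨hy₀V, ?_⟩, ?_⟩
  · simp only [O, Set.mem_iInter, Set.mem_preimage, Set.mem_Iio]
    intro j hj
    rw [← (hp j).1 y₀ hy₀V, h j (Finset.mem_filter.mp hj).2]
    exact Nat.zero_lt_one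
  · rintro y ⟨hyV, hyO⟩ j hjS
    rw [(hp j).1 y hyV]
    by_cases hjN : j ≤ N
    · have hjJ : j ∈ J := Finset.mem_filter.mpr ⟨Finset.mem_range.mpr (by omega), hjS⟩
      simp only [O, Set.mem_iInter, Set.mem_preimage, Set.mem_Iio] at hyO
      have := hyO j hjJ
      omega
    · exact dRank_eq_zero_of_isZero Q _ (hd _ (by omega)) _

end Glob7

end Groth.Agent.Lib.Helper22.EGA7
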