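import Groth.Agent.Lib.Helper22.EGA7.Glob7

/-!
# Semicontinuity of fibre cohomology as openness of sublevel sets (helper22)
-/

set_option autoImplicit false
set_option linter.unusedSectionVars false
set_option linter.style.haveILetI false
set_option linter.unusedVariables false
universe u
open CategoryTheory CategoryTheory.Limits Opposite TopologicalSpace AlgebraicGeometry

namespace Groth.Agent.Lib.Helper22.EGA7

section Glob8

variable {X Y : Scheme.{u}} (f : X ⟶ Y)

/-- **Semicontinuity**: the locus where `h^p` of the fibres is `< n` is open. -/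
theorem isOpen_setOf_fiberRank_lt [IsProper f] [IsLocallyNoetherian Y]
    (F : X.Modules) (hF : Coh.IsCoh F) (hfl : FlatMod.IsFlatOver f F) (p n : ℕ) :
    IsOpen {y : Y | CohIII.fiberRank f F p y < n} := by
  rw [isOpen_iff_forall_mem_open]
  intro y₀ hy₀
  obtain ⟨V, hV, hy₀V, -⟩ :=
    exists_isAffineOpen_mem_and_subset (x := y₀) (U := (⊤ : Y.Opens)) trivial
  obtain ⟨Q, d, hQ, hd, hpos, hp⟩ := glue0 f (V := V) hV F hF hfl
  haveI : IsNoetherianRing ↑Γ(Y, V) := IsLocallyNoetherian.component_noetherian ⟨V, hV⟩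
  let O : Set (PrimeSpectrum ↑Γ(Y, V)) := (CohIII.dRank Q (-(p : ℤ))) ⁻¹' Set.Iio n
  have hO : IsOpen O := by
    haveI := (hQ (-(p : ℤ))).1
    haveI := (hQ (-(p : ℤ) - 1)).1
    haveI : Module.Flat ↑Γ(Y, V) (Q.X (-(p : ℤ) - 1)) := by
      have := (hQ (-(p : ℤ) - 1)).2
      infer_instance
    exact (upperSemicontinuous_iff_isOpen_preimage.mp
      (Groth.Agent.Lib.Helper28.FlatCx.dRank_upperSemicontinuous Q (-(p : ℤ)) (-(p : ℤ) - 1)
        (by simp))) n
  refine ⟨{y : Y | ∃ hy : y ∈ V, ptV hV y hy ∈ O}, ?_, isOpen_ptV_preimage hV O hO, ⟨hy₀V, ?_⟩⟩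
  · rintro y ⟨hyV, hyO⟩
    change CohIII.fiberRank f F p y < n
    rw [(hp p).1 y hyV]
    exact hyO
  · change CohIII.dRank Q (-(p : ℤ)) (ptV hV y₀ hy₀V) < n
    rw [← (hp p).1 y₀ hy₀V]
    exact hy₀

/-- The locus where `h^p` of the fibres is `≥ n` is closed. -/
theorem isClosed_setOf_le_fiberRank [IsProper f] [IsLocallyNoetherian Y]
    (F : X.Modules) (hF : Coh.IsCoh F) (hfl : FlatMod.IsFlatOver f F) (p n : ℕ) :
    IsClosed {y : Y | n ≤ CohIII.fiberRank f F p y} := by
  have h := (isOpen_setOf_fiberRank_lt f F hF hfl p n).isClosed_compl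
  convert h using 1
  ext y
  simp only [Set.mem_setOf_eq, Set.mem_compl_iff, not_lt]

/-- Fibre cohomology of a flat coherent module along a proper morphism is finite-dimensional. -/
theorem finite_fiberH [IsProper f] [IsLocallyNoetherian Y]
    (F : X.Modules) (hF : Coh.IsCoh F) (hfl : FlatMod.IsFlatOver f F) (p : ℕ) (y : Y) :
    Module.Finite (Y.residueField y) (CohIII.fiberH f F y p) := by
  obtain ⟨V, hV, hyV, -⟩ :=
    exists_isAffineOpen_mem_and_subset (x := y) (U := (⊤ : Y.Opens)) trivial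
  obtain ⟨Q, d, hQ, hd, hpos, hp⟩ := glue0 f (V := V) hV F hF hfl
  exact (hp p).2 y hyV

end Glob8

end Groth.Agent.Lib.Helper22.EGA7
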