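import Groth.Agent.Lib.Helper22.EGA7.Glob4
import Groth.Agent.Lib.Helper29.PullTensor
import Groth.Agent.Lib.Helper29.Dual3
import Groth.Agent.Lib.Helper29.TensorIso
import Groth.Agent.Lib.Helper29.IntegInv
import Groth.Agent.Lib.Helper29.RelAmple
import Groth.Agent.Lib.Helper29.Ample

set_option autoImplicit false
set_option linter.unusedSectionVars false
set_option linter.style.haveILetI false
set_option linter.unusedVariables false
universe u
open CategoryTheory CategoryTheory.Limits Opposite TopologicalSpace AlgebraicGeometry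

namespace Groth.Agent.Lib.Helper22.EGA7

open _root_.Groth.Agent.Lib.Helper29.QCoh

section Frac

variable {Y : Scheme.{u}} {V : Y.Opens} (hV : IsAffineOpen V)

include hV in
/-- Every element of the residue field at `y ∈ V` is a fraction of images of sections over `V`. -/
lemma resAlg_frac (y : Y) (hy : y ∈ V) :
    letI := resAlg y hy
    ∀ b : Y.residueField y, ∃ a a' : ↑Γ(Y, V),
      algebraMap ↑Γ(Y, V) (Y.residueField y) a ≠ 0 ∧
        b * algebraMap ↑Γ(Y, V) (Y.residueField y) a =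
          algebraMap ↑Γ(Y, V) (Y.residueField y) a' := by
  letI := resAlg y hy
  letI := Y.presheaf.algebra_section_stalk ⟨y, hy⟩
  haveI := hV.isLocalization_stalk ⟨y, hy⟩
  intro b
  obtain ⟨β, rfl⟩ := Y.residue_surjective y b
  obtain ⟨⟨a', a⟩, h⟩ := IsLocalization.surj (hV.primeIdealOf ⟨y, hy⟩).asIdeal.primeCompl β
  refine ⟨a.1, a', ?_, ?_⟩
  · have hu : IsUnit (algebraMap ↑Γ(Y, V) (Y.presheaf.stalk y) a.1) :=
      IsLocalization.map_units _ a
    exact (hu.map (Y.residue y).hom).ne_zero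
  · change (Y.residue y).hom β * (Y.residue y).hom (algebraMap ↑Γ(Y, V) (Y.presheaf.stalk y) a.1) =
      (Y.residue y).hom (algebraMap ↑Γ(Y, V) (Y.presheaf.stalk y) a')
    rw [← map_mul]
    exact congrArg _ h

end Frac


section FibLift

variable {X Y : Scheme.{u}} (f : X ⟶ Y) {V : Y.Opens} (hV : IsAffineOpen V)

/-- The fibre over `y ∈ V` as a base change of `f⁻¹V → Spec Γ(Y, V)`. -/
theorem exists_fibre_lift (y : Y) (hy : y ∈ V) :
    letI := resAlg y hy
    ∃ g : f.fiber y ⟶ (f ⁻¹ᵁ V).toScheme, g ≫ (f ⁻¹ᵁ V).ι = f.fiberι y ∧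
      IsPullback g (f.fiberToSpecResidueField y) (sV f hV)
        (Spec.map (CommRingCat.ofHom (algebraMap ↑Γ(Y, V) (Y.residueField y)))) := by
  letI alg := resAlg y hy
  have hr1 : Set.range (Y.fromSpecResidueField y).base ⊆ Set.range V.ι.base := by
    rintro _ ⟨z, rfl⟩
    rw [Scheme.Opens.range_ι]
    change (Y.fromSpecResidueField y) z ∈ V
    rw [Scheme.fromSpecResidueField_apply]
    exact hy
  let jy : Spec (Y.residueField y) ⟶ V.toScheme :=
    IsOpenImmersion.lift V.ι (Y.fromSpecResidueField y) hr1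
  have hjy : jy ≫ V.ι = Y.fromSpecResidueField y := IsOpenImmersion.lift_fac _ _ _
  have H0 : IsPullback (f.fiberι y) (f.fiberToSpecResidueField y) f (Y.fromSpecResidueField y) :=
    IsPullback.of_hasPullback f (Y.fromSpecResidueField y)
  have hr2 : Set.range (f.fiberι y).base ⊆ Set.range (f ⁻¹ᵁ V).ι.base := by
    rintro _ ⟨z, rfl⟩
    rw [Scheme.Opens.range_ι]
    change f ((f.fiberι y) z) ∈ V
    rw [← Scheme.Hom.comp_apply, H0.w, Scheme.Hom.comp_apply, Scheme.fromSpecResidueField_apply]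
    exact hy
  let g : f.fiber y ⟶ (f ⁻¹ᵁ V).toScheme := IsOpenImmersion.lift (f ⁻¹ᵁ V).ι (f.fiberι y) hr2
  have hg : g ≫ (f ⁻¹ᵁ V).ι = f.fiberι y := IsOpenImmersion.lift_fac _ _ _
  have hm : Spec.map (CommRingCat.ofHom (algebraMap ↑Γ(Y, V) (Y.residueField y))) =
      jy ≫ hV.isoSpec.hom := by
    have h1 : CommRingCat.ofHom (algebraMap ↑Γ(Y, V) (Y.residueField y)) =
        Y.presheaf.germ V y hy ≫ Y.residue y := rfl
    rw [← cancel_mono hV.isoSpec.inv, Category.assoc, Iso.hom_inv_id, Category.comp_id,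
      ← cancel_mono V.ι, Category.assoc, hjy, IsAffineOpen.isoSpec_inv_ι, h1, Spec.map_comp,
      Category.assoc]
    change _ = Spec.map (Y.residue y) ≫ Y.fromSpecStalk y
    rw [← hV.fromSpecStalk_eq_fromSpecStalk hy]
    rfl
  have H1 : IsPullback (f ⁻¹ᵁ V).ι (f ∣_ V) f V.ι := (isPullback_morphismRestrict f V).flip
  have H2 : IsPullback g (f.fiberToSpecResidueField y) (f ∣_ V) jy := by
    refine IsPullback.of_right ?_ ?_ H1
    · rw [hg, hjy]
      exact H0
    · rw [← cancel_mono V.ι, Category.assoc, Category.assoc, hjy, ← H1.w, ← Category.assoc, hg]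
      exact H0.w
  have H3 : IsPullback g (f.fiberToSpecResidueField y) (sV f hV)
      (Spec.map (CommRingCat.ofHom (algebraMap ↑Γ(Y, V) (Y.residueField y)))) := by
    have h := IsPullback.paste_vert H2
      (IsPullback.of_vert_isIso (fst := jy) (snd := 𝟙 _) (f := hV.isoSpec.hom)
        (g := jy ≫ hV.isoSpec.hom) ⟨(Category.id_comp _).symm⟩)
    rw [Category.comp_id] at h
    exact (congrArg (fun z => IsPullback g (f.fiberToSpecResidueField y) (sV f hV) z) hm).mpr h
  exact ⟨g, hg, H3⟩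

/-- points of `f⁻¹V` over `y` come from the fibre. -/
lemma exists_fibre_point {y : Y} {g : f.fiber y ⟶ (f ⁻¹ᵁ V).toScheme}
    (hg : g ≫ (f ⁻¹ᵁ V).ι = f.fiberι y) (x₁ : (f ⁻¹ᵁ V).toScheme)
    (hx : f ((f ⁻¹ᵁ V).ι x₁) = y) : ∃ x' : f.fiber y, g x' = x₁ := by
  have h1 : (f ⁻¹ᵁ V).ι x₁ ∈ Set.range (f.fiberι y) := by
    rw [Scheme.Hom.range_fiberι]
    exact hx
  obtain ⟨x', hx'⟩ := h1
  refine ⟨x', ?_⟩
  apply (f ⁻¹ᵁ V).ι.isOpenEmbedding.injective
  rw [← hx', ← hg]
  rfl

end FibLift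


section PartC

variable {X X' : Scheme.{u}} (g : X' ⟶ X)

theorem isIso_of_genLocus_eq_top' {L : X.Modules} (s : unitM X ⟶ L)
    (h : CohB1.genLocus L s = ⊤) : IsIso s := by
  have h1 := isIso_restrict_of_le_genLocus s (U := ⊤) (le_of_eq h.symm)
  rw [isIso_restrict_iff] at h1
  exact (isIso_iff_app_bijective s).mpr (fun W => h1 W le_top)

theorem genLocus_eq_top_of_isIso {L : X.Modules} (s : unitM X ⟶ L) [IsIso s] :
    CohB1.genLocus L s = ⊤ := by
  rw [eq_top_iff]
  intro x _
  exact (mem_genLocus_iff s x).mpr ⟨⊤, trivial, fun W _ => app_bijective_of_isIso s W⟩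

/-- If the pullback of a global section `s` of an invertible module `N` is a unit multiple of a
trivialising section of `g^*N`, then `s` generates `N` at all points of the image of `g`. -/
theorem forall_mem_genLocus_of_pullSect {N : X.Modules} (hN : PicF.IsInvertible N)
    (s : Γ(N, ⊤)) (u : unitM X' ≅ (Scheme.Modules.pullback g).obj N) (c : Γ(X', g ⁻¹ᵁ ⊤))
    (hc : IsUnit c) (h : pullSect g N ⊤ s = c • sval u.hom (g ⁻¹ᵁ ⊤)) (x' : X') :
    g x' ∈ CohB1.genLocus N (homOfSection N s) := by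
  have hN' : PicF.IsInvertible ((Scheme.Modules.pullback g).obj N) := isInvertible_pullback g hN
  have e1 := genLocus_pullHom g hN (homOfSection N s)
  have e2 : CohB1.genLocus _ (pullHom g (homOfSection N s)) = ⊤ := by
    rw [← genLocus_homOfSection_sval]
    have e3 : sval (pullHom g (homOfSection N s)) ⊤ =
        (show Γ(X', ⊤) from c) • sval u.hom ⊤ := by
      have h2 := sval_pullHom g (homOfSection N s) ⊤
      rw [sval_homOfSection, res_self] at h2
      exact h2.trans h
    rw [e3, genLocus_homOfSection_smul hN', genLocus_homOfSection_sval,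
      genLocus_eq_top_of_isIso, inf_top_eq]
    exact X'.basicOpen_of_isUnit hc
  have h3 : x' ∈ g ⁻¹ᵁ CohB1.genLocus N (homOfSection N s) := by
    rw [← e1, e2]
    trivial
  exact h3

end PartC

section TensorPull

variable {X X' : Scheme.{u}} (j : X' ⟶ X) {L M : X.Modules}

/-- If `j^*L ≅ j^*M` then `j^*(L^∨ ⊗ M)` is trivial. -/
theorem nonempty_pullback_dual_tensor_iso_unit (hL : PicF.IsInvertible L)
    (hM : PicF.IsInvertible M)
    (e : (Scheme.Modules.pullback j).obj L ≅ (Scheme.Modules.pullback j).obj M) :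
    Nonempty ((Scheme.Modules.pullback j).obj
      (CohB1.tensorMod (RefHull.homSh L (unitM X)) M) ≅ unitM X') := by
  have hD := Dual.isInvertible_dual hL
  obtain ⟨φ₁, -⟩ := exists_pullbackTensorIso j hD hM
  obtain ⟨φ₂, -⟩ := exists_pullbackTensorIso j hD hL
  exact ⟨φ₁ ≪≫ tensorCongr (Iso.refl _) e.symm ≪≫ φ₂.symm ≪≫
    (Scheme.Modules.pullback j).mapIso (Dual.dualTensorIso hL) ≪≫ pullbackUnitIso j⟩

/-- `L ⊗ (L^∨ ⊗ M) ≅ M`. -/
noncomputable def tensorDualCancel (hL : PicF.IsInvertible L) (M : X.Modules) :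
    CohB1.tensorMod L (CohB1.tensorMod (RefHull.homSh L (unitM X)) M) ≅ M :=
  (tensorAssoc L (RefHull.homSh L (unitM X)) M).symm ≪≫
    tensorCongr (tensorBraid L (RefHull.homSh L (unitM X)) ≪≫ Dual.dualTensorIso hL) (Iso.refl M) ≪≫
    tensorUnitL M

/-- If `j^*(L^∨ ⊗ M)` is trivial then `j^*L ≅ j^*M`. -/
theorem nonempty_pullback_iso_of_dual_tensor_iso_unit (hL : PicF.IsInvertible L)
    (hM : PicF.IsInvertible M)
    (e : (Scheme.Modules.pullback j).obj
      (CohB1.tensorMod (RefHull.homSh L (unitM X)) M) ≅ unitM X') :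
    Nonempty ((Scheme.Modules.pullback j).obj L ≅ (Scheme.Modules.pullback j).obj M) := by
  have hD := Dual.isInvertible_dual hL
  obtain ⟨φ, -⟩ := exists_pullbackTensorIso j hL (isInvertible_tensorMod hD hM)
  exact ⟨(tensorUnitR _).symm ≪≫ tensorCongr (Iso.refl _) e.symm ≪≫ φ.symm ≪≫
    (Scheme.Modules.pullback j).mapIso (tensorDualCancel hL M)⟩

end TensorPull

end Groth.Agent.Lib.Helper22.EGA7
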