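import Groth.Agent.S2444
import Groth.Agent.S4497
import Groth.Agent.S4490
import Groth.Agent.S2409
import Groth.Agent.Lib.Helper9.FlatCxLocal

set_option autoImplicit false
set_option linter.unusedSectionVars false
set_option linter.unusedVariables false
set_option linter.style.haveILetI false
universe u
open CategoryTheory CategoryTheory.Limits MonoidalCategory CohIII

namespace Groth.Agent.Lib.Helper22.EGA7

open Groth.Agent.Lib.Helper28.FlatCx Groth.Agent.Lib.Helper9.FlatCxArtin

section quot

variable (A : Type u) [CommRing A] [IsLocalRing A]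

/-- the projection `A/𝔪ⁿ⁺¹ → A/𝔪` as an `A`-linear map. -/
noncomputable abbrev πn (n : ℕ) : (A ⧸ IsLocalRing.maximalIdeal A ^ (n + 1)) →ₗ[A]
    (A ⧸ IsLocalRing.maximalIdeal A) :=
  (Ideal.Quotient.factorₐ A (Ideal.pow_le_self (I := IsLocalRing.maximalIdeal A)
    (Nat.succ_ne_zero n))).toLinearMap

lemma πn_surjective (n : ℕ) : Function.Surjective (πn A n) :=
  Ideal.Quotient.factor_surjective (Ideal.pow_le_self (I := IsLocalRing.maximalIdeal A)
    (Nat.succ_ne_zero n))

/-- `0 → ker → A/𝔪ⁿ⁺¹ → A/𝔪 → 0`. -/
noncomputable def quotSC (n : ℕ) : ShortComplex (ModuleCat.{u} A) :=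
  ShortComplex.mk (ModuleCat.ofHom (LinearMap.ker (πn A n)).subtype)
    (ModuleCat.ofHom (πn A n) : ModuleCat.of A (A ⧸ IsLocalRing.maximalIdeal A ^ (n + 1)) ⟶
      ModuleCat.of A (A ⧸ IsLocalRing.maximalIdeal A)) (by
      ext x
      exact x.2)

lemma quotSC_shortExact (n : ℕ) : (quotSC A n).ShortExact := by
  apply ModuleCat.shortComplex_shortExact
  · exact LinearMap.exact_subtype_ker_map _
  · exact Submodule.injective_subtype _
  · exact πn_surjective A n

lemma isFiniteLength_quot [IsNoetherianRing A] (n : ℕ) :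
    IsFiniteLength A (A ⧸ IsLocalRing.maximalIdeal A ^ (n + 1)) := by
  have hart := Groth.Agent.Lib.Helper9.FlatCxLocal.isArtinianRing_quotient_pow (A := A) n
  rw [← Module.length_ne_top_iff]
  rw [Module.length_eq_of_surjective (R := A ⧸ IsLocalRing.maximalIdeal A ^ (n + 1)) (S := A)
    (M := A ⧸ IsLocalRing.maximalIdeal A ^ (n + 1)) Ideal.Quotient.mk_surjective]
  exact Module.length_ne_top

end quot

section main

variable {A : Type u} [CommRing A] [IsLocalRing A] [IsNoetherianRing A]

lemma surj_of_length_quot (P : ChainComplex (ModuleCat.{u} A) ℤ)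
    (hP : ∀ i, Module.Flat A (P.X i)) (p q : ℤ) (hpq : p + 1 = q) (n : ℕ)
    (hd : Module.length A (T P p (ModuleCat.of A (IsLocalRing.ResidueField A))) ≠ ⊤)
    (h : Module.length A (T P p (ModuleCat.of A (A ⧸ IsLocalRing.maximalIdeal A ^ (n + 1)))) =
        Module.length A (T P p (ModuleCat.of A (IsLocalRing.ResidueField A))) *
          Module.length A (A ⧸ IsLocalRing.maximalIdeal A ^ (n + 1))) :
    Function.Surjective ((TFun P p).map (quotSC A n).g).hom ∧
      Function.Surjective ((TFun P q).map (quotSC A n).g).hom := by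
  have hS₀ := quotSC_shortExact A n
  have hS := tensorSC_shortExact P hP _ hS₀
  have h2 := hS.homology_exact₂ p
  have hrel : (ComplexShape.down ℤ).Rel q p := hpq
  have h1 := hS.homology_exact₁ q p hrel
  have h3 := hS.homology_exact₃ q p hrel
  set f := ((TFun P p).map (quotSC A n).f).hom with hf
  set g := ((TFun P p).map (quotSC A n).g).hom with hg
  have hfg : Function.Exact f g :=
    (ShortComplex.ShortExact.moduleCat_exact_iff_function_exact _).mp h2
  have hfl := isFiniteLength_quot A n
  have hlq : Module.length A (A ⧸ IsLocalRing.maximalIdeal A ^ (n + 1)) ≠ ⊤ :=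
    Module.length_ne_top_iff.mpr hfl
  have hlm : Module.length A (LinearMap.ker (πn A n)) ≠ ⊤ :=
    ne_top_of_le_ne_top hlq
      (Module.length_le_of_injective (LinearMap.ker (πn A n)).subtype
        (Submodule.injective_subtype _))
  have hlA : Module.length A (A ⧸ IsLocalRing.maximalIdeal A ^ (n + 1)) =
      Module.length A (LinearMap.ker (πn A n)) + 1 := by
    have := Module.length_eq_add_of_exact (quotSC A n).f.hom (quotSC A n).g.hom
      hS₀.moduleCat_injective_f hS₀.moduleCat_surjective_g
      ((ShortComplex.ShortExact.moduleCat_exact_iff_function_exact _).mp hS₀.exact)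
    have hsk := Groth.Agent.S4497.isSimpleModule_residueField (A := A)
    rw [← Module.length_eq_one (R := A) (M := IsLocalRing.ResidueField A)]
    exact this
  have hTA := h
  have hTm := Groth.Agent.S2444.length_T_le P hP p (LinearMap.ker (πn A n))
    (Module.length_ne_top_iff.mp hlm)
  rw [hlA] at hTA
  have e1 : Module.length A (T P p (ModuleCat.of A (A ⧸ IsLocalRing.maximalIdeal A ^ (n + 1)))) =
      Module.length A (LinearMap.ker g) + Module.length A (LinearMap.range g) :=
    Groth.Agent.S4497.length_eq_ker_add_range g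
  have e2 : Module.length A (T P p (ModuleCat.of A (LinearMap.ker (πn A n)))) =
      Module.length A (LinearMap.ker f) + Module.length A (LinearMap.range f) :=
    Groth.Agent.S4497.length_eq_ker_add_range f
  rw [LinearMap.exact_iff.mp hfg] at e1
  have e3 : Module.length A (LinearMap.range g) ≤
      Module.length A (T P p (ModuleCat.of A (IsLocalRing.ResidueField A))) :=
    Module.length_le_of_injective (LinearMap.range g).subtype (Submodule.injective_subtype _)
  rw [e2] at hTm
  obtain ⟨ha, hc⟩ := Groth.Agent.S2444.enat_arith' _ _ _ _ _ hd hlm (hTA.symm.trans e1) hTm e3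
  have hfinj : Function.Injective f := by
    rw [← LinearMap.ker_eq_bot, ← Submodule.subsingleton_iff_eq_bot]
    exact Module.length_eq_zero_iff.mp ha
  have hgsurj : Function.Surjective g := by
    rw [← LinearMap.range_eq_top]
    exact Groth.Agent.S4497.eq_top_of_length_eq _ hd hc
  refine ⟨hgsurj, ?_⟩
  have hmono : Mono (HomologicalComplex.homologyMap (tensorSC P (quotSC A n)).f p) :=
    (ModuleCat.mono_iff_injective _).mpr hfinj
  have hδ : hS.δ q p hrel = 0 := h1.mono_g_iff.mp hmono
  have hepi : Epi (HomologicalComplex.homologyMap (tensorSC P (quotSC A n)).g q) :=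
    h3.epi_f_iff.mpr hδ
  exact (ModuleCat.epi_iff_surjective _).mp hepi


lemma length_T_residue_ne_top (Q : ChainComplex (ModuleCat.{u} A) ℤ)
    (hQ : ∀ i, Module.Finite A (Q.X i) ∧ Module.Free A (Q.X i)) (j : ℤ) :
    Module.length A (T Q j (ModuleCat.of A (IsLocalRing.ResidueField A))) ≠ ⊤ := by
  classical
  haveI := (hQ j).1
  haveI := (hQ j).2
  set K := tensorObj Q (ModuleCat.of A (IsLocalRing.ResidueField A)) with hK
  have h1 : Module.length A (K.homology j) ≤ Module.length A (K.opcycles j) :=
    Module.length_le_of_injective (K.homologyι j).hom (homologyι_injective K j)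
  have h2 : Module.length A (K.opcycles j) ≤ Module.length A (K.X j) :=
    Module.length_le_of_surjective (K.pOpcycles j).hom (pOpcycles_surjective K j)
  have h3 : Module.length A (K.X j) ≠ ⊤ := by
    have e : (K.X j) ≃ₗ[A] (Module.Free.ChooseBasisIndex A (Q.X j) →₀
        IsLocalRing.ResidueField A) :=
      TensorProduct.equivFinsuppOfBasisLeft (Module.Free.chooseBasis A (Q.X j))
    rw [e.length_eq, Module.length_finsupp]
    haveI := Groth.Agent.S4497.isSimpleModule_residueField (A := A)
    rw [Module.length_eq_one (R := A) (M := IsLocalRing.ResidueField A), mul_one]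
    exact ENat.card_lt_top_of_finite.ne
  exact ne_top_of_le_ne_top h3 (h1.trans h2)

theorem exact_iff_eventually_length (Q : ChainComplex (ModuleCat.{u} A) ℤ)
    (hQ : ∀ i, Module.Finite A (Q.X i) ∧ Module.Free A (Q.X i)) (j : ℤ) :
    ((TFun Q j).PreservesMonomorphisms ∧ (TFun Q j).PreservesEpimorphisms) ↔
      ∃ n₀ : ℕ, ∀ n : ℕ, n₀ ≤ n →
        Module.length A (T Q j (ModuleCat.of A (A ⧸ IsLocalRing.maximalIdeal A ^ (n + 1)))) =
          Module.length A (T Q j (ModuleCat.of A (IsLocalRing.ResidueField A))) *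
            Module.length A (A ⧸ IsLocalRing.maximalIdeal A ^ (n + 1)) := by
  have hQfl : ∀ i, Module.Flat A (Q.X i) := fun i => by
    haveI := (hQ i).2
    infer_instance
  have hQ' : ∀ i, Module.Finite A (Q.X i) ∧ Module.Flat A (Q.X i) := fun i =>
    ⟨(hQ i).1, hQfl i⟩
  constructor
  · rintro ⟨hm, he⟩
    exact ⟨0, fun n _ => Groth.Agent.S4497.length_T_eq Q hQfl j hm he _
      (isFiniteLength_quot A n)⟩
  · rintro ⟨n₀, hn₀⟩
    have hd := length_T_residue_ne_top Q hQ j
    have hs : ∀ n, n₀ ≤ n → Function.Surjective ((TFun Q j).map (quotSC A n).g).hom ∧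
        Function.Surjective ((TFun Q (j + 1)).map (quotSC A n).g).hom := fun n hn =>
      surj_of_length_quot Q hQfl j (j + 1) rfl n hd (hn₀ n hn)
    have k1 := Groth.Agent.S4490.result Q hQ' j
    have k2 := Groth.Agent.S4490.result Q hQ' (j + 1)
    have he1 : (TFun Q j).PreservesEpimorphisms :=
      k1.2.mpr ⟨n₀, fun n hn => (hs n hn).1⟩
    have he2 : (TFun Q (j + 1)).PreservesEpimorphisms :=
      k2.2.mpr ⟨n₀, fun n hn => (hs n hn).2⟩
    exact (Groth.Agent.S2409.result Q hQ' j (j + 1) rfl).mpr ⟨k2.1.mp he2, k1.1.mp he1⟩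

end main

end Groth.Agent.Lib.Helper22.EGA7
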