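import Groth.Agent.Lib.Helper28.FlatCx

/-!
# Lifting classes from the residue field (helper22)

If `T_q ≡ 0` (`c.Rel p q`) for a complex of flat modules, then `T_p ≅ H_p ⊗ -`, hence every class
of `T_p(K)`, `K` a field of fractions of a quotient of `A`, becomes liftable to `T_p(A)` after
multiplication by an element of `A` which is nonzero in `K`.
-/

set_option autoImplicit false
universe u

namespace Groth.Agent.Lib.Helper22.EGA7

open CategoryTheory CategoryTheory.Limits MonoidalCategory CohIII TensorProduct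
open Groth.Agent.Lib.Helper28.FlatCx

variable {A : Type u} [CommRing A] {ι : Type} {c : ComplexShape ι}

/-- pure algebra: clearing denominators in `H ⊗ K`. -/
lemma exists_smul_eq_tmul_one (H K : Type u) [AddCommGroup H] [Module A H] [Field K] [Algebra A K]
    (hfrac : ∀ b : K, ∃ a a' : A, algebraMap A K a ≠ 0 ∧ b * algebraMap A K a = algebraMap A K a')
    (t : H ⊗[A] K) :
    ∃ (a : A) (h : H), algebraMap A K a ≠ 0 ∧ a • t = h ⊗ₜ[A] (1 : K) := by
  induction t using TensorProduct.induction_on with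
  | zero => exact ⟨1, 0, by simp, by simp⟩
  | tmul h b =>
    obtain ⟨a, a', ha, hb⟩ := hfrac b
    refine ⟨a, a' • h, ha, ?_⟩
    rw [TensorProduct.smul_tmul', TensorProduct.smul_tmul, TensorProduct.smul_tmul,
      Algebra.smul_def, Algebra.smul_def, mul_one, mul_comm, hb]
  | add x y hx hy =>
    obtain ⟨a₁, h₁, ha₁, e₁⟩ := hx
    obtain ⟨a₂, h₂, ha₂, e₂⟩ := hy
    refine ⟨a₁ * a₂, a₂ • h₁ + a₁ • h₂, ?_, ?_⟩
    · rw [map_mul]
      exact mul_ne_zero ha₁ ha₂
    · rw [smul_add, mul_smul, smul_comm a₁ a₂ x, e₁, mul_smul, e₂, TensorProduct.add_tmul,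
        TensorProduct.smul_tmul', TensorProduct.smul_tmul']

/-- If `W_q` is flat, classes in `T_p(K)` lift to `T_p(A)` up to a denominator. -/
theorem exists_lift_of_flat_opcycles (P : HomologicalComplex (ModuleCat.{u} A) c)
    (hP : ∀ i, Module.Flat A (P.X i)) (p q : ι) (hpq : c.Rel p q)
    (hW : Module.Flat A (P.opcycles q))
    (K : Type u) [Field K] [Algebra A K]
    (hfrac : ∀ b : K, ∃ a a' : A, algebraMap A K a ≠ 0 ∧ b * algebraMap A K a = algebraMap A K a')
    (τ : (TFun P p).obj (ModuleCat.of A K)) :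
    ∃ (a : A) (s : (TFun P p).obj (ModuleCat.of A A)), algebraMap A K a ≠ 0 ∧
      ((TFun P p).map (ModuleCat.ofHom (Algebra.linearMap A K))).hom s =
        ((TFun P p).map (a • 𝟙 (ModuleCat.of A K))).hom τ := by
  haveI : Module.Flat A (P.X q) := hP q
  haveI : Module.Flat A (P.opcycles q) := hW
  obtain ⟨t, rfl⟩ := (beta_bijective P p q hpq (ModuleCat.of A K)).2 τ
  obtain ⟨a, h, ha, e⟩ := exists_smul_eq_tmul_one (A := A) (P.homology p) K hfrac t
  refine ⟨a, (beta P p (ModuleCat.of A A)).hom (h ⊗ₜ[A] (1 : A)), ha, ?_⟩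
  have n1 : (beta P p (ModuleCat.of A K)).hom
      ((P.homology p ◁ ModuleCat.ofHom (Algebra.linearMap A K)).hom (h ⊗ₜ[A] (1 : A))) =
      ((TFun P p).map (ModuleCat.ofHom (Algebra.linearMap A K))).hom
        ((beta P p (ModuleCat.of A A)).hom (h ⊗ₜ[A] (1 : A))) :=
    congrArg (fun k => k.hom (h ⊗ₜ[A] (1 : A)))
      (beta_naturality P p (ModuleCat.ofHom (Algebra.linearMap A K)))
  have n2 : (beta P p (ModuleCat.of A K)).hom
      ((P.homology p ◁ (a • 𝟙 (ModuleCat.of A K))).hom t) =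
      ((TFun P p).map (a • 𝟙 (ModuleCat.of A K))).hom ((beta P p (ModuleCat.of A K)).hom t) :=
    congrArg (fun k => k.hom t) (beta_naturality P p (a • 𝟙 (ModuleCat.of A K)))
  rw [← n1, ← n2]
  congr 1
  have e1 : (P.homology p ◁ ModuleCat.ofHom (Algebra.linearMap A K)).hom (h ⊗ₜ[A] (1 : A)) =
      h ⊗ₜ[A] (1 : K) := by
    rw [ModuleCat.hom_whiskerLeft, LinearMap.lTensor_tmul]
    exact congrArg (fun z => h ⊗ₜ[A] z) (map_one (algebraMap A K))
  have e2 : (P.homology p ◁ (a • 𝟙 (ModuleCat.of A K))).hom t = a • t := by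
    rw [ModuleCat.hom_whiskerLeft, ModuleCat.hom_smul, ModuleCat.hom_id, LinearMap.lTensor_smul,
      LinearMap.lTensor_id]
    rfl
  rw [e1, e2, e]

/-- If `T_q ≡ 0`, classes in `T_p(K)` lift to `T_p(A)` up to a denominator. -/
theorem exists_lift_of_isZero_T (P : HomologicalComplex (ModuleCat.{u} A) c)
    (hP : ∀ i, Module.Flat A (P.X i)) (p q : ι) (hpq : c.Rel p q)
    (hz : ∀ M : ModuleCat.{u} A, IsZero ((TFun P q).obj M))
    (K : Type u) [Field K] [Algebra A K]
    (hfrac : ∀ b : K, ∃ a a' : A, algebraMap A K a ≠ 0 ∧ b * algebraMap A K a = algebraMap A K a')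
    (τ : (TFun P p).obj (ModuleCat.of A K)) :
    ∃ (a : A) (s : (TFun P p).obj (ModuleCat.of A A)), algebraMap A K a ≠ 0 ∧
      ((TFun P p).map (ModuleCat.ofHom (Algebra.linearMap A K))).hom s =
        ((TFun P p).map (a • 𝟙 (ModuleCat.of A K))).hom τ := by
  refine exists_lift_of_flat_opcycles P hP p q hpq ?_ K hfrac τ
  rw [← preservesMono_iff_flat_opcycles P hP q]
  exact ⟨fun {M N} f _ => (hz M).mono _⟩

end Groth.Agent.Lib.Helper22.EGA7
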