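import Groth.Agent.Lib.Helper22.EGA7.FR2
import Groth.Agent.Lib.Helper29.FBCFlat
import Groth.Agent.Lib.Helper29.Twist6

set_option autoImplicit false
set_option linter.unusedSectionVars false
set_option linter.style.haveILetI false
set_option linter.unusedVariables false
universe u
open CategoryTheory CategoryTheory.Limits Opposite TopologicalSpace AlgebraicGeometry
open MonoidalCategory TensorProduct

namespace Groth.Agent.Lib.Helper22.EGA7

open _root_.Groth.Agent.Lib.Helper22.FBC
open _root_.Groth.Agent.Lib.Helper29.QCoh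
open _root_.Groth.Agent.Lib.Helper29.FBCFlat

section Glue

variable {X : Scheme.{u}}

/-- Gluing a family of sections over all affine opens, compatible with restriction. -/
theorem exists_glue_affine (M : X.Modules) (m : ∀ V : X.affineOpens, Γ(M, V.1))
    (hm : ∀ (V W : X.affineOpens) (h : W.1 ≤ V.1), res M h (m V) = m W) :
    ∃ s : Γ(M, ⊤), ∀ V : X.affineOpens, res M le_top s = m V := by
  have hcov : (⊤ : X.Opens) ≤ ⨆ V : X.affineOpens, V.1 := by
    intro x _
    obtain ⟨V, hV, hxV, -⟩ := exists_isAffineOpen_mem_and_subset (x := x) (U := (⊤ : X.Opens)) trivial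
    exact Opens.mem_iSup.mpr ⟨⟨V, hV⟩, hxV⟩
  refine exists_gluing M (fun V : X.affineOpens => V.1) ⊤ (fun _ => le_top) hcov m ?_
  intro V V'
  obtain ⟨ι, W, hW, hWle, hWcov⟩ := exists_affine_cover_le (V.1 ⊓ V'.1)
  refine eq_of_res_cover_eq M W hWle hWcov _ _ (fun i => ?_)
  rw [res_res, res_res, hm V ⟨W i, hW i⟩ ((hWle i).trans inf_le_left),
    hm V' ⟨W i, hW i⟩ ((hWle i).trans inf_le_right)]

end Glue

section LiftSec

variable {A K : Type u} [CommRing A] [CommRing K] [Algebra A K]
  {X X' : Scheme.{u}} (f : X ⟶ Spec (CommRingCat.of A)) (g : X' ⟶ X)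
  (q : X' ⟶ Spec (CommRingCat.of K))
  (hw : g ≫ f = q ≫ Spec.map (CommRingCat.ofHom (algebraMap A K)))
  (N : X.Modules)

/-- `n ⊗ b ↦ b • g^*n`. -/
noncomputable def cK (V : X.Opens) :
    SecA f N V ⊗[A] K →+ Γ((Scheme.Modules.pullback g).obj N, g ⁻¹ᵁ V) :=
  letI := modR f N V
  (cT f g q hw N V).comp (TensorProduct.comm A Γ(N, V) K).toLinearMap.toAddMonoidHom

lemma cK_tmul (V : X.Opens) (n : SecA f N V) (b : K) :
    cK f g q hw N V (n ⊗ₜ[A] b) = aX q (g ⁻¹ᵁ V) b • pullSect g N V (show Γ(N, V) from n) := rfl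

lemma cK_res {V W : X.Opens} (h : W ≤ V) (t : SecA f N V ⊗[A] K) :
    res _ (g.preimage_mono h) (cK f g q hw N V t) =
      cK f g q hw N W (LinearMap.rTensor K (resA f N h) t) := by
  induction t using TensorProduct.induction_on with
  | zero => rw [map_zero, map_zero, map_zero, map_zero]
  | add x y hx hy => rw [map_add, map_add, map_add, map_add, hx, hy]
  | tmul n b =>
    rw [LinearMap.rTensor_tmul, cK_tmul, cK_tmul, res_smul, map_aX]
    congr 1
    exact (pullSect_res g N h _).symm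

lemma cK_smul (V : X.Opens) (a : A) (t : SecA f N V ⊗[A] K) :
    cK f g q hw N V (a • t) = aX q (g ⁻¹ᵁ V) (algebraMap A K a) • cK f g q hw N V t := by
  induction t using TensorProduct.induction_on with
  | zero => rw [smul_zero, map_zero, smul_zero]
  | add x y hx hy => rw [smul_add, map_add, map_add, hx, hy, smul_add]
  | tmul n b =>
    rw [← TensorProduct.tmul_smul, cK_tmul, cK_tmul, Algebra.smul_def, map_mul, mul_smul]

lemma cK_bijective (hpb : IsPullback g q f (Spec.map (CommRingCat.ofHom (algebraMap A K))))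
    [N.IsQuasicoherent] {V : X.Opens} (hV : IsAffineOpen V) :
    Function.Bijective (cK f g q hpb.w N V) := by
  letI := modR f N V
  exact (cT_bijective_of_affine f g q hpb N hV).comp
    (TensorProduct.comm A Γ(N, V) K).bijective

end LiftSec


section Main

variable (A K : Type u) [CommRing A] [CommRing K] [Algebra A K]
  (X X' : Scheme.{u}) [X.Over (Spec (CommRingCat.of A))] [X'.Over (Spec (CommRingCat.of K))]
  (g : X' ⟶ X)
  (H : IsPullback g (X' ↘ Spec (CommRingCat.of K)) (X ↘ Spec (CommRingCat.of A))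
    (Spec.map (CommRingCat.ofHom (algebraMap A K))))
  (N : X.Modules) [N.IsQuasicoherent] {ι : Type} {c : ComplexShape ι}
  (Q : HomologicalComplex (ModuleCat.{u} A) c) (j : ι)
  (e : CohIII.TFun Q j ⋙ forget₂ (ModuleCat.{u} A) AddCommGrpCat.{u} ≅
    CohIII.tensorAFunctor A N ⋙ CohIII.HAb X 0)

lemma hh0_map' {M M' : X.Modules} (φ : M ⟶ M') (x : Coh.HH X M 0) :
    hh0 M' (Sheaf.H.map ((SheafOfModules.toSheaf _).map φ) 0 x) = φ.app ⊤ (hh0 M x) :=
  (Sheaf.H.equiv₀_naturality (hT := (isTerminalTop : IsTerminal (⊤ : Opens X)))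
    ((SheafOfModules.toSheaf _).map φ) x).symm

include H e in
/-- **Lifting sections from a fibre**: if classes of `T_j(K)` lift to `T_j(A)` up to
denominators, then every section of `g^*N` over the base change is, up to a denominator, the
pullback of a global section of `N`. -/
theorem exists_section_lift
    (hlift : ∀ τ : (CohIII.TFun Q j).obj (ModuleCat.of A K),
      ∃ (a : A) (s : (CohIII.TFun Q j).obj (ModuleCat.of A A)), algebraMap A K a ≠ 0 ∧
        ((CohIII.TFun Q j).map (ModuleCat.ofHom (Algebra.linearMap A K))).hom s =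
          ((CohIII.TFun Q j).map (a • 𝟙 (ModuleCat.of A K))).hom τ)
    (σ : Γ((Scheme.Modules.pullback g).obj N, g ⁻¹ᵁ ⊤)) :
    ∃ (a : A) (s : Γ(N, ⊤)), algebraMap A K a ≠ 0 ∧
      pullSect g N ⊤ s =
        aX (X' ↘ Spec (CommRingCat.of K)) (g ⁻¹ᵁ ⊤) (algebraMap A K a) • σ := by
  let f := fX A X
  let q := X' ↘ Spec (CommRingCat.of K)
  let MK : ModuleCat.{u} A := ModuleCat.of A K
  let MA : ModuleCat.{u} A := ModuleCat.of A A
  let GK : X.Modules := (CohIII.tensorAFunctor A N).obj MK
  let GA : X.Modules := (CohIII.tensorAFunctor A N).obj MA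
  let π : MA ⟶ MK := ModuleCat.ofHom (Algebra.linearMap A K)
  -- Step 1: the section `τ` of `G_K`
  have hbK : ∀ V : X.affineOpens, Function.Bijective (cK f g q H.w N V.1) :=
    fun V => cK_bijective f g q N H V.2
  have hbΦK : ∀ V : X.affineOpens, Function.Bijective (φlin f N MK V.1) :=
    fun V => φlin_bijective f N MK V.1 V.2
  have hbΦA : ∀ V : X.affineOpens, Function.Bijective (φlin f N MA V.1) :=
    fun V => φlin_bijective f N MA V.1 V.2
  have hex : ∀ V : X.affineOpens, ∃ t : SecA f N V.1 ⊗[A] K,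
      cK f g q H.w N V.1 t = res _ (g.preimage_mono (le_top : V.1 ≤ ⊤)) σ :=
    fun V => (hbK V).2 _
  choose t ht using hex
  have htres : ∀ (V W : X.affineOpens) (h : W.1 ≤ V.1),
      LinearMap.rTensor K (resA f N h) (t V) = t W := by
    intro V W h
    apply (hbK W).1
    rw [← cK_res, ht, ht, res_res]
  let τloc : ∀ V : X.affineOpens, Γ(GK, V.1) := fun V => φlin f N MK V.1 (t V)
  have hτres : ∀ (V W : X.affineOpens) (h : W.1 ≤ V.1), res GK h (τloc V) = τloc W := by
    intro V W h
    have h1 := LinearMap.congr_fun (φlin_res f N MK h) (t V)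
    rw [LinearMap.comp_apply, LinearMap.comp_apply, htres] at h1
    exact h1.symm
  obtain ⟨τ, hτ⟩ := exists_glue_affine GK τloc hτres
  -- Step 2: transport through `e`
  let uK : (CohIII.TFun Q j).obj MK ≃+ Coh.HH X GK 0 := (e.app MK).addCommGroupIsoToAddEquiv
  let uA : (CohIII.TFun Q j).obj MA ≃+ Coh.HH X GA 0 := (e.app MA).addCommGroupIsoToAddEquiv
  obtain ⟨a, sT, ha, hsT⟩ := hlift (uK.symm ((hh0 GK).symm τ))
  let stil : Γ(GA, ⊤) := hh0 GA (uA sT)
  have key : ((CohIII.tensorAFunctor A N).map π).app ⊤ stil = (αU f ⊤).hom a • τ := by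
    have n1 := ConcreteCategory.congr_hom (e.hom.naturality π) sT
    have n2 := ConcreteCategory.congr_hom (e.hom.naturality (a • 𝟙 MK))
      (uK.symm ((hh0 GK).symm τ))
    have n1' : uK (((CohIII.TFun Q j).map π).hom sT) =
        Sheaf.H.map ((SheafOfModules.toSheaf _).map ((CohIII.tensorAFunctor A N).map π)) 0
          (uA sT) := n1
    have n2' : uK (((CohIII.TFun Q j).map (a • 𝟙 MK)).hom (uK.symm ((hh0 GK).symm τ))) =
        Sheaf.H.map ((SheafOfModules.toSheaf _).map
          ((CohIII.tensorAFunctor A N).map (a • 𝟙 MK))) 0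
          (uK (uK.symm ((hh0 GK).symm τ))) := n2
    rw [AddEquiv.apply_symm_apply, ← hsT, n1'] at n2'
    have n3 := congrArg (hh0 GK) n2'
    rw [hh0_map', hh0_map', AddEquiv.apply_symm_apply] at n3
    rw [n3]
    have h4 := toSheaf_map_tAF_smul A X N MK a
    have h5 := congrArg (fun k => k.hom.app (op (⊤ : X.Opens)) τ) h4
    exact h5
  -- Step 3: the section `s` of `N`
  have hex2 : ∀ V : X.affineOpens, ∃ w : SecA f N V.1 ⊗[A] A,
      φlin f N MA V.1 w = res GA (le_top : V.1 ≤ ⊤) stil :=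
    fun V => (hbΦA V).2 _
  choose w hw using hex2
  have hwres : ∀ (V W : X.affineOpens) (h : W.1 ≤ V.1),
      LinearMap.rTensor A (resA f N h) (w V) = w W := by
    intro V W h
    apply (hbΦA W).1
    have h1 := LinearMap.congr_fun (φlin_res f N MA h) (w V)
    rw [LinearMap.comp_apply, LinearMap.comp_apply] at h1
    rw [h1, hw, hw]
    exact res_res GA _ _ _
  let sloc : ∀ V : X.affineOpens, Γ(N, V.1) := fun V =>
    TensorProduct.rid A (SecA f N V.1) (w V)
  have hwe : ∀ V : X.affineOpens, w V = (show SecA f N V.1 from sloc V) ⊗ₜ[A] (1 : A) := by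
    intro V
    exact ((TensorProduct.rid A (SecA f N V.1)).symm_apply_apply (w V)).symm
  have hsres : ∀ (V W : X.affineOpens) (h : W.1 ≤ V.1), res N h (sloc V) = sloc W := by
    intro V W h
    have h1 := hwres V W h
    rw [hwe V, hwe W, LinearMap.rTensor_tmul] at h1
    have h2 := congrArg (TensorProduct.rid A (SecA f N W.1)) h1
    rw [TensorProduct.rid_tmul, TensorProduct.rid_tmul, one_smul, one_smul] at h2
    exact h2
  obtain ⟨s, hs⟩ := exists_glue_affine N sloc hsres
  refine ⟨a, s, ha, ?_⟩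
  -- Step 4: compare over the preimages of affine opens
  have hcov : g ⁻¹ᵁ (⊤ : X.Opens) ≤ ⨆ V : X.affineOpens, g ⁻¹ᵁ V.1 := by
    intro x _
    obtain ⟨V, hV, hxV, -⟩ :=
      exists_isAffineOpen_mem_and_subset (x := g x) (U := (⊤ : X.Opens)) trivial
    exact Opens.mem_iSup.mpr ⟨⟨V, hV⟩, hxV⟩
  refine eq_of_res_cover_eq _ (fun V : X.affineOpens => g ⁻¹ᵁ V.1)
    (fun V => g.preimage_mono (le_top : V.1 ≤ ⊤)) hcov _ _ (fun V => ?_)
  rw [← pullSect_res g N (le_top : V.1 ≤ ⊤), hs V, res_smul, map_aX, ← ht V, ← cK_smul]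
  have h6 : (show SecA f N V.1 from sloc V) ⊗ₜ[A] (1 : K) = a • t V := by
    apply (hbΦK V).1
    have h7 := φlin_natM N π V.1 (w V)
    rw [hw V, hwe V, LinearMap.lTensor_tmul] at h7
    have h8 : π.hom (1 : A) = (1 : K) := map_one (algebraMap A K)
    rw [h8] at h7
    rw [← h7, app_res _ (le_top : V.1 ≤ ⊤), key, res_smul, hτ V, map_smul,
      αU_map f ⊤ V.1 le_top a]
    rfl
  rw [← h6, cK_tmul, map_one, one_smul]

end Main

end Groth.Agent.Lib.Helper22.EGA7
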