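import Groth.Agent.Lib.Helper22.EGA7.Glob8
import Groth.Agent.Lib.Helper22.EGA7.Glob5
import Groth.Agent.Lib.Helper22.EGA7.LiftAlg
import Groth.Agent.Lib.Helper22.EGA7.LiftSec
import Groth.Agent.Lib.Helper22.EGA7.InvLift
import Groth.Agent.Lib.Helper28.FlatCxReduced
import Groth.Agent.Lib.Helper9.FlatCxBC

/-!
# Trivialising an invertible module near a fibre over a reduced base (helper22)

`exists_iso_unit_near_fibre`: `f : X ⟶ Y` proper, `Y` locally Noetherian, `V ⊆ Y` an affine open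
with reduced coordinate ring, `N` an invertible `O_X`-module flat over `Y` with `h⁰(X_y', N_y')`
constant on `V` and `N|_{X_y} ≅ O_{X_y}`.  Then `N` is trivial over `f⁻¹ U` for an open
neighbourhood `U ⊆ V` of `y`.
-/

set_option autoImplicit false
set_option linter.unusedSectionVars false
set_option linter.style.haveILetI false
set_option linter.unusedVariables false
universe u
open CategoryTheory CategoryTheory.Limits Opposite TopologicalSpace AlgebraicGeometry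

namespace Groth.Agent.Lib.Helper22.EGA7

section NearFibre

open Groth.Agent.Lib.Helper29.QCoh Groth.Agent.Lib.Helper29.FBCFlat

variable {X Y : Scheme.{u}} (f : X ⟶ Y)

/-- Constant `h⁰` over a reduced affine open: the opcycles in degree `-1` of the bridging complex
are flat. -/
theorem flat_opcycles_of_const_fiberRank [IsProper f] [IsLocallyNoetherian Y]
    {V : Y.Opens} (hV : IsAffineOpen V) (hred : IsReduced ↑Γ(Y, V))
    (N : X.Modules) (hNcoh : Coh.IsCoh N) (p : ℕ)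
    (c : ℕ) (hc : ∀ y' : Y, y' ∈ V → CohIII.fiberRank f N p y' = c)
    (Q : ChainComplex (ModuleCat.{u} ↑Γ(Y, V)) ℤ)
    (hQ : ∀ i, Module.Finite ↑Γ(Y, V) (Q.X i) ∧ Module.Flat ↑Γ(Y, V) (Q.X i))
    (e0 : letI : (f ⁻¹ᵁ V).toScheme.Over (Spec (CommRingCat.of ↑Γ(Y, V))) := ⟨sV f hV⟩
      CohIII.TFun Q (-(p : ℤ)) ⋙ forget₂ (ModuleCat.{u} ↑Γ(Y, V)) AddCommGrpCat.{u} ≅
        CohIII.tensorAFunctor ↑Γ(Y, V) (N.restrict (f ⁻¹ᵁ V).ι) ⋙
          CohIII.HAb (f ⁻¹ᵁ V).toScheme p) :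
    ((CohIII.TFun Q (-(p : ℤ))).PreservesMonomorphisms ∧
      (CohIII.TFun Q (-(p : ℤ))).PreservesEpimorphisms) ∧
      (∀ x : PrimeSpectrum ↑Γ(Y, V), CohIII.dRank Q (-(p : ℤ)) x = c) ∧
      Module.Flat ↑Γ(Y, V) (Q.opcycles (-(p : ℤ) - 1)) := by
  haveI : IsNoetherianRing ↑Γ(Y, V) := IsLocallyNoetherian.component_noetherian ⟨V, hV⟩
  have hdr : ∀ x : PrimeSpectrum ↑Γ(Y, V), CohIII.dRank Q (-(p : ℤ)) x = c := by
    intro x
    obtain ⟨y', hy', rfl⟩ := ptV_surjective hV x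
    rw [← fiberRank_glob f hV N hNcoh Q (-(p : ℤ)) p e0 y' hy']
    exact hc y' hy'
  have hconst : IsLocallyConstant (CohIII.dRank Q (-(p : ℤ))) := by
    have : CohIII.dRank Q (-(p : ℤ)) = fun _ => c := funext hdr
    rw [this]
    exact IsLocallyConstant.const c
  have hex := Groth.Agent.Lib.Helper28.FlatCx.exact_of_isLocallyConstant_dRank Q hQ
    (-(p : ℤ)) (-(p : ℤ) - 1) (rel_down _) hconst
  exact ⟨hex, hdr, Groth.Agent.Lib.Helper9.FlatCxBC.flat_opcycles_of_preservesEpi Q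
    (fun i => (hQ i).2) (-(p : ℤ)) (-(p : ℤ) - 1) (rel_down _) hex.2⟩

/-- **Trivialisation near a fibre**, given flatness of the opcycles in degree `-1`. -/
theorem exists_iso_unit_near_fibre_aux [IsProper f] [IsLocallyNoetherian Y]
    {V : Y.Opens} (hV : IsAffineOpen V) (y : Y) (hyV : y ∈ V)
    (N : X.Modules) (hN : PicF.IsInvertible N)
    (φN : CohIII.fiberMod f N y ≅ unitM (f.fiber y))
    (Q : ChainComplex (ModuleCat.{u} ↑Γ(Y, V)) ℤ)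
    (hQ : ∀ i, Module.Flat ↑Γ(Y, V) (Q.X i))
    (e0 : letI : (f ⁻¹ᵁ V).toScheme.Over (Spec (CommRingCat.of ↑Γ(Y, V))) := ⟨sV f hV⟩
      CohIII.TFun Q (-((0 : ℕ) : ℤ)) ⋙ forget₂ (ModuleCat.{u} ↑Γ(Y, V)) AddCommGrpCat.{u} ≅
        CohIII.tensorAFunctor ↑Γ(Y, V) (N.restrict (f ⁻¹ᵁ V).ι) ⋙
          CohIII.HAb (f ⁻¹ᵁ V).toScheme 0)
    (hW : Module.Flat ↑Γ(Y, V) (Q.opcycles (-((0 : ℕ) : ℤ) - 1))) :
    ∃ U : Y.Opens, y ∈ U ∧ U ≤ V ∧
      Nonempty (N.restrict (f ⁻¹ᵁ U).ι ≅ unitM (f ⁻¹ᵁ U).toScheme) := by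
  classical
  letI ovX : (f ⁻¹ᵁ V).toScheme.Over (Spec (CommRingCat.of ↑Γ(Y, V))) := ⟨sV f hV⟩
  haveI : IsNoetherianRing ↑Γ(Y, V) := IsLocallyNoetherian.component_noetherian ⟨V, hV⟩
  haveI hprop : IsProper ((f ⁻¹ᵁ V).toScheme ↘ Spec (CommRingCat.of ↑Γ(Y, V))) :=
    (inferInstance : IsProper (sV f hV))
  let N₁ : (f ⁻¹ᵁ V).toScheme.Modules := N.restrict (f ⁻¹ᵁ V).ι
  have hN₁ : PicF.IsInvertible N₁ := isInvertible_restrict _ hN
  haveI : N₁.IsQuasicoherent := isQuasicoherent_of_isInvertible hN₁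
  -- the fibre as a base change
  letI alg := resAlg y hyV
  letI ov : (f.fiber y).Over (Spec (CommRingCat.of ↑(Y.residueField y))) := CohIII.fiberOver f y
  obtain ⟨g, hg, H3⟩ := exists_fibre_lift f hV y hyV
  have hfrac := resAlg_frac hV y hyV
  have hlift := exists_lift_of_flat_opcycles Q hQ (-((0 : ℕ) : ℤ)) (-((0 : ℕ) : ℤ) - 1)
    (rel_down _) hW (Y.residueField y) hfrac
  -- the trivialising section of the fibre and its lift
  let ψ : (Scheme.Modules.pullback g).obj N₁ ≅ CohIII.fiberMod f N y :=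
    (Scheme.Modules.pullback g).mapIso
        ((Scheme.Modules.restrictFunctorIsoPullback (f ⁻¹ᵁ V).ι).app N) ≪≫
      (Scheme.Modules.pullbackComp g (f ⁻¹ᵁ V).ι).app N ≪≫
      (Scheme.Modules.pullbackCongr hg).app N
  let u : unitM (f.fiber y) ≅ (Scheme.Modules.pullback g).obj N₁ := φN.symm ≪≫ ψ.symm
  obtain ⟨a, s, ha, hs⟩ := exists_section_lift ↑Γ(Y, V) (Y.residueField y) (f ⁻¹ᵁ V).toScheme
    (f.fiber y) g H3 N₁ Q (-((0 : ℕ) : ℤ)) e0 hlift (sval u.hom (g ⁻¹ᵁ ⊤))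
  have hc : IsUnit (aX ((f.fiber y) ↘ Spec (CommRingCat.of ↑(Y.residueField y))) (g ⁻¹ᵁ ⊤)
      (algebraMap ↑Γ(Y, V) (Y.residueField y) a)) := (IsUnit.mk0 _ ha).map _
  have hgen := forall_mem_genLocus_of_pullSect g hN₁ s u _ hc hs
  -- the neighbourhood
  let G : (f ⁻¹ᵁ V).toScheme.Opens := CohB1.genLocus N₁ (homOfSection N₁ s)
  let IG : X.Opens := (f ⁻¹ᵁ V).ι ''ᵁ G
  have hT : IsClosed (f.base '' ((IG : Set X)ᶜ)) := f.isClosedMap _ IG.2.isClosed_compl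
  let U : Y.Opens := V ⊓ ⟨(f.base '' ((IG : Set X)ᶜ))ᶜ, hT.isOpen_compl⟩
  have hyU : y ∈ U := by
    refine ⟨hyV, ?_⟩
    rintro ⟨x, hx, hfx⟩
    have hxV : x ∈ f ⁻¹ᵁ V := by
      change f.base x ∈ V
      rw [hfx]
      exact hyV
    obtain ⟨x', hx'⟩ := exists_fibre_point f hg (⟨x, hxV⟩ : (f ⁻¹ᵁ V).toScheme) hfx
    apply hx
    refine ⟨⟨x, hxV⟩, ?_, rfl⟩
    rw [← hx']
    exact hgen x'
  have hWG : f ⁻¹ᵁ U ≤ IG := by
    intro x hx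
    by_contra hxG
    exact hx.2 ⟨x, hxG, rfl⟩
  refine ⟨U, hyU, inf_le_left, ?_⟩
  have hWV : f ⁻¹ᵁ U ≤ f ⁻¹ᵁ V := fun x hx => hx.1
  let k : (f ⁻¹ᵁ U).toScheme ⟶ (f ⁻¹ᵁ V).toScheme := X.homOfLE hWV
  have hk : k ≫ (f ⁻¹ᵁ V).ι = (f ⁻¹ᵁ U).ι := X.homOfLE_ι hWV
  have hkG : ∀ w : (f ⁻¹ᵁ U).toScheme, k w ∈ G := by
    intro w
    have h1 : (f ⁻¹ᵁ U).ι w ∈ IG := hWG w.2
    obtain ⟨x₁, hx₁, hx₁'⟩ := h1
    have h2 : x₁ = k w := by
      apply (f ⁻¹ᵁ V).ι.isOpenEmbedding.injective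
      refine Eq.trans hx₁' ?_
      rw [← hk]
      rfl
    rw [← h2]
    exact hx₁
  have e2 : CohB1.genLocus _ (pullHom k (homOfSection N₁ s)) = ⊤ := by
    rw [genLocus_pullHom k hN₁, eq_top_iff]
    intro w _
    exact hkG w
  haveI := isIso_of_genLocus_eq_top' _ e2
  let ψW : (Scheme.Modules.pullback k).obj N₁ ≅ (Scheme.Modules.pullback (f ⁻¹ᵁ U).ι).obj N :=
    (Scheme.Modules.pullback k).mapIso
        ((Scheme.Modules.restrictFunctorIsoPullback (f ⁻¹ᵁ V).ι).app N) ≪≫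
      (Scheme.Modules.pullbackComp k (f ⁻¹ᵁ V).ι).app N ≪≫
      (Scheme.Modules.pullbackCongr hk).app N
  let eW : (Scheme.Modules.pullback (f ⁻¹ᵁ U).ι).obj N ≅ unitM (f ⁻¹ᵁ U).toScheme :=
    ψW.symm ≪≫ (asIso (pullHom k (homOfSection N₁ s))).symm
  exact ⟨restrictIsoPullback (f ⁻¹ᵁ U).ι N ≪≫ eW⟩

/-- **Trivialisation near a fibre over a reduced base** when `h⁰` of the fibres is constant. -/
theorem exists_iso_unit_near_fibre [IsProper f] [IsLocallyNoetherian Y]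
    {V : Y.Opens} (hV : IsAffineOpen V) (hred : IsReduced ↑Γ(Y, V)) (y : Y) (hyV : y ∈ V)
    (N : X.Modules) (hN : PicF.IsInvertible N) (hNfl : FlatMod.IsFlatOver f N)
    (φN : CohIII.fiberMod f N y ≅ unitM (f.fiber y))
    (c : ℕ) (hc : ∀ y' : Y, y' ∈ V → CohIII.fiberRank f N 0 y' = c) :
    ∃ U : Y.Opens, y ∈ U ∧ U ≤ V ∧
      Nonempty (N.restrict (f ⁻¹ᵁ U).ι ≅ unitM (f ⁻¹ᵁ U).toScheme) := by
  letI ovX : (f ⁻¹ᵁ V).toScheme.Over (Spec (CommRingCat.of ↑Γ(Y, V))) := ⟨sV f hV⟩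
  haveI : IsNoetherianRing ↑Γ(Y, V) := IsLocallyNoetherian.component_noetherian ⟨V, hV⟩
  haveI hprop : IsProper ((f ⁻¹ᵁ V).toScheme ↘ Spec (CommRingCat.of ↑Γ(Y, V))) :=
    (inferInstance : IsProper (sV f hV))
  have hNcoh : Coh.IsCoh N :=
    ⟨isQuasicoherent_of_isInvertible hN, isFiniteType_of_isInvertible hN⟩
  have hN₁coh : Coh.IsCoh (N.restrict (f ⁻¹ᵁ V).ι) :=
    Groth.Agent.Lib.Helper12.H12Fin.isCoh_restrict _ N hNcoh
  obtain ⟨Q, d, hQ, hd, hpos, hp⟩ := bridge2 ↑Γ(Y, V) (f ⁻¹ᵁ V).toScheme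
    (N.restrict (f ⁻¹ᵁ V).ι) hN₁coh (isFlatOver_sV f hV N hNcoh hNfl)
  obtain ⟨e0⟩ := hp 0
  have hQ' : ∀ i, Module.Finite ↑Γ(Y, V) (Q.X i) ∧ Module.Flat ↑Γ(Y, V) (Q.X i) := fun i =>
    ⟨(hQ i).1, haveI := (hQ i).2; inferInstance⟩
  obtain ⟨-, -, hW⟩ := flat_opcycles_of_const_fiberRank f hV hred N hNcoh 0 c hc Q hQ' e0
  exact exists_iso_unit_near_fibre_aux f hV y hyV N hN φN Q (fun i => (hQ' i).2) e0 hW

end NearFibre

end Groth.Agent.Lib.Helper22.EGA7
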