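import Groth.Agent.Lib.Helper22.FBC.Geom2
import Groth.Agent.Lib.Helper29.PullSect
import Groth.Agent.Lib.Helper8.FlatAffine

set_option autoImplicit false
set_option linter.unusedSectionVars false
set_option linter.style.haveILetI false

universe u

open CategoryTheory CategoryTheory.Limits AlgebraicGeometry TopologicalSpace Opposite
open TensorProduct MonoidalCategory

namespace Groth.Agent.Lib.Helper22.EGA7

open _root_.Groth.Agent.Lib.Helper22.FBC
open _root_.Groth.Agent.Lib.Helper29.QCoh

variable {A : Type u} [CommRing A] {X : Scheme.{u}} (f : X ⟶ Spec (CommRingCat.of A))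
  (F : X.Modules)

/-- Sections of `F` over `V`, with the `A`-module structure through `f`. -/
def SecA (_f : X ⟶ Spec (CommRingCat.of A)) (F : X.Modules) (V : X.Opens) : Type u := Γ(F, V)

noncomputable instance (V : X.Opens) : AddCommGroup (SecA f F V) :=
  inferInstanceAs (AddCommGroup Γ(F, V))

noncomputable instance (V : X.Opens) : Module A (SecA f F V) :=
  Module.compHom Γ(F, V) (αU f V).hom

lemma SecA_smul (V : X.Opens) (a : A) (s : SecA f F V) :
    a • s = ((αU f V).hom a • (show Γ(F, V) from s) : Γ(F, V)) := rfl

/-- restriction, `A`-linear -/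
noncomputable def resA {V W : X.Opens} (h : W ≤ V) : SecA f F V →ₗ[A] SecA f F W where
  toFun s := res F h s
  map_add' s t := map_add (res F h) s t
  map_smul' a s := by
    change res F h ((αU f V).hom a • (show Γ(F, V) from s)) =
      (αU f W).hom a • res F h (show Γ(F, V) from s)
    rw [res_smul, αU_map f V W h a]

/-- The presheaf of `A`-modules of sections of `F`. -/
noncomputable def PA : (Opens X)ᵒᵖ ⥤ ModuleCat.{u} A where
  obj V := ModuleCat.of A (SecA f F V.unop)
  map {V W} i := ModuleCat.ofHom (resA f F (leOfHom i.unop))
  map_id V := by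
    ext s
    exact res_self F s
  map_comp {V W Z} i j := by
    ext s
    exact (res_res F (leOfHom i.unop) (leOfHom j.unop) s).symm

/-- The identification of the underlying abelian presheaf. -/
noncomputable def φ₀ : PA f F ⋙ forget₂ (ModuleCat.{u} A) AddCommGrpCat.{u} ⟶ (Coh.toAb F).obj where
  app V := AddCommGrpCat.ofHom (AddMonoidHom.id Γ(F, V.unop))
  naturality := by
    intro V W i
    rfl

end Groth.Agent.Lib.Helper22.EGA7
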