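import Groth.Agent.Lib.Helper22.EGA7.PMod1

set_option autoImplicit false
set_option linter.unusedSectionVars false
set_option linter.style.haveILetI false

universe u

open CategoryTheory CategoryTheory.Limits AlgebraicGeometry TopologicalSpace Opposite
open TensorProduct MonoidalCategory

namespace Groth.Agent.Lib.Helper22.EGA7

open _root_.Groth.Agent.Lib.Helper22.FBC
open _root_.Groth.Agent.Lib.Helper29.QCoh

variable {A : Type u} [CommRing A] {X : Scheme.{u}} (f : X ⟶ Spec (CommRingCat.of A))
  (F : X.Modules) (M : ModuleCat.{u} A)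

/-- `f^* M~ ⊗ F`. -/
noncomputable abbrev GM : X.Modules := CohB1.tensorMod (QM (B := A) M f) F

/-- the section of `f^*M~` over `V` attached to `m` -/
noncomputable def mRes (V : X.Opens) : M →+ Γ(QM (B := A) M f, V) :=
  (res (QM (B := A) M f) (le_top : V ≤ ⊤)).comp (mSec (B := A) M f)

lemma mRes_smul (V : X.Opens) (a : A) (m : M) :
    mRes f M V (a • m) = (αU f V).hom a • mRes f M V m := by
  change res (QM (B := A) M f) (le_top : V ≤ ⊤) (mSec (B := A) M f (a • m)) = _
  rw [mSec_smul, res_smul, αU_map f ⊤ V le_top a]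
  rfl

lemma res_mRes {V W : X.Opens} (h : W ≤ V) (m : M) :
    res (QM (B := A) M f) h (mRes f M V m) = mRes f M W m := by
  change res _ h (res _ _ _) = res _ _ _
  rw [res_res]

/-- The comparison map on sections, `s ⊗ m ↦ m~ ⊗ s`. -/
noncomputable def φlin (V : X.Opens) : SecA f F V ⊗[A] M →ₗ[A] SecA f (GM f F M) V :=
  TensorProduct.lift
    (LinearMap.mk₂ A (fun (s : SecA f F V) (m : M) =>
        (tmulSec (QM (B := A) M f) F (mRes f M V m) (show Γ(F, V) from s) : SecA f (GM f F M) V))
      (fun s s' m => FBC.tmulSec_add_right _ _ _ _ _)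
      (fun a s m => by
        change tmulSec (QM (B := A) M f) F (mRes f M V m) ((αU f V).hom a • (show Γ(F, V) from s)) =
          (αU f V).hom a • tmulSec (QM (B := A) M f) F (mRes f M V m) (show Γ(F, V) from s)
        rw [FBC.tmulSec_smul_right])
      (fun s m m' => by
        change tmulSec (QM (B := A) M f) F (mRes f M V (m + m')) (show Γ(F, V) from s) = _
        rw [map_add, FBC.tmulSec_add_left]
        rfl)
      (fun a s m => by
        change tmulSec (QM (B := A) M f) F (mRes f M V (a • m)) (show Γ(F, V) from s) =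
          (αU f V).hom a • tmulSec (QM (B := A) M f) F (mRes f M V m) (show Γ(F, V) from s)
        rw [mRes_smul, FBC.tmulSec_smul_left]))

lemma φlin_tmul (V : X.Opens) (s : SecA f F V) (m : M) :
    φlin f F M V (s ⊗ₜ m) =
      tmulSec (QM (B := A) M f) F (mRes f M V m) (show Γ(F, V) from s) := rfl

lemma φlin_res {V W : X.Opens} (h : W ≤ V) :
    (φlin f F M W).comp (LinearMap.rTensor M (resA f F h)) =
      (resA f (GM f F M) h).comp (φlin f F M V) := by
  apply TensorProduct.ext'
  intro s m
  change tmulSec (QM (B := A) M f) F (mRes f M W m) (res F h (show Γ(F, V) from s)) =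
    res (GM f F M) h (tmulSec (QM (B := A) M f) F (mRes f M V m) (show Γ(F, V) from s))
  rw [res_tmulSec, res_mRes]

/-- The comparison as a morphism of presheaves of abelian groups. -/
noncomputable def φM : (PA f F ⋙ tensorRight M) ⋙ forget₂ (ModuleCat.{u} A) AddCommGrpCat.{u} ⟶
    (Coh.toAb (GM f F M)).obj where
  app V := AddCommGrpCat.ofHom (φlin f F M V.unop).toAddMonoidHom
  naturality := by
    intro V W i
    ext t
    exact LinearMap.congr_fun (φlin_res f F M (leOfHom i.unop)) t

lemma φM_app (V : (Opens X)ᵒᵖ) (t : SecA f F V.unop ⊗[A] M) :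
    ((φM f F M).app V).hom t = φlin f F M V.unop t := rfl

end Groth.Agent.Lib.Helper22.EGA7
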