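import Groth.Agent.Lib.Helper22.EGA7.PMod2
import Groth.Prelude.Def_ega3

set_option autoImplicit false
set_option linter.unusedSectionVars false
universe u
open CategoryTheory CategoryTheory.Limits AlgebraicGeometry TopologicalSpace Opposite
open TensorProduct MonoidalCategory
namespace Groth.Agent.Lib.Helper22.EGA7
open _root_.Groth.Agent.Lib.Helper22.FBC
open _root_.Groth.Agent.Lib.Helper29.QCoh

section general
variable {X : Scheme.{u}}

theorem shf_map_unitApp {P P' : X.PresheafOfModules} (α : P ⟶ P') (V : X.Opens)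
    (w : P.obj (op V)) :
    ((CohB1.sheafifyMod X).map α).app V (unitApp P V w) = unitApp P' V (α.app (op V) w) := by
  have h := (PresheafOfModules.sheafificationAdjunction (𝟙 X.ringCatSheaf.obj)).unit.naturality α
  have h2 := congrArg (fun k => (k.app (op V)).hom w) h
  exact h2.symm

theorem tensorRightMod_map_tmulSec (F : X.Modules) {P P' : X.Modules} (ψ : P ⟶ P') (V : X.Opens)
    (x : Γ(P, V)) (s : Γ(F, V)) :
    ((DCoh.tensorRightMod F).map ψ).app V (tmulSec P F x s) = tmulSec P' F (ψ.app V x) s := by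
  change ((CohB1.sheafifyMod X).map (DCoh.toP.map ψ ▷ CohB1.toPMod F)).app V
    (unitApp (tpre P F) V (ptmul P F x s)) = unitApp (tpre P' F) V (ptmul P' F (ψ.app V x) s)
  refine (shf_map_unitApp _ V _).trans ?_
  rfl

end general

variable {A : Type u} [CommRing A] {X : Scheme.{u}} [X.Over (Spec (CommRingCat.of A))]
  (F : X.Modules) {M N : ModuleCat.{u} A}

lemma tSec_map (g : M ⟶ N) (m : M) :
    (tilde.map g).app ⊤ (tSec (B := A) M m) = tSec (B := A) N (g.hom m) := by
  have h := tilde.toOpen_map_app (R := CommRingCat.of A) g ⊤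
  exact congrArg (fun k => k.hom m) h

lemma mRes_map (g : M ⟶ N) (V : X.Opens) (m : M) :
    ((Scheme.Modules.pullback (X ↘ Spec (CommRingCat.of A))).map (tilde.map g)).app V
      (mRes (X ↘ Spec (CommRingCat.of A)) M V m) =
      mRes (X ↘ Spec (CommRingCat.of A)) N V (g.hom m) := by
  change ((Scheme.Modules.pullback (X ↘ Spec (CommRingCat.of A))).map (tilde.map g)).app V
    (res _ (le_top : V ≤ ⊤) (pullSect _ _ ⊤ (tSec (B := A) M m))) =
    res _ (le_top : V ≤ ⊤) (pullSect _ _ ⊤ (tSec (B := A) N (g.hom m)))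
  rw [app_res, ← tSec_map, ← pullSect_naturality]
  rfl

/-- Naturality of the comparison in the module. -/
lemma φlin_natM (g : M ⟶ N) (V : X.Opens)
    (t : SecA (X ↘ Spec (CommRingCat.of A)) F V ⊗[A] M) :
    ((CohIII.tensorAFunctor A F).map g).app V (φlin (X ↘ Spec (CommRingCat.of A)) F M V t) =
      φlin (X ↘ Spec (CommRingCat.of A)) F N V (LinearMap.lTensor _ g.hom t) := by
  induction t using TensorProduct.induction_on with
  | zero => rw [map_zero, map_zero, map_zero]; exact map_zero _
  | add x y hx hy =>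
    rw [map_add, map_add, map_add, ← hx, ← hy]
    exact map_add _ _ _
  | tmul s m =>
    rw [LinearMap.lTensor_tmul, φlin_tmul, φlin_tmul, ← mRes_map]
    exact tensorRightMod_map_tmulSec F _ V _ _

end Groth.Agent.Lib.Helper22.EGA7
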