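import Mathlib
import Groth.Prelude.Def_ega3

set_option autoImplicit false
set_option linter.unusedSectionVars false
set_option linter.unusedVariables false
set_option linter.style.haveILetI false
universe u
open CategoryTheory CategoryTheory.Limits

namespace Groth.Agent.Lib.Helper22.EGA7

section hom

variable {A : Type u} [CommRing A] {ι : Type} {c : ComplexShape ι}

lemma cycles_exists (K : HomologicalComplex (ModuleCat.{u} A) c) (j k : ι) (hk : c.next j = k)
    (x : K.X j) (hx : (K.d j k).hom x = 0) : ∃ z : K.cycles j, (K.iCycles j).hom z = x := by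
  let W : ModuleCat.{u} A := ModuleCat.of A (LinearMap.ker (K.d j k).hom)
  let φ : W ⟶ K.X j := ModuleCat.ofHom (Submodule.subtype _)
  have hφ : φ ≫ K.d j k = 0 := by
    ext w
    exact w.2
  refine ⟨(K.liftCycles φ k hk hφ).hom ⟨x, hx⟩, ?_⟩
  have h := K.liftCycles_i φ k hk hφ
  exact congrArg (fun m => m.hom (⟨x, hx⟩ : LinearMap.ker (K.d j k).hom)) h

lemma boundary_exists (K : HomologicalComplex (ModuleCat.{u} A) c) (i j : ι) (hi : c.prev j = i)
    (z : K.cycles j) (hz : (K.homologyπ j).hom z = 0) :
    ∃ w : K.X i, (K.toCycles i j).hom w = z := by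
  let S : ShortComplex (ModuleCat.{u} A) :=
    ShortComplex.mk (K.toCycles i j) (K.homologyπ j) (K.toCycles_comp_homologyπ i j)
  have hS : S.Exact := S.exact_of_g_is_cokernel (K.homologyIsCokernel i j hi)
  exact (ShortComplex.moduleCat_exact_iff S).mp hS z hz

lemma iCycles_injective (K : HomologicalComplex (ModuleCat.{u} A) c) (j : ι) :
    Function.Injective (K.iCycles j).hom :=
  (ModuleCat.mono_iff_injective _).mp inferInstance

lemma homologyπ_surjective (K : HomologicalComplex (ModuleCat.{u} A) c) (j : ι) :
    Function.Surjective (K.homologyπ j).hom :=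
  (ModuleCat.epi_iff_surjective _).mp inferInstance

theorem homology_pi_bijective {J : Type*} (KP : HomologicalComplex (ModuleCat.{u} A) c)
    (Kα : J → HomologicalComplex (ModuleCat.{u} A) c) (φ : ∀ α, KP ⟶ Kα α)
    (hθ : ∀ i, Function.Bijective (fun (t : KP.X i) (α : J) => ((φ α).f i).hom t)) (j : ι) :
    Function.Bijective (fun (h : KP.homology j) (α : J) =>
      (HomologicalComplex.homologyMap (φ α) j).hom h) := by
  have hcyc : ∀ (α : J) (z : KP.cycles j),
      ((Kα α).iCycles j).hom ((HomologicalComplex.cyclesMap (φ α) j).hom z) =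
        ((φ α).f j).hom ((KP.iCycles j).hom z) := fun α z =>
    congrArg (fun m => m.hom z) (HomologicalComplex.cyclesMap_i (φ α) j)
  have hπ : ∀ (α : J) (z : KP.cycles j),
      (HomologicalComplex.homologyMap (φ α) j).hom ((KP.homologyπ j).hom z) =
        ((Kα α).homologyπ j).hom ((HomologicalComplex.cyclesMap (φ α) j).hom z) := fun α z =>
    congrArg (fun m => m.hom z) (HomologicalComplex.homologyπ_naturality (φ α) j)
  have hd : ∀ (α : J) (a b : ι) (t : KP.X a),
      ((φ α).f b).hom ((KP.d a b).hom t) = ((Kα α).d a b).hom (((φ α).f a).hom t) := fun α a b t =>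
    (congrArg (fun m => m.hom t) ((φ α).comm a b)).symm
  have hti : ∀ (K : HomologicalComplex (ModuleCat.{u} A) c) (a : ι) (w : K.X a),
      (K.iCycles j).hom ((K.toCycles a j).hom w) = (K.d a j).hom w := fun K a w =>
    congrArg (fun m => m.hom w) (K.toCycles_i a j)
  let Θ : KP.homology j →+ (∀ α, (Kα α).homology j) :=
    { toFun := fun h α => (HomologicalComplex.homologyMap (φ α) j).hom h
      map_zero' := by funext α; exact map_zero _
      map_add' := fun x y => by funext α; exact map_add _ x y }
  suffices hΘ : Function.Bijective Θ from hΘ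
  constructor
  · -- injective
    rw [injective_iff_map_eq_zero]
    intro h hh
    obtain ⟨z, rfl⟩ := homologyπ_surjective KP j h
    have hα : ∀ α, ∃ w : (Kα α).X (c.prev j), ((Kα α).toCycles (c.prev j) j).hom w =
        (HomologicalComplex.cyclesMap (φ α) j).hom z := by
      intro α
      refine boundary_exists (Kα α) (c.prev j) j rfl _ ?_
      rw [← hπ α z]
      exact congrFun hh α
    choose wα hwα using hα
    obtain ⟨w, hw⟩ := (hθ (c.prev j)).2 wα
    have hw' : ∀ α, ((φ α).f (c.prev j)).hom w = wα α := fun α => congrFun hw α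
    have hz : (KP.toCycles (c.prev j) j).hom w = z := by
      apply iCycles_injective KP j
      rw [hti]
      apply (hθ j).1
      funext α
      change ((φ α).f j).hom ((KP.d (c.prev j) j).hom w) = ((φ α).f j).hom ((KP.iCycles j).hom z)
      rw [hd, hw', ← hcyc, ← hwα, hti]
    rw [← hz]
    exact congrArg (fun m => m.hom w) (KP.toCycles_comp_homologyπ (c.prev j) j)
  · -- surjective
    intro hα
    have hz : ∀ α, ∃ z : (Kα α).cycles j, ((Kα α).homologyπ j).hom z = hα α := fun α =>
      homologyπ_surjective (Kα α) j (hα α)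
    choose zα hzα using hz
    obtain ⟨x, hx⟩ := (hθ j).2 (fun α => ((Kα α).iCycles j).hom (zα α))
    have hx' : ∀ α, ((φ α).f j).hom x = ((Kα α).iCycles j).hom (zα α) := fun α => congrFun hx α
    have hdx : (KP.d j (c.next j)).hom x = 0 := by
      apply (hθ (c.next j)).1
      funext α
      change ((φ α).f (c.next j)).hom ((KP.d j (c.next j)).hom x) =
        ((φ α).f (c.next j)).hom 0
      rw [hd, hx', map_zero]
      exact congrArg (fun m => m.hom (zα α)) ((Kα α).iCycles_d j (c.next j))
    obtain ⟨z, hz⟩ := cycles_exists KP j (c.next j) rfl x hdx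
    refine ⟨(KP.homologyπ j).hom z, ?_⟩
    funext α
    change (HomologicalComplex.homologyMap (φ α) j).hom ((KP.homologyπ j).hom z) = hα α
    rw [hπ, ← hzα]
    congr 1
    apply iCycles_injective (Kα α) j
    rw [hcyc, hz, hx']

end hom

section tensor

open TensorProduct

variable {A : Type u} [CommRing A]

lemma equivFinsupp_lTensor {N : Type u} [AddCommGroup N] [Module A N] {κ : Type*} [DecidableEq κ]
    (b : Module.Basis κ A N) {X Y : Type u} [AddCommGroup X] [Module A X] [AddCommGroup Y]
    [Module A Y] (g : X →ₗ[A] Y) (t : N ⊗[A] X) (k : κ) :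
    TensorProduct.equivFinsuppOfBasisLeft b (LinearMap.lTensor N g t) k =
      g (TensorProduct.equivFinsuppOfBasisLeft b t k) := by
  induction t using TensorProduct.induction_on with
  | zero => simp
  | add x y hx hy => simp only [map_add, Finsupp.add_apply, hx, hy]
  | tmul n x =>
    rw [LinearMap.lTensor_tmul, TensorProduct.equivFinsuppOfBasisLeft_apply_tmul_apply,
      TensorProduct.equivFinsuppOfBasisLeft_apply_tmul_apply, map_smul]

theorem lTensor_pi_bijective (N : Type u) [AddCommGroup N] [Module A N] [Module.Finite A N]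
    [Module.Free A N] {J : Type*} {P : Type u} {M : J → Type u} [AddCommGroup P] [Module A P]
    [∀ α, AddCommGroup (M α)] [∀ α, Module A (M α)] (π : ∀ α, P →ₗ[A] M α)
    (hπ : Function.Bijective (fun (x : P) α => π α x)) :
    Function.Bijective (fun (t : N ⊗[A] P) α => LinearMap.lTensor N (π α) t) := by
  classical
  let b := Module.Free.chooseBasis A N
  constructor
  · intro t t' h
    apply (TensorProduct.equivFinsuppOfBasisLeft b).injective
    ext k
    apply hπ.1
    funext α
    change π α _ = π α _
    rw [← equivFinsupp_lTensor b (π α) t k, ← equivFinsupp_lTensor b (π α) t' k]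
    exact congrArg (fun z => TensorProduct.equivFinsuppOfBasisLeft b z k) (congrFun h α)
  · intro s
    have hx : ∀ k, ∃ x : P, ∀ α, π α x = TensorProduct.equivFinsuppOfBasisLeft b (s α) k := by
      intro k
      obtain ⟨x, hx⟩ := hπ.2 (fun α => TensorProduct.equivFinsuppOfBasisLeft b (s α) k)
      exact ⟨x, fun α => congrFun hx α⟩
    choose x hx using hx
    let v : Module.Free.ChooseBasisIndex A N →₀ P := Finsupp.equivFunOnFinite.symm x
    refine ⟨(TensorProduct.equivFinsuppOfBasisLeft b).symm v, ?_⟩
    funext α
    apply (TensorProduct.equivFinsuppOfBasisLeft b).injective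
    ext k
    change TensorProduct.equivFinsuppOfBasisLeft b (LinearMap.lTensor N (π α)
      ((TensorProduct.equivFinsuppOfBasisLeft b).symm v)) k = _
    rw [equivFinsupp_lTensor, LinearEquiv.apply_symm_apply]
    exact hx k α

end tensor

section main

variable {A : Type u} [CommRing A] {ι : Type} {c : ComplexShape ι}

theorem TFun_pi_bijective (Q : HomologicalComplex (ModuleCat.{u} A) c)
    (hQ : ∀ i, Module.Finite A (Q.X i) ∧ Module.Free A (Q.X i)) (j : ι) {J : Type*}
    (M : J → ModuleCat.{u} A) (P : ModuleCat.{u} A) (π : ∀ α, P ⟶ M α)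
    (hπ : Function.Bijective (fun (x : P) α => (π α).hom x)) :
    Function.Bijective (fun (h : (CohIII.TFun Q j).obj P) α =>
      ((CohIII.TFun Q j).map (π α)).hom h) :=
  homology_pi_bijective (CohIII.tensorObj Q P) (fun α => CohIII.tensorObj Q (M α))
    (fun α => CohIII.tensorMap Q (π α)) (fun i => by
      haveI := (hQ i).1
      haveI := (hQ i).2
      exact lTensor_pi_bijective (Q.X i) (fun α => (π α).hom) hπ) j

/-- `M ↦ H_j(Q ⊗ M)` commutes with arbitrary products when `Q` is degreewise finite free. -/
theorem preservesProducts_TFun (Q : HomologicalComplex (ModuleCat.{u} A) c)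
    (hQ : ∀ i, Module.Finite A (Q.X i) ∧ Module.Free A (Q.X i)) (j : ι) (J : Type u) :
    PreservesLimitsOfShape (Discrete J)
      (CohIII.TFun Q j ⋙ forget₂ (ModuleCat.{u} A) AddCommGrpCat.{u}) := by
  haveI : ∀ M : J → ModuleCat.{u} A, PreservesLimit (Discrete.functor M)
      (CohIII.TFun Q j ⋙ forget₂ (ModuleCat.{u} A) AddCommGrpCat.{u}) := by
    intro M
    set G := CohIII.TFun Q j ⋙ forget₂ (ModuleCat.{u} A) AddCommGrpCat.{u} with hG
    have hπ : Function.Bijective (fun (x : (∏ᶜ M : ModuleCat.{u} A)) α => (Pi.π M α).hom x) := by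
      have h := (Concrete.productEquiv M).bijective
      have e : (fun (x : (∏ᶜ M : ModuleCat.{u} A)) α => (Pi.π M α).hom x) =
          Concrete.productEquiv M := by
        funext x α
        exact (Concrete.productEquiv_apply_apply M x α).symm
      rw [e]
      exact h
    have hΘ := TFun_pi_bijective Q hQ j M (∏ᶜ M) (fun α => Pi.π M α) hπ
    haveI : IsIso (piComparison G M) := by
      rw [ConcreteCategory.isIso_iff_bijective]
      have e : (Concrete.productEquiv (fun α => G.obj (M α))) ∘ (piComparison G M) =
          (fun (h : (CohIII.TFun Q j).obj (∏ᶜ M)) α =>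
            ((CohIII.TFun Q j).map (Pi.π M α)).hom h) := by
        funext x α
        rw [Function.comp_apply, Concrete.productEquiv_apply_apply]
        exact ConcreteCategory.congr_hom (piComparison_comp_π G M α) x
      have h2 : Function.Bijective ((Concrete.productEquiv (fun α => G.obj (M α))) ∘
          (piComparison G M)) := by
        rw [e]
        exact hΘ
      exact (Function.Bijective.of_comp_iff' (Concrete.productEquiv _).bijective _).mp h2
    exact PreservesProduct.of_iso_comparison G M
  exact preservesLimitsOfShape_of_discrete _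

end main

end Groth.Agent.Lib.Helper22.EGA7
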