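import Groth.Agent.Lib.Helper22.EGA7.NearFibre
import Groth.Agent.Lib.Helper22.EGA7.FR5
import Groth.Agent.Lib.Helper20.RankOneInv
import Groth.Agent.Lib.Lead.TwistExact

/-!
# `O_Y → f_* O_X` is an isomorphism when `h⁰(X_y, O) = 1` over a reduced base (helper22)
-/

set_option autoImplicit false
set_option linter.unusedSectionVars false
set_option linter.style.haveILetI false
set_option linter.unusedVariables false
universe u
open CategoryTheory CategoryTheory.Limits Opposite TopologicalSpace AlgebraicGeometry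

namespace Groth.Agent.Lib.Helper22.EGA7

section RL

/-- An algebra which is invertible as a module is the base ring. -/
theorem bijective_algebraMap_of_invertible (B R : Type*) [CommRing B] [CommRing R] [Algebra B R]
    [Module.Invertible B R] : Function.Bijective (algebraMap B R) := by
  have hb := Module.Invertible.toModuleEnd_bijective B R
  constructor
  · rw [injective_iff_map_eq_zero]
    intro b hb0
    apply (injective_iff_map_eq_zero (Module.toModuleEnd B (S := B) R)).mp hb.1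
    apply LinearMap.ext
    intro x
    change b • x = 0
    rw [Algebra.smul_def, hb0, zero_mul]
  · intro r
    obtain ⟨b, hb'⟩ := hb.2 (LinearMap.mulLeft B r)
    refine ⟨b, ?_⟩
    have h1 := LinearMap.congr_fun hb' (1 : R)
    change b • (1 : R) = r * 1 at h1
    rw [mul_one, Algebra.smul_def, mul_one] at h1
    exact h1

end RL

section PU

open Groth.Agent.Lib.Helper29.QCoh

variable (A : Type u) [CommRing A] (X : Scheme.{u}) [X.Over (Spec (CommRingCat.of A))]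
  (F : X.Modules) [F.IsQuasicoherent] {κ : Type} {c : ComplexShape κ}

/-- If `H⁰(X, F)` with `F ≅ O_X` is computed by an invertible module, then `A → Γ(X, O_X)` is
bijective. -/
theorem toGlobal_bijective_of_invertible (θ : F ≅ unitM X)
    (Q : HomologicalComplex (ModuleCat.{u} A) c) (j : κ)
    (e : CohIII.TFun Q j ⋙ fA A ≅ CohIII.tensorAFunctor A F ⋙ CohIII.HAb X 0)
    (hinv : Module.Invertible A (Q.homology j)) :
    Function.Bijective (Coh.toGlobal (fX A X)) := by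
  let E := homologyEquivHH A X F Q j 0 e
  let w : Coh.HH X F 0 ≃+ Coh.HH X (unitM X) 0 :=
    ((CohIII.HAb X 0).mapIso θ).addCommGroupIsoToAddEquiv
  letI alg : Algebra A Γ(X, ⊤) := (Coh.toGlobal (fX A X)).toAlgebra
  let E2 : Coh.HH X F 0 ≃ₗ[A] Γ(X, ⊤) :=
    { (w.trans (hh0 (unitM X))) with
      map_smul' := fun a x => by
        change hh0 (unitM X) (w (Coh.toGlobal (fX A X) a • x)) = _
        have h1 : w (Coh.toGlobal (fX A X) a • x) = Coh.toGlobal (fX A X) a • w x :=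
          HH_map_smul θ.hom 0 (Coh.toGlobal (fX A X) a) x
        rw [h1, hh0_smul]
        rfl }
  haveI : Module.Invertible A Γ(X, ⊤) := Module.Invertible.congr (E.trans E2)
  exact bijective_algebraMap_of_invertible A Γ(X, ⊤)

end PU

section G5

open Groth.Agent.Lib.Helper29.QCoh

variable {X Y : Scheme.{u}} (f : X ⟶ Y)

lemma appLE_bijective_iff {V : Y.Opens} {W : X.Opens} (hW : W = f ⁻¹ᵁ V) (hle : W ≤ f ⁻¹ᵁ V) :
    Function.Bijective (f.appLE V W hle).hom ↔ Function.Bijective (f.app V).hom := by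
  subst hW
  rw [← Scheme.Hom.app_eq_appLE]

lemma toGlobal_sV' {V : Y.Opens} (hV : IsAffineOpen V) (a : ↑Γ(Y, V)) :
    Coh.toGlobal (sV f hV) a =
      (f.appLE V ((f ⁻¹ᵁ V).ι ''ᵁ ⊤) (by
          intro x hx
          obtain ⟨y, -, rfl⟩ := hx
          exact y.2)).hom a := by
  have h0 : (sV f hV).appLE ⊤ ⊤ le_top = (sV f hV).appTop := by
    change (sV f hV).appLE ⊤ ((sV f hV) ⁻¹ᵁ ⊤) le_rfl = (sV f hV).app ⊤
    rw [← Scheme.Hom.app_eq_appLE]
  have h1 := sV_appLE f hV ⊤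
  rw [h0] at h1
  unfold Coh.toGlobal
  rw [h1]
  change (f.appLE V _ _).hom ((Scheme.ΓSpecIso _).hom.hom ((Scheme.ΓSpecIso _).inv.hom a)) = _
  congr 1
  exact ConcreteCategory.congr_hom (Scheme.ΓSpecIso (CommRingCat.of ↑Γ(Y, V))).inv_hom_id a

/-- **`O_Y(V) → O_X(f⁻¹V)` is bijective** for affine `V` with reduced coordinate ring, when all
fibres over `V` have `h⁰(O) = 1`. -/
theorem app_bijective_of_affine [IsProper f] [Flat f] [IsLocallyNoetherian Y]
    {V : Y.Opens} (hV : IsAffineOpen V) (hred : IsReduced ↑Γ(Y, V))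
    (h1 : ∀ y' : Y, y' ∈ V → CohIII.fiberRank f (unitM X) 0 y' = 1) :
    Function.Bijective (f.app V).hom := by
  letI ovX : (f ⁻¹ᵁ V).toScheme.Over (Spec (CommRingCat.of ↑Γ(Y, V))) := ⟨sV f hV⟩
  haveI : IsNoetherianRing ↑Γ(Y, V) := IsLocallyNoetherian.component_noetherian ⟨V, hV⟩
  haveI hprop : IsProper ((f ⁻¹ᵁ V).toScheme ↘ Spec (CommRingCat.of ↑Γ(Y, V))) :=
    (inferInstance : IsProper (sV f hV))
  have hN : PicF.IsInvertible (unitM X) := isInvertible_unit X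
  have hNcoh : Coh.IsCoh (unitM X) :=
    ⟨isQuasicoherent_of_isInvertible hN, isFiniteType_of_isInvertible hN⟩
  have hNfl : FlatMod.IsFlatOver f (unitM X) :=
    isFlatOver_of_isFlat f _ (Groth.Agent.Lib.Lead.TwistExact.isFlat_of_isInvertible hN)
  let N₁ : (f ⁻¹ᵁ V).toScheme.Modules := (unitM X).restrict (f ⁻¹ᵁ V).ι
  have hN₁coh : Coh.IsCoh N₁ := Groth.Agent.Lib.Helper12.H12Fin.isCoh_restrict _ _ hNcoh
  haveI : N₁.IsQuasicoherent := hN₁coh.1
  obtain ⟨Q, d, hQ, hd, hpos, hp⟩ := bridge2 ↑Γ(Y, V) (f ⁻¹ᵁ V).toScheme N₁ hN₁coh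
    (isFlatOver_sV f hV _ hNcoh hNfl)
  obtain ⟨e0⟩ := hp 0
  have hQ' : ∀ i, Module.Finite ↑Γ(Y, V) (Q.X i) ∧ Module.Flat ↑Γ(Y, V) (Q.X i) := fun i =>
    ⟨(hQ i).1, haveI := (hQ i).2; inferInstance⟩
  obtain ⟨⟨hm, he⟩, hdr, hW⟩ :=
    flat_opcycles_of_const_fiberRank f hV hred (unitM X) hNcoh 0 1 h1 Q hQ' e0
  -- the homology is invertible
  haveI : Module.Finite ↑Γ(Y, V) (Q.X (-((0 : ℕ) : ℤ))) := (hQ' _).1
  have hfinH : Module.Finite ↑Γ(Y, V) (Q.homology (-((0 : ℕ) : ℤ))) := by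
    haveI : Module.Finite ↑Γ(Y, V) (Q.opcycles (-((0 : ℕ) : ℤ))) :=
      Groth.Agent.Lib.Helper28.FlatCx.finite_opcycles Q _
    haveI : IsNoetherian ↑Γ(Y, V) (Q.opcycles (-((0 : ℕ) : ℤ))) := inferInstance
    exact Module.Finite.of_injective (Q.homologyι (-((0 : ℕ) : ℤ))).hom
      (Groth.Agent.Lib.Helper28.FlatCx.homologyι_injective Q _)
  have hfpT : Module.FinitePresentation ↑Γ(Y, V)
      (CohIII.T Q (-((0 : ℕ) : ℤ)) (ModuleCat.of ↑Γ(Y, V) ↑Γ(Y, V))) := by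
    haveI : Module.Finite ↑Γ(Y, V)
        (CohIII.T Q (-((0 : ℕ) : ℤ)) (ModuleCat.of ↑Γ(Y, V) ↑Γ(Y, V))) :=
      Module.Finite.equiv
        (Groth.Agent.Lib.Helper28.FlatCx.TAIso Q (-((0 : ℕ) : ℤ))).symm.toLinearEquiv
    exact Module.finitePresentation_of_finite _ _
  obtain ⟨hfp, hfl, hrk⟩ := Groth.Agent.Lib.Helper9.FlatCxBC.dRank_eq_rankAtStalk_of_exact Q
    (fun i => (hQ' i).2) (-((0 : ℕ) : ℤ)) (-((0 : ℕ) : ℤ) - 1) (rel_down _) he hm hfpT
  have hrk1 : ∀ x : PrimeSpectrum ↑Γ(Y, V),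
      Module.rankAtStalk (R := ↑Γ(Y, V)) (Q.homology (-((0 : ℕ) : ℤ))) x = 1 := by
    intro x
    rw [← hrk]
    exact hdr x
  have hinv : Module.Invertible ↑Γ(Y, V) (Q.homology (-((0 : ℕ) : ℤ))) :=
    Groth.Agent.Lib.Helper20.RankOneInv.invertible_of_rankAtStalk_eq_one hrk1
  -- conclude
  let θ : N₁ ≅ unitM (f ⁻¹ᵁ V).toScheme :=
    restrictIsoPullback (f ⁻¹ᵁ V).ι (unitM X) ≪≫ pullbackUnitIso (f ⁻¹ᵁ V).ι
  have hb := toGlobal_bijective_of_invertible ↑Γ(Y, V) (f ⁻¹ᵁ V).toScheme N₁ θ Q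
    (-((0 : ℕ) : ℤ)) e0 hinv
  have hb' : Function.Bijective (f.appLE V ((f ⁻¹ᵁ V).ι ''ᵁ ⊤) (by
          intro x hx
          obtain ⟨y, -, rfl⟩ := hx
          exact y.2)).hom := by
    refine ⟨fun a b hab => hb.1 ((toGlobal_sV' f hV a).trans
      (hab.trans (toGlobal_sV' f hV b).symm)), fun r => ?_⟩
    obtain ⟨a, ha⟩ := hb.2 r
    exact ⟨a, (toGlobal_sV' f hV a).symm.trans ha⟩
  exact (appLE_bijective_iff f (f ⁻¹ᵁ V).ι_image_top _).mp hb'

end G5

end Groth.Agent.Lib.Helper22.EGA7
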