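import Groth.Agent.Lib.Helper22.EGA7.Seesaw

/-!
# Seesaw from local data (helper22)

`seesaw_of_local`: if `O_Y → f_* O_X` is bijective on all opens and `L` is trivial over the preimages
of a neighbourhood of every point of `Y`, then `f_* L` is invertible and `f^* f_* L → L` is an
isomorphism.
-/

set_option autoImplicit false
set_option linter.unusedSectionVars false
set_option linter.style.haveILetI false
set_option linter.unusedVariables false
universe u
open CategoryTheory CategoryTheory.Limits Opposite TopologicalSpace AlgebraicGeometry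

namespace Groth.Agent.Lib.Helper22.EGA7

section Seesaw3

open Groth.Agent.Lib.Helper29.QCoh

variable {X Y : Scheme.{u}} (f : X ⟶ Y)

/-- Bijectivity of `O_Y(W) → O_X(f⁻¹W)` is local on `Y`. -/
theorem app_bijective_of_local
    (h : ∀ y : Y, ∃ U : Y.Opens, y ∈ U ∧ ∀ V : Y.Opens, V ≤ U → Function.Bijective (f.app V).hom)
    (W : Y.Opens) : Function.Bijective (f.app W).hom := by
  have h' := bijective_of_forall_basis (M := unitM Y)
    (N := (Scheme.Modules.pushforward f).obj (unitM X)) (U := ⊤)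
    (fun W' => ∃ y : Y, ∃ U : Y.Opens, W' ≤ U ∧
      ∀ V : Y.Opens, V ≤ U → Function.Bijective (f.app V).hom) ?_
    (fun W' _ => (appₗ (ClSub.unitToPush f) W').toAddMonoidHom)
    (fun W₁ W₂ _ h' m => app_res (ClSub.unitToPush f) h' m)
    ?_ W le_top
  · exact h'
  · intro W' _ y hy
    obtain ⟨U, hyU, hU⟩ := h y
    exact ⟨W' ⊓ U, inf_le_left, ⟨hy, hyU⟩, y, U, inf_le_right, hU⟩
  · rintro W' _ ⟨y, U, hW'U, hU⟩
    exact hU W' hW'U

/-- **Seesaw from local data.** -/
theorem seesaw_of_local [QuasiCompact f] [QuasiSeparated f]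
    (hG : ∀ W : Y.Opens, Function.Bijective (f.app W).hom)
    (L : X.Modules) [L.IsQuasicoherent]
    (hloc : ∀ y : Y, ∃ U : Y.Opens, y ∈ U ∧ ∃ e : Γ(L, f ⁻¹ᵁ U), IsTriv L (f ⁻¹ᵁ U) e) :
    PicF.IsInvertible ((Scheme.Modules.pushforward f).obj L) ∧
      IsIso ((Scheme.Modules.pullbackPushforwardAdjunction f).counit.app L) := by
  haveI : ((Scheme.Modules.pushforward f).obj L).IsQuasicoherent :=
    isQuasicoherent_pushforward_of_qcqs f L
  refine ⟨isInvertible_of_isTriv fun y => ?_, ?_⟩
  · obtain ⟨U, hyU, e, he⟩ := hloc y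
    exact ⟨U, _, hyU, isTriv_pushforward f hG L he⟩
  · rw [isIso_iff_app_bijective]
    intro W
    refine bijective_of_forall_basis
      (M := (Scheme.Modules.pullback f).obj ((Scheme.Modules.pushforward f).obj L)) (N := L)
      (U := ⊤)
      (fun W' => ∃ U : Y.Opens, W' ≤ f ⁻¹ᵁ U ∧ ∃ e : Γ(L, f ⁻¹ᵁ U), IsTriv L (f ⁻¹ᵁ U) e) ?_
      (fun W' _ => (appₗ
        ((Scheme.Modules.pullbackPushforwardAdjunction f).counit.app L) W').toAddMonoidHom)
      ?_ ?_ W le_top
    · intro W' _ x hx
      obtain ⟨U, hyU, e, he⟩ := hloc (f x)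
      exact ⟨W' ⊓ f ⁻¹ᵁ U, inf_le_left, ⟨hx, hyU⟩, U, inf_le_right, e, he⟩
    · intro W₁ W₂ _ h' m
      exact app_res ((Scheme.Modules.pullbackPushforwardAdjunction f).counit.app L) h' m
    · rintro W' _ ⟨U, hW'U, e, he⟩
      have hP := (isTriv_pushforward f hG L he).pullSect f
      have hLt : IsTriv L (f ⁻¹ᵁ U)
          (((Scheme.Modules.pullbackPushforwardAdjunction f).counit.app L).app (f ⁻¹ᵁ U)
            (pullSect f ((Scheme.Modules.pushforward f).obj L) U
              (show Γ((Scheme.Modules.pushforward f).obj L, U) from e))) := by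
        rw [counit_app_pullSect]
        exact he
      exact app_bijective_of_isTriv _ hP hLt W' hW'U

end Seesaw3

end Groth.Agent.Lib.Helper22.EGA7
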