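import Groth.Agent.Lib.Helper26.P1L
import Groth.Agent.Lib.Helper22.EGA7.Seesaw3

/-!
# `O_Y → f_* O_X` is an isomorphism when `Γ(X_y, O) = κ(y)` for all `y`, non-reduced base (helper22)

`app_bijective_of_fibres`: `f : X ⟶ Y` proper flat, `Y` locally Noetherian (NOT necessarily
reduced), `κ(y) → Γ(X_y, O_{X_y})` bijective for all `y`.  Then `O_Y(W) → O_X(f⁻¹W)` is bijective
for all opens `W`.  Proof: helper26 `P1L.bijective_main` at each local ring `O_{Y,y}`, Mathlib's flat
base change of sections along `Spec O_{Y,y} ⟶ Y`, and an elementwise local-global principle.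
-/

set_option autoImplicit false
set_option linter.style.haveILetI false
set_option linter.unusedSectionVars false
set_option linter.unusedVariables false
universe u
open CategoryTheory CategoryTheory.Limits Opposite TopologicalSpace AlgebraicGeometry

namespace Groth.Agent.Lib.Helper22.EGA7

section Alg

/-- Elementwise local-global principle for bijectivity of a ring map. -/
theorem bijective_of_forall_maximal_aux {A R : Type u} [CommRing A] [CommRing R] (φ : A →+* R)
    (h : ∀ P : Ideal A, P.IsMaximal → ∃ (A' R' : Type u) (_ : CommRing A') (_ : CommRing R')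
      (γ : A →+* A') (ψ : R →+* R') (χ : A' →+* R'),
      (∀ a, χ (γ a) = ψ (φ a)) ∧
      (∀ α : A', ∃ a s, s ∉ P ∧ γ s * α = γ a) ∧
      (∀ a, γ a = 0 → ∃ s, s ∉ P ∧ s * a = 0) ∧
      (∀ ρ, ψ ρ = 0 → ∃ s, s ∉ P ∧ φ s * ρ = 0) ∧
      Function.Bijective χ) : Function.Bijective φ := by
  constructor
  · rw [injective_iff_map_eq_zero]
    intro a ha
    by_contra hne
    let I : Ideal A :=
      { carrier := {s | s * a = 0}
        add_mem' := fun {s t} hs ht => by
          change (s + t) * a = 0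
          rw [add_mul, hs, ht, add_zero]
        zero_mem' := zero_mul a
        smul_mem' := fun c s hs => by
          change (c • s) * a = 0
          rw [smul_eq_mul, mul_assoc, hs, mul_zero] }
    have hI : I ≠ ⊤ := by
      intro hI
      have h1 : (1 : A) ∈ I := hI ▸ Submodule.mem_top
      have h2 : (1 : A) * a = 0 := h1
      rw [one_mul] at h2
      exact hne h2
    obtain ⟨M, hM, hIM⟩ := Ideal.exists_le_maximal I hI
    obtain ⟨A', R', _, _, γ, ψ, χ, hsq, -, h3, -, hχ⟩ := h M hM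
    have h4 : γ a = 0 := by
      apply hχ.1
      rw [hsq, ha, map_zero, map_zero]
    obtain ⟨s, hs, hsa⟩ := h3 a h4
    exact hs (hIM hsa)
  · intro ρ
    by_contra hne
    let I : Ideal A :=
      { carrier := {s | ∃ a, φ a = φ s * ρ}
        add_mem' := fun {s t} hs ht => by
          obtain ⟨a, ha⟩ := hs
          obtain ⟨b, hb⟩ := ht
          exact ⟨a + b, by rw [map_add, map_add, add_mul, ha, hb]⟩
        zero_mem' := ⟨0, by rw [map_zero, zero_mul]⟩
        smul_mem' := fun c s hs => by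
          obtain ⟨a, ha⟩ := hs
          exact ⟨c * a, by rw [smul_eq_mul, map_mul, map_mul, ha, mul_assoc]⟩ }
    have hI : I ≠ ⊤ := by
      intro hI
      have h1 : (1 : A) ∈ I := hI ▸ Submodule.mem_top
      obtain ⟨a, ha⟩ := h1
      rw [map_one, one_mul] at ha
      exact hne ⟨a, ha⟩
    obtain ⟨M, hM, hIM⟩ := Ideal.exists_le_maximal I hI
    obtain ⟨A', R', _, _, γ, ψ, χ, hsq, h2, -, h4, hχ⟩ := h M hM
    obtain ⟨α, hα⟩ := hχ.2 (ψ ρ)
    obtain ⟨a, s, hs, hsa⟩ := h2 α
    have h5 : ψ (φ s * ρ - φ a) = 0 := by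
      rw [map_sub, map_mul, ← hsq, ← hsq, ← hα, ← map_mul, hsa, sub_self]
    obtain ⟨s', hs', hs'a⟩ := h4 _ h5
    have h6 : s' * s ∈ I := by
      refine ⟨s' * a, ?_⟩
      rw [mul_sub, sub_eq_zero] at hs'a
      rw [map_mul, map_mul, mul_assoc, hs'a]
    have h7 := hIM h6
    rcases hM.isPrime.mem_or_mem h7 with h8 | h8
    · exact hs' h8
    · exact hs h8

/-- In a pushout square of commutative rings along a localization, the kernel of the base-changed
map is torsion. -/
theorem torsion_of_isPushout {A R A' R' : CommRingCat.{u}} {φ : A ⟶ R} {γ : A ⟶ A'} {ψ : R ⟶ R'}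
    {χ : A' ⟶ R'} (hpo : IsPushout φ γ ψ χ) (S : Submonoid A)
    (hloc : @IsLocalization A _ S A' _ γ.hom.toAlgebra) (ρ : R) (hρ : ψ.hom ρ = 0) :
    ∃ s, s ∈ S ∧ φ.hom s * ρ = 0 := by
  letI i1 : Algebra A R := φ.hom.toAlgebra
  letI i2 : Algebra A A' := γ.hom.toAlgebra
  letI i3 : Algebra R R' := ψ.hom.toAlgebra
  letI i4 : Algebra A' R' := χ.hom.toAlgebra
  letI i5 : Algebra A R' := (ψ.hom.comp φ.hom).toAlgebra
  haveI : IsScalarTower A R R' := IsScalarTower.of_algebraMap_eq (fun x => rfl)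
  haveI : IsScalarTower A A' R' :=
    IsScalarTower.of_algebraMap_eq (fun x => ConcreteCategory.congr_hom hpo.w x)
  haveI : IsLocalization S A' := hloc
  have hp : Algebra.IsPushout A R A' R' := CommRingCat.isPushout_iff_isPushout.mp hpo
  have hbc : IsBaseChange A' (IsScalarTower.toAlgHom A R R').toLinearMap := hp.symm.out
  haveI : IsLocalizedModule S (IsScalarTower.toAlgHom A R R').toLinearMap :=
    (isLocalizedModule_iff_isBaseChange S A' _).mpr hbc
  obtain ⟨c, hc⟩ := (IsLocalizedModule.eq_zero_iff S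
    (IsScalarTower.toAlgHom A R R').toLinearMap (m := ρ)).mp hρ
  refine ⟨c.1, c.2, ?_⟩
  have h1 : c.1 • ρ = 0 := hc
  rw [Algebra.smul_def] at h1
  exact h1

theorem bijective_of_forall_maximal {A R : CommRingCat.{u}} (φ : A ⟶ R)
    (h : ∀ (P : Ideal A) [P.IsPrime], ∃ (A' R' : CommRingCat.{u}) (γ : A ⟶ A') (ψ : R ⟶ R')
      (χ : A' ⟶ R'), IsPushout φ γ ψ χ ∧
      (@IsLocalization A _ P.primeCompl A' _ γ.hom.toAlgebra) ∧ Function.Bijective χ.hom) :
    Function.Bijective φ.hom := by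
  apply bijective_of_forall_maximal_aux φ.hom
  intro P hP
  haveI : P.IsPrime := hP.isPrime
  obtain ⟨A', R', γ, ψ, χ, hpo, hloc, hχ⟩ := h P
  refine ⟨A', R', inferInstance, inferInstance, γ.hom, ψ.hom, χ.hom, ?_, ?_, ?_, ?_, hχ⟩
  · intro a
    exact (ConcreteCategory.congr_hom hpo.w a).symm
  · intro α
    letI i2 : Algebra A A' := γ.hom.toAlgebra
    haveI : IsLocalization P.primeCompl A' := hloc
    obtain ⟨⟨a, s⟩, hx⟩ := IsLocalization.surj P.primeCompl α
    refine ⟨a, s.1, s.2, ?_⟩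
    rw [mul_comm]
    exact hx
  · intro a ha
    letI i2 : Algebra A A' := γ.hom.toAlgebra
    haveI : IsLocalization P.primeCompl A' := hloc
    obtain ⟨m, hm⟩ := (IsLocalization.map_eq_zero_iff P.primeCompl A' a).mp ha
    exact ⟨m.1, m.2, hm⟩
  · intro ρ hρ
    obtain ⟨s, hs, hsρ⟩ := torsion_of_isPushout hpo P.primeCompl hloc ρ hρ
    exact ⟨s, hs, hsρ⟩

end Alg

section Geo

variable {X Y : Scheme.{u}} (f : X ⟶ Y)

/-- The canonical morphism `Spec O_{Y,y} ⟶ Y` is flat. -/
theorem flat_fromSpecStalk' (Y : Scheme.{u}) (y : Y) : Flat (Y.fromSpecStalk y) := by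
  obtain ⟨U, hU, hxU, -⟩ := exists_isAffineOpen_mem_and_subset (x := y) (U := (⊤ : Y.Opens)) trivial
  rw [← hU.fromSpecStalk_eq_fromSpecStalk hxU, IsAffineOpen.fromSpecStalk]
  have : Flat (Spec.map (Y.presheaf.germ U y hxU)) := by
    rw [Flat.SpecMap_iff]
    let _ : Algebra Γ(Y, U) (Y.presheaf.stalk y) :=
      TopCat.Presheaf.algebra_section_stalk Y.presheaf ⟨y, hxU⟩
    have hloc := hU.isLocalization_stalk ⟨y, hxU⟩
    exact IsLocalization.flat (Y.presheaf.stalk y) (hU.primeIdealOf ⟨y, hxU⟩).asIdeal.primeCompl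
  infer_instance

lemma top_le_fromSpecStalk_preimage {V : Y.Opens} (y : Y) (hy : y ∈ V) :
    (⊤ : (Spec (Y.presheaf.stalk y)).Opens) ≤ (Y.fromSpecStalk y) ⁻¹ᵁ V := by
  intro z _
  have hz : (Y.fromSpecStalk y) z ∈ Set.range (Y.fromSpecStalk y) := ⟨z, rfl⟩
  rw [Scheme.range_fromSpecStalk] at hz
  exact hz.mem_open V.2 hy

lemma top_le_fst_preimage {V : Y.Opens} (y : Y) (hy : y ∈ V) :
    (⊤ : (pullback f (Y.fromSpecStalk y)).Opens) ≤
      (pullback.fst f (Y.fromSpecStalk y)) ⁻¹ᵁ (f ⁻¹ᵁ V) := by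
  intro z _
  change f ((pullback.fst f (Y.fromSpecStalk y)) z) ∈ V
  have h1 : f ((pullback.fst f (Y.fromSpecStalk y)) z) =
      (Y.fromSpecStalk y) ((pullback.snd f (Y.fromSpecStalk y)) z) := by
    have := congrArg (fun k => k.base z) (pullback.condition (f := f) (g := Y.fromSpecStalk y))
    simpa using this
  rw [h1]
  exact top_le_fromSpecStalk_preimage y hy trivial

/-- Flat base change of sections along `Spec O_{Y,y} ⟶ Y`. -/
theorem isPushout_fromSpecStalk [QuasiCompact f] [QuasiSeparated f] {V : Y.Opens}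
    (hV : IsAffineOpen V) (y : Y) (hy : y ∈ V) :
    IsPushout (f.appLE V (f ⁻¹ᵁ V) le_rfl)
      ((Y.fromSpecStalk y).appLE V ⊤ (top_le_fromSpecStalk_preimage y hy))
      ((pullback.fst f (Y.fromSpecStalk y)).appLE (f ⁻¹ᵁ V) ⊤ (top_le_fst_preimage f y hy))
      ((pullback.snd f (Y.fromSpecStalk y)).appLE ⊤ ⊤ le_top) := by
  haveI := flat_fromSpecStalk' Y y
  have H := IsPullback.of_hasPullback f (Y.fromSpecStalk y)
  have hUY : (⊤ : (pullback f (Y.fromSpecStalk y)).Opens) =
      (pullback.fst f (Y.fromSpecStalk y)) ⁻¹ᵁ (f ⁻¹ᵁ V) ⊓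
        (pullback.snd f (Y.fromSpecStalk y)) ⁻¹ᵁ ⊤ := by
    apply le_antisymm
    · exact le_inf (top_le_fst_preimage f y hy) le_top
    · exact le_top
  have hc : IsCompact (X := X) (f ⁻¹ᵁ V) := QuasiCompact.isCompact_preimage (f := f) _ V.2 hV.isCompact
  have hq : IsQuasiSeparated (α := X) (f ⁻¹ᵁ V) :=
    Scheme.Hom.isQuasiSeparated_preimage f hV.isQuasiSeparated
  have := isIso_pushoutSection_of_isQuasiSeparated_of_flat_right H
    (top_le_fromSpecStalk_preimage y hy) (le_refl (f ⁻¹ᵁ V)) hUY hV (isAffineOpen_top _) hc hq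
  exact (isIso_pushoutSection_iff H _ _ hUY).mp this

lemma fromSpecStalk_appLE_top {V : Y.Opens} (y : Y) (hy : y ∈ V) :
    (Y.fromSpecStalk y).appLE V ⊤ (top_le_fromSpecStalk_preimage y hy) =
      Y.presheaf.germ V y hy ≫ (Scheme.ΓSpecIso (Y.presheaf.stalk y)).inv := by
  rw [Scheme.Hom.appLE, Scheme.fromSpecStalk_app hy, Category.assoc, Category.assoc,
    ← Functor.map_comp]
  have : (homOfLE (le_top : (Y.fromSpecStalk y) ⁻¹ᵁ V ≤ ⊤)).op ≫
      (homOfLE (top_le_fromSpecStalk_preimage y hy)).op = 𝟙 _ := rfl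
  rw [this, CategoryTheory.Functor.map_id, Category.comp_id]

theorem isLocalization_fromSpecStalk_appLE {V : Y.Opens} (hV : IsAffineOpen V)
    (yP : PrimeSpectrum Γ(Y, V)) (hy : hV.fromSpec yP ∈ V) :
    @IsLocalization Γ(Y, V) _ yP.asIdeal.primeCompl
      Γ(Spec (Y.presheaf.stalk (hV.fromSpec yP)), ⊤) _
      ((Y.fromSpecStalk (hV.fromSpec yP)).appLE V ⊤
        (top_le_fromSpecStalk_preimage _ hy)).hom.toAlgebra := by
  have h0 := hV.isLocalization_stalk' yP hy
  let e : ↑(Y.presheaf.stalk (hV.fromSpec yP)) ≃+*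
      ↑Γ(Spec (Y.presheaf.stalk (hV.fromSpec yP)), ⊤) :=
    (Scheme.ΓSpecIso (Y.presheaf.stalk (hV.fromSpec yP))).symm.commRingCatIsoToRingEquiv
  letI := TopCat.Presheaf.algebra_section_stalk Y.presheaf (U := V) ⟨hV.fromSpec yP, hy⟩
  have h1 := (IsLocalization.isLocalization_iff_of_ringEquiv (M := yP.asIdeal.primeCompl)
    (S := ↑(Y.presheaf.stalk (hV.fromSpec yP))) e).mp h0
  rw [fromSpecStalk_appLE_top _ hy]
  exact h1

/-- **Local ring version** (helper26 `P1L.bijective_main`): if `κ(y) → Γ(X_y, O)` is bijective then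
`O_{Y,y} → Γ(X ×_Y Spec O_{Y,y}, O)` is bijective. -/
theorem bijective_snd_appTop_stalk [IsProper f] [Flat f] [IsLocallyNoetherian Y] (y : Y)
    (hy : Function.Bijective ((Scheme.ΓSpecIso (CommRingCat.of ↑(Y.residueField y))).inv ≫
      (f.fiberToSpecResidueField y).appTop).hom) :
    Function.Bijective ((Scheme.ΓSpecIso (Y.presheaf.stalk y)).inv ≫
      (pullback.snd f (Y.fromSpecStalk y)).appTop).hom := by
  let A : Type u := ↑(Y.presheaf.stalk y)
  letI ovX : (pullback f (Y.fromSpecStalk y)).Over (Spec (CommRingCat.of A)) :=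
    ⟨pullback.snd f (Y.fromSpecStalk y)⟩
  letI ovX0 : (f.fiber y).Over (Spec (CommRingCat.of (IsLocalRing.ResidueField A))) :=
    ⟨f.fiberToSpecResidueField y⟩
  haveI : IsProper (pullback f (Y.fromSpecStalk y) ↘ Spec (CommRingCat.of A)) :=
    (inferInstance : IsProper (pullback.snd f (Y.fromSpecStalk y)))
  haveI : Flat (pullback f (Y.fromSpecStalk y) ↘ Spec (CommRingCat.of A)) :=
    (inferInstance : Flat (pullback.snd f (Y.fromSpecStalk y)))
  let g : f.fiber y ⟶ pullback f (Y.fromSpecStalk y) :=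
    pullback.lift (f.fiberι y) (f.fiberToSpecResidueField y ≫ Spec.map (Y.residue y))
      (by rw [Category.assoc]; exact f.fiber_fac y)
  have H : IsPullback g (f.fiberToSpecResidueField y) (pullback.snd f (Y.fromSpecStalk y))
      (Spec.map (Y.residue y)) := by
    refine IsPullback.of_right ?_ ?_ (IsPullback.of_hasPullback f (Y.fromSpecStalk y))
    · have h1 : g ≫ pullback.fst f (Y.fromSpecStalk y) = f.fiberι y := pullback.lift_fst ..
      rw [h1]
      exact IsPullback.of_hasPullback f (Y.fromSpecResidueField y)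
    · exact pullback.lift_snd ..
  exact Groth.Agent.Lib.Helper26.P1L.bijective_main A (pullback f (Y.fromSpecStalk y))
    (f.fiber y) g H hy

/-- **`O_Y(V) → O_X(f⁻¹V)` is bijective** for affine `V` when all fibres over `V` have
`Γ(X_y, O) = κ(y)`; no reducedness assumption. -/
theorem app_bijective_of_affine_of_fibres [IsProper f] [Flat f] [IsLocallyNoetherian Y]
    {V : Y.Opens} (hV : IsAffineOpen V)
    (h1 : ∀ y : Y, y ∈ V →
      Function.Bijective ((Scheme.ΓSpecIso (CommRingCat.of ↑(Y.residueField y))).inv ≫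
        (f.fiberToSpecResidueField y).appTop).hom) :
    Function.Bijective (f.app V).hom := by
  rw [← appLE_bijective_iff f rfl le_rfl]
  apply bijective_of_forall_maximal
  intro P _
  let yP : PrimeSpectrum Γ(Y, V) := ⟨P, inferInstance⟩
  have hy : hV.fromSpec yP ∈ V := by
    have h2 : hV.fromSpec yP ∈ Set.range hV.fromSpec := ⟨yP, rfl⟩
    rw [hV.range_fromSpec] at h2
    exact h2
  refine ⟨_, _, _, _, _, isPushout_fromSpecStalk f hV (hV.fromSpec yP) hy,
    isLocalization_fromSpecStalk_appLE hV yP hy, ?_⟩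
  have hb := bijective_snd_appTop_stalk f (hV.fromSpec yP) (h1 _ hy)
  have hiso : Function.Bijective
      (Scheme.ΓSpecIso (Y.presheaf.stalk (hV.fromSpec yP))).inv.hom :=
    ConcreteCategory.bijective_of_isIso _
  have hb2 : Function.Bijective (pullback.snd f (Y.fromSpecStalk (hV.fromSpec yP))).appTop.hom := by
    have h3 : ((Scheme.ΓSpecIso (Y.presheaf.stalk (hV.fromSpec yP))).inv ≫
      (pullback.snd f (Y.fromSpecStalk (hV.fromSpec yP))).appTop).hom =
      (pullback.snd f (Y.fromSpecStalk (hV.fromSpec yP))).appTop.hom.comp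
        (Scheme.ΓSpecIso (Y.presheaf.stalk (hV.fromSpec yP))).inv.hom := rfl
    rw [h3, RingHom.coe_comp] at hb
    exact (Function.Bijective.of_comp_iff _ hiso).mp hb
  have h4 : (pullback.snd f (Y.fromSpecStalk (hV.fromSpec yP))).appLE ⊤ ⊤ le_top =
      (pullback.snd f (Y.fromSpecStalk (hV.fromSpec yP))).appTop := by
    change (pullback.snd f (Y.fromSpecStalk (hV.fromSpec yP))).appLE ⊤
      ((pullback.snd f (Y.fromSpecStalk (hV.fromSpec yP))) ⁻¹ᵁ ⊤) le_rfl = _
    rw [← Scheme.Hom.app_eq_appLE]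
  rw [h4]
  exact hb2


/-- **`O_Y(W) → O_X(f⁻¹W)` is bijective** for all opens `W` when all fibres have
`Γ(X_y, O) = κ(y)`; no reducedness assumption. -/
theorem app_bijective_of_fibres [IsProper f] [Flat f] [IsLocallyNoetherian Y]
    (h1 : ∀ y : Y,
      Function.Bijective ((Scheme.ΓSpecIso (CommRingCat.of ↑(Y.residueField y))).inv ≫
        (f.fiberToSpecResidueField y).appTop).hom) (W : Y.Opens) :
    Function.Bijective (f.app W).hom := by
  have h := Groth.Agent.Lib.Helper29.QCoh.bijective_of_forall_affine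
    (M := Groth.Agent.Lib.Helper29.QCoh.unitM Y)
    (N := (Scheme.Modules.pushforward f).obj (Groth.Agent.Lib.Helper29.QCoh.unitM X)) (U := ⊤)
    (fun W' _ => (Groth.Agent.Lib.Helper29.QCoh.appₗ (ClSub.unitToPush f) W').toAddMonoidHom)
    (fun W₁ W₂ _ h' m => Groth.Agent.Lib.Helper29.QCoh.app_res (ClSub.unitToPush f) h' m)
    (fun W' _ hW' => app_bijective_of_affine_of_fibres f hW' (fun y' _ => h1 y'))
    W le_top
  exact h

end Geo

end Groth.Agent.Lib.Helper22.EGA7
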