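import Groth.Agent.Lib.Helper22.EGA7.PushUnit
import Groth.Agent.Lib.Helper29.QCohQcqs
import Groth.Agent.Lib.Helper29.QCohIdealMod

/-!
# The seesaw theorem over a reduced base (helper22)

`seesaw`: `f : X ⟶ Y` proper and flat, `Y` locally Noetherian and reduced, `h⁰(X_y, O_{X_y}) = 1`
for all `y`, `L` invertible on `X` and trivial on every fibre.  Then `f_* L` is invertible and the
counit `f^* f_* L ⟶ L` is an isomorphism.
-/

set_option autoImplicit false
set_option linter.unusedSectionVars false
set_option linter.style.haveILetI false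
set_option linter.unusedVariables false
universe u
open CategoryTheory CategoryTheory.Limits Opposite TopologicalSpace AlgebraicGeometry

namespace Groth.Agent.Lib.Helper22.EGA7

section Seesaw

open Groth.Agent.Lib.Helper29.QCoh

variable {X Y : Scheme.{u}} (f : X ⟶ Y)

/-- The fibre cohomology ranks only depend on the restriction to the fibre. -/
theorem fiberRank_congr {F G : X.Modules} (y : Y)
    (φ : CohIII.fiberMod f F y ≅ CohIII.fiberMod f G y) (p : ℕ) :
    CohIII.fiberRank f F p y = CohIII.fiberRank f G p y := by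
  let w : CohIII.fiberH f F y p ≃+ CohIII.fiberH f G y p :=
    ((CohIII.HAb (f.fiber y) p).mapIso φ).addCommGroupIsoToAddEquiv
  let E : CohIII.fiberH f F y p ≃ₗ[Y.residueField y] CohIII.fiberH f G y p :=
    { w with
      map_smul' := fun a x =>
        HH_map_smul φ.hom p (Coh.toGlobal (f.fiberToSpecResidueField y) a) x }
  exact E.finrank_eq

/-- `h⁰` of the structure sheaf of the fibre. -/
theorem fiberRank_unit_zero (y : Y) :
    CohIII.fiberRank f (unitM X) 0 y = Module.finrank (Y.residueField y) Γ(f.fiber y, ⊤) := by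
  let w : CohIII.fiberH f (unitM X) y 0 ≃+ Coh.HH (f.fiber y) (unitM (f.fiber y)) 0 :=
    ((CohIII.HAb (f.fiber y) 0).mapIso (pullbackUnitIso (f.fiberι y))).addCommGroupIsoToAddEquiv
  let E : CohIII.fiberH f (unitM X) y 0 ≃ₗ[Y.residueField y] Γ(f.fiber y, ⊤) :=
    { (w.trans (hh0 (unitM (f.fiber y)))) with
      map_smul' := fun a x => by
        change hh0 (unitM (f.fiber y))
          (w (Coh.toGlobal (f.fiberToSpecResidueField y) a • x)) = _
        have h1 : w (Coh.toGlobal (f.fiberToSpecResidueField y) a • x) =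
            Coh.toGlobal (f.fiberToSpecResidueField y) a • w x :=
          HH_map_smul (pullbackUnitIso (f.fiberι y)).hom 0
            (Coh.toGlobal (f.fiberToSpecResidueField y) a) x
        rw [h1, hh0_smul]
        rfl }
  exact E.finrank_eq

/-- **`O_Y → f_* O_X` is an isomorphism** (on sections over every open) for `f` proper flat with
`h⁰(X_y, O) = 1` over a reduced locally Noetherian base. -/
theorem app_bijective_of_h0 [IsProper f] [Flat f] [IsLocallyNoetherian Y] [IsReduced Y]
    (h0 : ∀ y : Y, CohIII.fiberRank f (unitM X) 0 y = 1) (W : Y.Opens) :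
    Function.Bijective (f.app W).hom := by
  have h := bijective_of_forall_affine (M := unitM Y)
    (N := (Scheme.Modules.pushforward f).obj (unitM X)) (U := ⊤)
    (fun W' _ => (appₗ (ClSub.unitToPush f) W').toAddMonoidHom)
    (fun W₁ W₂ _ h' m => app_res (ClSub.unitToPush f) h' m)
    (fun W' _ hW' => app_bijective_of_affine f hW' inferInstance (fun y' _ => h0 y'))
    W le_top
  exact h

/-- Triangle identity on sections. -/
theorem counit_app_pullSect (L : X.Modules) (V : Y.Opens)
    (m : Γ((Scheme.Modules.pushforward f).obj L, V)) :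
    ((Scheme.Modules.pullbackPushforwardAdjunction f).counit.app L).app (f ⁻¹ᵁ V)
      (pullSect f ((Scheme.Modules.pushforward f).obj L) V m) = (show Γ(L, f ⁻¹ᵁ V) from m) := by
  have h := (Scheme.Modules.pullbackPushforwardAdjunction f).right_triangle_components L
  have h2 := congrArg (fun ψ => Scheme.Modules.Hom.app ψ V m) h
  exact h2

/-- A trivialising section over `f⁻¹ U` trivialises the direct image over `U`. -/
theorem isTriv_pushforward (hG : ∀ W : Y.Opens, Function.Bijective (f.app W).hom)
    (L : X.Modules) {U : Y.Opens} {e : Γ(L, f ⁻¹ᵁ U)} (hT : IsTriv L (f ⁻¹ᵁ U) e) :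
    IsTriv ((Scheme.Modules.pushforward f).obj L) U
      (show Γ((Scheme.Modules.pushforward f).obj L, U) from e) := by
  intro W hW
  have h1 := hT (f ⁻¹ᵁ W) (f.preimage_mono hW)
  exact h1.comp (hG W)

/-- A morphism sending a trivialising section to a trivialising section is bijective on
sections. -/
theorem app_bijective_of_isTriv {P L : X.Modules} (φ : P ⟶ L) {W₀ : X.Opens} {t : Γ(P, W₀)}
    (hP : IsTriv P W₀ t) (hL : IsTriv L W₀ (φ.app W₀ t)) (W : X.Opens) (h : W ≤ W₀) :
    Function.Bijective (φ.app W) := by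
  have h1 := hP W h
  have h2 := hL W h
  have hfun : (fun m => φ.app W m) ∘ (fun r : Γ(X, W) => r • res P h t) =
      (fun r : Γ(X, W) => r • res L h (φ.app W₀ t)) := by
    funext r
    simp only [Function.comp_apply]
    rw [Scheme.Modules.Hom.app_smul, app_res]
  have h3 : Function.Bijective ((fun m => φ.app W m) ∘ (fun r : Γ(X, W) => r • res P h t)) := by
    rw [hfun]
    exact h2
  exact (Function.Bijective.of_comp_iff _ h1).mp h3

/-- **Seesaw over a reduced base.** -/
theorem seesaw [IsProper f] [Flat f] [IsLocallyNoetherian Y] [IsReduced Y]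
    (h0 : ∀ y : Y, CohIII.fiberRank f (unitM X) 0 y = 1)
    (L : X.Modules) (hL : PicF.IsInvertible L)
    (htriv : ∀ y : Y, Nonempty (CohIII.fiberMod f L y ≅ unitM (f.fiber y))) :
    PicF.IsInvertible ((Scheme.Modules.pushforward f).obj L) ∧
      IsIso ((Scheme.Modules.pullbackPushforwardAdjunction f).counit.app L) := by
  have hLfl : FlatMod.IsFlatOver f L :=
    isFlatOver_of_isFlat f L (Groth.Agent.Lib.Lead.TwistExact.isFlat_of_isInvertible hL)
  haveI : L.IsQuasicoherent := isQuasicoherent_of_isInvertible hL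
  -- local trivialisations over preimages
  have hloc : ∀ y : Y, ∃ U : Y.Opens, y ∈ U ∧ ∃ e : Γ(L, f ⁻¹ᵁ U), IsTriv L (f ⁻¹ᵁ U) e := by
    intro y
    obtain ⟨V, hV, hyV, -⟩ :=
      exists_isAffineOpen_mem_and_subset (x := y) (U := (⊤ : Y.Opens)) trivial
    have hc : ∀ y' : Y, y' ∈ V → CohIII.fiberRank f L 0 y' = 1 := by
      intro y' _
      obtain ⟨φ⟩ := htriv y'
      rw [fiberRank_congr f y' (φ ≪≫ (pullbackUnitIso (f.fiberι y')).symm) 0]
      exact h0 y'
    obtain ⟨φ⟩ := htriv y
    obtain ⟨U, hyU, -, ⟨ε⟩⟩ :=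
      exists_iso_unit_near_fibre f hV inferInstance y hyV L hL hLfl φ 1 hc
    exact ⟨U, hyU, exists_isTriv_of_iso (f ⁻¹ᵁ U) ε⟩
  have hG := app_bijective_of_h0 f h0
  haveI : ((Scheme.Modules.pushforward f).obj L).IsQuasicoherent :=
    isQuasicoherent_pushforward_of_qcqs f L
  refine ⟨isInvertible_of_isTriv fun y => ?_, ?_⟩
  · obtain ⟨U, hyU, e, he⟩ := hloc y
    exact ⟨U, _, hyU, isTriv_pushforward f hG L he⟩
  · rw [isIso_iff_app_bijective]
    intro W
    refine bijective_of_forall_basis
      (M := (Scheme.Modules.pullback f).obj ((Scheme.Modules.pushforward f).obj L)) (N := L)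
      (U := ⊤)
      (fun W' => ∃ U : Y.Opens, W' ≤ f ⁻¹ᵁ U ∧ ∃ e : Γ(L, f ⁻¹ᵁ U), IsTriv L (f ⁻¹ᵁ U) e) ?_
      (fun W' _ => (appₗ
        ((Scheme.Modules.pullbackPushforwardAdjunction f).counit.app L) W').toAddMonoidHom)
      ?_ ?_ W le_top
    · intro W' _ x hx
      obtain ⟨U, hyU, e, he⟩ := hloc (f x)
      exact ⟨W' ⊓ f ⁻¹ᵁ U, inf_le_left, ⟨hx, hyU⟩, U, inf_le_right, e, he⟩
    · intro W₁ W₂ _ h' m
      exact app_res ((Scheme.Modules.pullbackPushforwardAdjunction f).counit.app L) h' m
    · rintro W' _ ⟨U, hW'U, e, he⟩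
      have hP := (isTriv_pushforward f hG L he).pullSect f
      have hLt : IsTriv L (f ⁻¹ᵁ U)
          (((Scheme.Modules.pullbackPushforwardAdjunction f).counit.app L).app (f ⁻¹ᵁ U)
            (pullSect f ((Scheme.Modules.pushforward f).obj L) U
              (show Γ((Scheme.Modules.pushforward f).obj L, U) from e))) := by
        rw [counit_app_pullSect]
        exact he
      exact app_bijective_of_isTriv _ hP hLt W' hW'U

end Seesaw

end Groth.Agent.Lib.Helper22.EGA7
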