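import Groth.Agent.Lib.Helper22.EGA7.Seesaw

/-!
# `h⁰(X_y, O) = 1` for integral fibres with algebraically closed residue fields at closed points
(helper22)
-/

set_option autoImplicit false
set_option linter.unusedSectionVars false
set_option linter.style.haveILetI false
set_option linter.unusedVariables false
universe u
open CategoryTheory CategoryTheory.Limits Opposite TopologicalSpace AlgebraicGeometry

namespace Groth.Agent.Lib.Helper22.EGA7

section Seesaw2

open Groth.Agent.Lib.Helper29.QCoh

variable {X Y : Scheme.{u}} (f : X ⟶ Y)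

/-- `H⁰(X_y, O_X|_{X_y}) ≃ Γ(X_y, O)`, linearly over the residue field. -/
theorem nonempty_fiberH_unit_linearEquiv (y : Y) :
    Nonempty (CohIII.fiberH f (unitM X) y 0 ≃ₗ[Y.residueField y] Γ(f.fiber y, ⊤)) := by
  let w : CohIII.fiberH f (unitM X) y 0 ≃+ Coh.HH (f.fiber y) (unitM (f.fiber y)) 0 :=
    ((CohIII.HAb (f.fiber y) 0).mapIso (pullbackUnitIso (f.fiberι y))).addCommGroupIsoToAddEquiv
  exact ⟨{ (w.trans (hh0 (unitM (f.fiber y)))) with
      map_smul' := fun a x => by
        change hh0 (unitM (f.fiber y))
          (w (Coh.toGlobal (f.fiberToSpecResidueField y) a • x)) = _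
        have h1 : w (Coh.toGlobal (f.fiberToSpecResidueField y) a • x) =
            Coh.toGlobal (f.fiberToSpecResidueField y) a • w x :=
          HH_map_smul (pullbackUnitIso (f.fiberι y)).hom 0
            (Coh.toGlobal (f.fiberToSpecResidueField y) a) x
        rw [h1, hh0_smul]
        rfl }⟩

/-- An integral proper fibre over an algebraically closed residue field has `h⁰(O) = 1`. -/
theorem fiberRank_unit_eq_one_of_isAlgClosed [IsProper f] (y : Y) [IsIntegral (f.fiber y)]
    [IsAlgClosed (Y.residueField y)] : CohIII.fiberRank f (unitM X) 0 y = 1 := by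
  rw [fiberRank_unit_zero]
  haveI : IsProper (f.fiberToSpecResidueField y) :=
    MorphismProperty.pullback_snd (P := @IsProper) f (Y.fromSpecResidueField y) inferInstance
  haveI : Nonempty (⊤ : (f.fiber y).Opens) := ⟨⟨Nonempty.some inferInstance, trivial⟩⟩
  haveI : IsDomain Γ(f.fiber y, ⊤) := inferInstance
  have hint : (algebraMap (Y.residueField y) Γ(f.fiber y, ⊤)).IsIntegral := by
    change ((f.fiberToSpecResidueField y).appTop.hom.comp
      (Scheme.ΓSpecIso (Y.residueField y)).inv.hom).IsIntegral
    refine RingHom.IsIntegral.trans _ _ ?_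
      (isIntegral_appTop_of_universallyClosed (f.fiberToSpecResidueField y))
    apply RingHom.isIntegral_of_surjective
    exact ((ConcreteCategory.isIso_iff_bijective
      (Scheme.ΓSpecIso (Y.residueField y)).inv).mp inferInstance).2
  haveI : Algebra.IsIntegral (Y.residueField y) Γ(f.fiber y, ⊤) := ⟨hint⟩
  have hb : Function.Bijective (algebraMap (Y.residueField y) Γ(f.fiber y, ⊤)) :=
    IsAlgClosed.algebraMap_bijective_of_isIntegral
  have hb' : Function.Bijective (Algebra.linearMap (Y.residueField y) Γ(f.fiber y, ⊤)) := hb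
  rw [← (LinearEquiv.ofBijective _ hb').finrank_eq]
  exact Module.finrank_self _

/-- **`h⁰(X_y, O) = 1` everywhere** when all fibres are integral, the base is quasi-compact and
the residue fields of the closed points are algebraically closed. -/
theorem fiberRank_unit_eq_one_of_forall_closed [IsProper f] [Flat f] [IsLocallyNoetherian Y]
    [CompactSpace Y] (hint : ∀ y : Y, IsIntegral (f.fiber y))
    (hcl : ∀ y : Y, IsClosed ({y} : Set Y) → IsAlgClosed (Y.residueField y)) (y : Y) :
    CohIII.fiberRank f (unitM X) 0 y = 1 := by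
  have hN : PicF.IsInvertible (unitM X) := isInvertible_unit X
  have hNcoh : Coh.IsCoh (unitM X) :=
    ⟨isQuasicoherent_of_isInvertible hN, isFiniteType_of_isInvertible hN⟩
  have hNfl : FlatMod.IsFlatOver f (unitM X) :=
    isFlatOver_of_isFlat f _ (Groth.Agent.Lib.Lead.TwistExact.isFlat_of_isInvertible hN)
  -- upper bound by semicontinuity
  have hle : CohIII.fiberRank f (unitM X) 0 y ≤ 1 := by
    by_contra hlt
    have hS := isClosed_setOf_le_fiberRank f (unitM X) hNcoh hNfl 0 2
    obtain ⟨y₀, hy₀, hy₀cl⟩ := hS.exists_closed_singleton ⟨y, by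
      change 2 ≤ CohIII.fiberRank f (unitM X) 0 y
      omega⟩
    haveI := hint y₀
    haveI := hcl y₀ hy₀cl
    have h1 := fiberRank_unit_eq_one_of_isAlgClosed f y₀
    have h2 : 2 ≤ CohIII.fiberRank f (unitM X) 0 y₀ := hy₀
    omega
  -- lower bound: the fibre is nonempty
  have hge : 1 ≤ CohIII.fiberRank f (unitM X) 0 y := by
    haveI := hint y
    haveI : Module.Finite (Y.residueField y) (CohIII.fiberH f (unitM X) y 0) :=
      finite_fiberH f (unitM X) hNcoh hNfl 0 y
    obtain ⟨E⟩ := nonempty_fiberH_unit_linearEquiv f y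
    haveI : Nonempty (⊤ : (f.fiber y).Opens) := ⟨⟨Nonempty.some inferInstance, trivial⟩⟩
    haveI : Nontrivial Γ(f.fiber y, ⊤) := Scheme.component_nontrivial (f.fiber y) ⊤
    haveI : Nontrivial (CohIII.fiberH f (unitM X) y 0) := E.toEquiv.nontrivial
    have hpos := Module.finrank_pos (R := Y.residueField y)
      (M := CohIII.fiberH f (unitM X) y 0)
    exact hpos
  omega

end Seesaw2

end Groth.Agent.Lib.Helper22.EGA7
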